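import Cfsg.Agent.Lib.OddOrder.BG14.Cosets

/-!
# BG 14.5: the number of elements in the conjugates of the cosets `x R(x)`
-/

set_option autoImplicit false
set_option linter.style.haveILetI false
set_option linter.unusedSectionVars false

open scoped Pointwise

namespace Cfsg.Agent.Lib.OddOrder.BG14.Count

open Cfsg.Agent.Lib.OddOrder Cfsg.Agent.Lib.OddOrder.MinSimple
  Cfsg.Agent.Lib.OddOrder.BG14.ElementDichotomy Cfsg.Agent.Lib.OddOrder.BG14.Support

universe u

variable {G : Type u} [Group G] [Finite G] {M B : Subgroup G} {x : G}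

theorem coatom_conj (hM : IsCoatom M) (g : G) : IsCoatom (M.map (MulAut.conj g).toMonoidHom) :=
  PF8.Conj.im_isCoatom (MulAut.conj g) hM

theorem sigmaCore_conj (M : Subgroup G) (g : G) :
    (Cfsg.sigmaCore M).map (MulAut.conj g).toMonoidHom =
      Cfsg.sigmaCore (M.map (MulAut.conj g).toMonoidHom) :=
  Conj.im_sigmaCore (MulAut.conj g) M

/-- `R(x)` complements `C_M(x)` in `C_G(x)`. -/
theorem supportR_compl (h2 : TypePFixed G) (hG : Cfsg.IsMinSimpleOddOrder G) (hM : IsCoatom M)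
    (hx : x ∈ Cfsg.sigmaCore M) (hx1 : x ≠ 1) :
    Cfsg.IsComplIn (M ⊓ Subgroup.centralizer ({x} : Set G)) (Cfsg.supportR M x)
      (Subgroup.centralizer ({x} : Set G)) := by
  by_cases hxM : Subgroup.centralizer ({x} : Set G) ≤ M
  · rw [supportR_of_le hxM]
    exact ⟨inf_le_right, bot_le, inf_bot_eq _,
      fun m hm => ⟨m, ⟨hxM hm, hm⟩, 1, one_mem _, (mul_one m).symm⟩⟩
  · obtain ⟨N, h⟩ := exists_spec h2 hG hM hx hx1 hxM
    rw [h.supportR_eq hxM]
    exact h.complC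

/-- `R(x)` is regular on the conjugates of `M` through `x`. -/
theorem existsUnique_support (h2 : TypePFixed G) (hG : Cfsg.IsMinSimpleOddOrder G) (hM : IsCoatom M)
    (hx : x ∈ Cfsg.sigmaCore M) (hx1 : x ≠ 1) {g : G} (hg : x ∈ M.map (MulAut.conj g).toMonoidHom) :
    ∃! r : G, r ∈ Cfsg.supportR M x ∧
      M.map (MulAut.conj r).toMonoidHom = M.map (MulAut.conj g).toMonoidHom := by
  have hR := supportR_compl h2 hG hM hx hx1
  obtain ⟨c, hc, hcg⟩ := exists_centralizer_conj hG hM hx hx1 hg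
  obtain ⟨r, hr, e, he, hce⟩ := (Basic.isComplIn_symm hR).2.2.2 c hc
  refine ⟨r, ⟨hr, ?_⟩, fun r' hr' => ?_⟩
  · rw [← hcg, hce, TauTwoSigma.map_conj_mul, TauTwoSigma.map_conj_self he.1]
  · have h1 : M.map (MulAut.conj (r⁻¹ * r')).toMonoidHom = M := by
      rw [TauTwoSigma.map_conj_mul, hr'.2, ← hcg, hce, TauTwoSigma.map_conj_mul,
        TauTwoSigma.map_conj_self he.1, TauTwoSigma.map_conj_inv_map]
    have h3 : r⁻¹ * r' = 1 := Subgroup.mem_bot.1 (hR.2.2.1 ▸
      ⟨⟨SupportRows.mem_of_map_eq hG hM h1,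
        hR.2.1 (Subgroup.mul_mem _ (Subgroup.inv_mem _ hr) hr'.1)⟩,
        Subgroup.mul_mem _ (Subgroup.inv_mem _ hr) hr'.1⟩)
    exact (inv_mul_eq_one.1 h3).symm

/-- Two conjugates through `x` give the same `R(x)`. -/
theorem supportR_eq_of_conj (h2 : TypePFixed G) (hG : Cfsg.IsMinSimpleOddOrder G) (hM : IsCoatom M)
    (hB : IsCoatom B) {g : G} (hg : B = M.map (MulAut.conj g).toMonoidHom)
    (hx : x ∈ Cfsg.sigmaCore M) (hxB : x ∈ Cfsg.sigmaCore B) (hx1 : x ≠ 1) :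
    Cfsg.supportR B x = Cfsg.supportR M x := by
  have key : ∀ (A C : Subgroup G), IsCoatom A → x ∈ Cfsg.sigmaCore A → x ∈ Cfsg.sigmaCore C →
      (∃ a : G, C = A.map (MulAut.conj a).toMonoidHom) →
      Subgroup.centralizer ({x} : Set G) ≤ A → C = A := by
    rintro A C hA hxA hxC ⟨a, rfl⟩ hle
    obtain ⟨c, hc, hce⟩ := exists_centralizer_conj hG hA hxA hx1 (g := a)
      (OddTau.Basic.sigmaCore_le _ hxC)
    rw [← hce, TauTwoSigma.map_conj_self (hle hc)]
  by_cases hxM : Subgroup.centralizer ({x} : Set G) ≤ M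
  · rw [key M B hM hx hxB ⟨g, hg⟩ hxM]
  by_cases hxB' : Subgroup.centralizer ({x} : Set G) ≤ B
  · rw [key B M hB hxB hx ⟨g⁻¹, by rw [hg, TauTwoSigma.map_conj_inv_map]⟩ hxB']
  obtain ⟨N, h⟩ := exists_spec h2 hG hM hx hx1 hxM
  obtain ⟨N', h'⟩ := exists_spec h2 hG hB hxB hx1 hxB'
  rw [h'.supportR_eq hxB', h.supportR_eq hxM, h.uniq N' h'.max h'.le]

/-- `R(x)` commutes with conjugation. -/
theorem supportR_conj (h2 : TypePFixed G) (hG : Cfsg.IsMinSimpleOddOrder G) (hM : IsCoatom M)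
    (hx : x ∈ Cfsg.sigmaCore M) (hx1 : x ≠ 1) (y : G) :
    (Cfsg.supportR M x).map (MulAut.conj y).toMonoidHom =
      Cfsg.supportR (M.map (MulAut.conj y).toMonoidHom) (y * x * y⁻¹) := by
  have hC : (Subgroup.centralizer ({x} : Set G)).map (MulAut.conj y).toMonoidHom =
      Subgroup.centralizer ({y * x * y⁻¹} : Set G) :=
    PF8.Conj.im_centralizer_singleton (MulAut.conj y) x
  by_cases hxM : Subgroup.centralizer ({x} : Set G) ≤ M
  · rw [supportR_of_le hxM, supportR_of_le (hC ▸ Subgroup.map_mono hxM), Subgroup.map_bot]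
  · have hxM' : ¬ Subgroup.centralizer ({y * x * y⁻¹} : Set G) ≤ M.map (MulAut.conj y).toMonoidHom :=
      hC ▸ fun h => hxM ((Subgroup.map_le_map_iff_of_injective (MulAut.conj y).injective).1 h)
    obtain ⟨N, h⟩ := exists_spec h2 hG hM hx hx1 hxM
    have hx' : y * x * y⁻¹ ∈ Cfsg.sigmaCore (M.map (MulAut.conj y).toMonoidHom) := by
      rw [← sigmaCore_conj]; exact ⟨x, hx, rfl⟩
    have h' := spec_of h2 hG (coatom_conj hM y) hx' (by simpa using hx1) hxM' (coatom_conj h.max y)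
      (hC ▸ Subgroup.map_mono h.le)
    rw [h.supportR_eq hxM, h'.supportR_eq hxM', ← hC, ← sigmaCore_conj,
      Subgroup.map_inf _ _ _ (MulAut.conj y).injective]

/-- The pairs `(x, M')`, `M'` conjugate to `M`, `x ∈ M'_σ`, `x ≠ 1`. -/
def Pairs (M : Subgroup G) : Type u :=
  {p : G × Subgroup G // p.1 ∈ Cfsg.sigmaCore p.2 ∧ p.1 ≠ 1 ∧
    ∃ g : G, p.2 = M.map (MulAut.conj g).toMonoidHom}

theorem card_pairs (hG : Cfsg.IsMinSimpleOddOrder G) (hM : IsCoatom M) :
    Nat.card (Pairs M) = (Nat.card (Cfsg.sigmaCore M) - 1) * M.index := by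
  let S : Set G := (Cfsg.sigmaCore M : Set G) \ {1}
  let F : (G ⧸ M) × S → Pairs M := fun p =>
    ⟨(p.1.out * p.2 * p.1.out⁻¹, M.map (MulAut.conj p.1.out).toMonoidHom),
      by rw [← sigmaCore_conj]; exact ⟨p.2, p.2.2.1, rfl⟩,
      fun e => p.2.2.2 (conj_eq_one_iff.1 e), p.1.out, rfl⟩
  have hF : Function.Bijective F := by
    refine ⟨fun a b h => ?_, fun ⟨⟨x, B⟩, hx, hx1, g, hg⟩ => ?_⟩
    · have h1 := congrArg Subtype.val h
      simp only [F, Prod.mk.injEq] at h1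
      have hq : a.1 = b.1 := by
        have h2 : M.map (MulAut.conj (b.1.out⁻¹ * a.1.out)).toMonoidHom = M := by
          rw [TauTwoSigma.map_conj_mul, h1.2, TauTwoSigma.map_conj_inv_map]
        rw [← QuotientGroup.out_eq' a.1, ← QuotientGroup.out_eq' b.1, QuotientGroup.eq]
        simpa using M.inv_mem (SupportRows.mem_of_map_eq hG hM h2)
      obtain ⟨a1, a2⟩ := a; obtain ⟨b1, b2⟩ := b
      simp only at hq h1
      subst hq
      exact Prod.ext rfl (Subtype.ext (mul_left_cancel (mul_right_cancel h1.1)))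
    · obtain ⟨m, hm⟩ := QuotientGroup.mk_out_eq_mul M g
      have hB : M.map (MulAut.conj (g : G ⧸ M).out).toMonoidHom = B := by
        rw [hm, TauTwoSigma.map_conj_mul, TauTwoSigma.map_conj_self m.2]
        exact hg.symm
      have hz : (g : G ⧸ M).out⁻¹ * x * (g : G ⧸ M).out ∈ S := by
        refine ⟨?_, fun e => hx1 ?_⟩
        · rw [← hB, ← sigmaCore_conj] at hx
          obtain ⟨z, hz, he⟩ := hx
          rw [← show (g : G ⧸ M).out * z * (g : G ⧸ M).out⁻¹ = x from he]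
          simpa [mul_assoc] using hz
        · have he : (g : G ⧸ M).out⁻¹ * x * (g : G ⧸ M).out = 1 := e
          show x = 1
          calc x = (g : G ⧸ M).out * ((g : G ⧸ M).out⁻¹ * x * (g : G ⧸ M).out) *
                (g : G ⧸ M).out⁻¹ := by group
            _ = 1 := by rw [he]; group
      exact ⟨((g : G ⧸ M), ⟨_, hz⟩), Subtype.ext (Prod.ext (by simp [F, mul_assoc]) hB)⟩
  rw [← Nat.card_congr (Equiv.ofBijective F hF), Nat.card_prod, Subgroup.index, mul_comm]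
  congr 1
  rw [Nat.card_coe_set_eq, Set.ncard_sdiff_singleton_of_mem (Cfsg.sigmaCore M).one_mem,
    ← Nat.card_coe_set_eq]
  rfl

/-- S1377 from 14.2. -/
theorem card_tildeOf (h2 : TypePFixed G) (hG : Cfsg.IsMinSimpleOddOrder G) (hM : IsCoatom M) :
    Set.ncard (Cfsg.tildeOf M ((Cfsg.sigmaCore M : Set G) \ {1})) =
      (Nat.card (Cfsg.sigmaCore M) - 1) * M.index := by
  classical
  rw [← card_pairs hG hM]
  let Q : G → Prop := fun x => ∃ B : Subgroup G, x ∈ Cfsg.sigmaCore B ∧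
    ∃ g : G, B = M.map (MulAut.conj g).toMonoidHom
  let base : (x : G) → Q x → Subgroup G := fun _ h => Classical.choose h
  have base_mem : ∀ x (h : Q x), x ∈ Cfsg.sigmaCore (base x h) :=
    fun _ h => (Classical.choose_spec h).1
  have base_conj : ∀ x (h : Q x), ∃ g : G, base x h = M.map (MulAut.conj g).toMonoidHom :=
    fun _ h => (Classical.choose_spec h).2
  have base_max : ∀ x (h : Q x), IsCoatom (base x h) := fun x h => by
    obtain ⟨g, hg⟩ := base_conj x h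
    exact hg ▸ coatom_conj hM g
  have hQ : ∀ p : Pairs M, Q p.1.1 := fun p => ⟨p.1.2, p.2.1, p.2.2.2⟩
  have hexu : ∀ p : Pairs M, ∃! r : G, r ∈ Cfsg.supportR (base p.1.1 (hQ p)) p.1.1 ∧
      (base p.1.1 (hQ p)).map (MulAut.conj r).toMonoidHom = p.1.2 := fun p => by
    obtain ⟨g₁, hg₁⟩ := base_conj p.1.1 (hQ p)
    obtain ⟨g₂, hg₂⟩ := p.2.2.2
    have he : (base p.1.1 (hQ p)).map (MulAut.conj (g₂ * g₁⁻¹)).toMonoidHom = p.1.2 := by
      rw [hg₁, TauTwoSigma.map_conj_mul, TauTwoSigma.map_conj_inv_map, hg₂]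
    have := existsUnique_support h2 hG (base_max _ (hQ p)) (base_mem _ (hQ p)) p.2.2.1
      (g := g₂ * g₁⁻¹) (by rw [he]; exact OddTau.Basic.sigmaCore_le _ p.2.1)
    rwa [he] at this
  let r : Pairs M → G := fun p => Classical.choose (hexu p).exists
  have hr : ∀ p, r p ∈ Cfsg.supportR (base p.1.1 (hQ p)) p.1.1 ∧
      (base p.1.1 (hQ p)).map (MulAut.conj (r p)).toMonoidHom = p.1.2 :=
    fun p => Classical.choose_spec (hexu p).exists
  have hmem : ∀ p : Pairs M,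
      p.1.1 * r p ∈ Cfsg.tildeOf M ((Cfsg.sigmaCore M : Set G) \ {1}) := fun p => by
    obtain ⟨y, hy⟩ := base_conj p.1.1 (hQ p)
    obtain ⟨a, ha, hae⟩ : p.1.1 ∈ (Cfsg.sigmaCore M).map (MulAut.conj y).toMonoidHom := by
      rw [sigmaCore_conj, ← hy]; exact base_mem _ (hQ p)
    have hae' : y * a * y⁻¹ = p.1.1 := hae
    have ha1 : a ≠ 1 := fun e => p.2.2.1 (by rw [← hae', e]; group)
    obtain ⟨r₀, hr₀, hre⟩ : r p ∈ (Cfsg.supportR M a).map (MulAut.conj y).toMonoidHom := by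
      rw [supportR_conj h2 hG hM ha ha1, hae', ← hy]; exact (hr p).1
    refine ⟨a, ⟨ha, ha1⟩, r₀, hr₀, y, ?_⟩
    rw [← hre, ← hae', show (MulAut.conj y).toMonoidHom r₀ = y * r₀ * y⁻¹ from rfl]
    group
  let f : Pairs M → Cfsg.tildeOf M ((Cfsg.sigmaCore M : Set G) \ {1}) :=
    fun p => ⟨p.1.1 * r p, hmem p⟩
  have hf : Function.Bijective f := by
    refine ⟨fun p p' h => ?_, ?_⟩
    · have he : p.1.1 * r p = p'.1.1 * r p' := congrArg Subtype.val h
      obtain ⟨g, hg⟩ := base_conj p.1.1 (hQ p)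
      obtain ⟨g', hg'⟩ := base_conj p'.1.1 (hQ p')
      have hσ : Cfsg.sigma (base p'.1.1 (hQ p')) = Cfsg.sigma (base p.1.1 (hQ p)) := by
        rw [Cosets.sigma_eq_of_conj hg, Cosets.sigma_eq_of_conj hg']
      have hx : p.1.1 = p'.1.1 := Cosets.eq_of_conj h2 hG (base_max _ (hQ p)) (base_max _ (hQ p'))
        hσ (base_mem _ (hQ p)) (base_mem _ (hQ p')) p.2.2.1 p'.2.2.1 (hr p).1 (hr p').1 he
      rw [hx] at he
      have hre : r p = r p' := mul_left_cancel he
      have hb : base p.1.1 (hQ p) = base p'.1.1 (hQ p') := by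
        simp only [base, Q, hx]
      exact Subtype.ext (Prod.ext hx (by rw [← (hr p).2, ← (hr p').2, hre, hb]))
    · rintro ⟨t, a, ⟨ha, ha1⟩, r₀, hr₀, y, rfl⟩
      have ha1' : a ≠ 1 := ha1
      have hx1 : y * a * y⁻¹ ≠ 1 := fun e => ha1' (conj_eq_one_iff.1 e)
      have hxM : y * a * y⁻¹ ∈ Cfsg.sigmaCore (M.map (MulAut.conj y).toMonoidHom) := by
        rw [← sigmaCore_conj]; exact ⟨a, ha, rfl⟩
      have hQx : Q (y * a * y⁻¹) := ⟨_, hxM, y, rfl⟩
      set B := base _ hQx with hB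
      have hr' : y * r₀ * y⁻¹ ∈ Cfsg.supportR B (y * a * y⁻¹) := by
        obtain ⟨g, hg⟩ := base_conj _ hQx
        rw [supportR_eq_of_conj h2 hG (coatom_conj hM y) (base_max _ hQx) (g := g * y⁻¹)
          (by rw [TauTwoSigma.map_conj_mul, TauTwoSigma.map_conj_inv_map]; exact hg) hxM
          (base_mem _ hQx) hx1, ← supportR_conj h2 hG hM ha ha1']
        exact ⟨r₀, hr₀, rfl⟩
      have hcomm := Cosets.supportR_le_centralizer h2 hG (base_max _ hQx) (base_mem _ hQx) hx1 hr'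
      have hpm : y * a * y⁻¹ ∈ Cfsg.sigmaCore (B.map (MulAut.conj (y * r₀ * y⁻¹)).toMonoidHom) := by
        rw [← sigmaCore_conj]
        exact ⟨y * a * y⁻¹, base_mem _ hQx, by
          show (y * r₀ * y⁻¹) * (y * a * y⁻¹) * (y * r₀ * y⁻¹)⁻¹ = y * a * y⁻¹
          rw [← hcomm.eq, mul_inv_cancel_right]⟩
      obtain ⟨g, hg⟩ := base_conj _ hQx
      let p : Pairs M := ⟨(y * a * y⁻¹, B.map (MulAut.conj (y * r₀ * y⁻¹)).toMonoidHom),
        hpm, hx1, y * r₀ * y⁻¹ * g, by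
          show B.map _ = _
          rw [hB, hg]
          exact (TauTwoSigma.map_conj_mul _ _ _).symm⟩
      have hrp : r p = y * r₀ * y⁻¹ := (hexu p).unique (hr p) ⟨hr', rfl⟩
      refine ⟨p, Subtype.ext ?_⟩
      show y * a * y⁻¹ * r p = y * (a * r₀) * y⁻¹
      rw [hrp]
      group
  rw [← Nat.card_coe_set_eq]
  exact (Nat.card_congr (Equiv.ofBijective f hf)).symm

end Cfsg.Agent.Lib.OddOrder.BG14.Count
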