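import Cfsg.Agent.Lib.OddOrder.BG14.TauTwoSigma
import Cfsg.Agent.S1420

/-!
# BG 14.3: a `σ(M)'`-element centralizing an element of `M_σ`
-/

set_option autoImplicit false
set_option linter.style.haveILetI false
set_option linter.unusedSectionVars false

open scoped Pointwise

namespace Cfsg.Agent.Lib.OddOrder.BG14.ElementDichotomy

open Cfsg.Agent.Lib.OddOrder Cfsg.Agent.Lib.OddOrder.MinSimple

universe u

/-- What 14.3-14.5 need from BG 14.2 (parts of S1430 and S1431; `K` need not be cyclic). -/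
def TypePFixed (G : Type u) [Group G] : Prop :=
  ∀ M : Subgroup G, IsCoatom M → ∀ K : Subgroup G, Cfsg.IsPiHallOf (Cfsg.kappa M) K M → K ≠ ⊥ →
    (∀ k ∈ K, k ≠ 1 → Cfsg.sigmaCore M ⊓ Subgroup.centralizer ({k} : Set G) =
      Cfsg.sigmaCore M ⊓ Subgroup.centralizer (K : Set G)) ∧
    (∀ X : Subgroup G, X ≤ K → (Nat.card X).Prime → M ⊓ Subgroup.normalizer (X : Set G) =
      K ⊔ (Cfsg.sigmaCore M ⊓ Subgroup.centralizer (K : Set G))) ∧
    ∀ g : G, g ∉ M → (Cfsg.sigmaCore M ⊓ Subgroup.centralizer (K : Set G)) ⊓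
      M.map (MulAut.conj g).toMonoidHom = ⊥

variable {G : Type u} [Group G] [Finite G] {M : Subgroup G}

theorem pow_prime_mem {x : G} {p : ℕ} (hd : p ∣ orderOf x) :
    orderOf (x ^ (orderOf x / p)) = p ∧ x ^ (orderOf x / p) ∈ Subgroup.zpowers x :=
  ⟨OddTau.Regular.exists_pow_prime_order hd, pow_mem (Subgroup.mem_zpowers x) _⟩

/-- The primes of `x'` are in `κ(M) ∪ τ₂(M)`. -/
theorem mem_kappa_or_tau2 (hG : Cfsg.IsMinSimpleOddOrder G) (hM : IsCoatom M) {x x' : G}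
    (hx : x ∈ Cfsg.sigmaCore M) (hx1 : x ≠ 1) (hx'M : x' ∈ M) (hc : x' * x = x * x') {p : ℕ}
    (hp : p.Prime) (hd : p ∣ orderOf x') (hσ : p ∉ Cfsg.sigma M) :
    p ∈ Cfsg.kappa M ∨ p ∈ Cfsg.tau2 M := by
  have hpM : p ∣ Nat.card M := hd.trans (by
    rw [show x' = ((⟨x', hx'M⟩ : M) : G) from rfl, Subgroup.orderOf_coe]; exact orderOf_dvd_natCard _)
  refine (NonKappa.mem_tau_cases hG hM hp hpM hσ).imp_left fun hτ => ?_
  obtain ⟨hyo, hy⟩ := pow_prime_mem hd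
  exact NonKappa.mem_kappa_of_fixed hG hτ (Subgroup.zpowers_le.2 hx'M hy) hyo hx hx1
    ((show Commute x' x from hc).pow_left _).eq

/-- BG 14.3, case `κ`. -/
theorem kappa_case (h2 : TypePFixed G) (hG : Cfsg.IsMinSimpleOddOrder G) (hM : IsCoatom M)
    {x x' : G} (hx : x ∈ Cfsg.sigmaCore M) (hx1 : x ≠ 1) (hx'M : x' ∈ M) (hc : x' * x = x * x')
    (hσ : ∀ q : ℕ, q.Prime → q ∣ orderOf x' → q ∉ Cfsg.sigma M) {p : ℕ} (hp : p.Prime)
    (hd : p ∣ orderOf x') (hκ : p ∈ Cfsg.kappa M) :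
    (∀ q : ℕ, q.Prime → q ∣ orderOf x' → q ∈ Cfsg.kappa M) ∧
      Subgroup.centralizer ({x} : Set G) ≤ M := by
  haveI := Fact.mk hp
  haveI := solvable_of_ne_top hG hM.1
  obtain ⟨hyo, hy⟩ := pow_prime_mem hd
  set y := x' ^ (orderOf x' / p) with hydef
  have hyM : y ∈ M := Subgroup.zpowers_le.2 hx'M hy
  obtain ⟨H, ⟨hH1, hH2⟩, hyH⟩ := Hall.exists_isPiHall_ge (G := M) (π := Cfsg.kappa M)
    (K := Subgroup.zpowers (⟨y, hyM⟩ : M)) fun q hq hqd => by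
      rw [Nat.card_zpowers, Subgroup.orderOf_mk, hyo] at hqd
      exact (Nat.prime_dvd_prime_iff_eq hq hp).1 hqd ▸ hκ
  set K := H.map M.subtype with hK
  have hKh : Cfsg.IsPiHallOf (Cfsg.kappa M) K M := by
    refine ⟨Subgroup.map_subtype_le _, fun q hq h => hH1 q hq (by
      rwa [hK, Subgroup.card_map_of_injective M.subtype_injective] at h), fun q hq hqκ => ?_⟩
    rw [hK, Basic.relIndex_map_subtype]
    exact hH2 q hq hqκ
  have hyK : y ∈ K := ⟨⟨y, hyM⟩, hyH (Subgroup.mem_zpowers _), rfl⟩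
  have hy1 : y ≠ 1 := fun e => hp.ne_one (by rw [← hyo, e, orderOf_one])
  have hK1 : K ≠ ⊥ := fun e => hy1 (by rwa [e, Subgroup.mem_bot] at hyK)
  obtain ⟨hfix, hnor, hTI⟩ := h2 M hM K hKh hK1
  set Ks := Cfsg.sigmaCore M ⊓ Subgroup.centralizer (K : Set G) with hKs
  have hxK : x ∈ Ks := by
    rw [← hfix y hyK hy1]
    exact ⟨hx, Subgroup.mem_centralizer_singleton_iff.2
      ((show Commute x' x from hc).pow_left _).eq.symm⟩
  refine ⟨fun q hq hqd => ?_, ?_⟩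
  · have hx'N : x' ∈ K ⊔ Ks := by
      rw [← hnor (Subgroup.zpowers y) (Subgroup.zpowers_le.2 hyK)
        (by rw [Nat.card_zpowers, hyo]; exact hp)]
      exact ⟨hx'M, Subgroup.centralizer_le_normalizer _ (Subgroup.mem_centralizer_iff.2 fun v hv =>
        (show Commute v x' by
          obtain ⟨i, rfl⟩ := hv
          exact ((Commute.refl x').pow_left _).zpow_left i).eq)⟩
    haveI := Fact.mk hq
    have hn : Ks ≤ Subgroup.normalizer (K : Set G) :=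
      inf_le_right.trans (Subgroup.centralizer_le_normalizer _)
    have hqd' : q ∣ Nat.card ↥(K ⊔ Ks) := hqd.trans (by
      rw [show x' = ((⟨x', hx'N⟩ : ↥(K ⊔ Ks)) : G) from rfl, Subgroup.orderOf_coe]
      exact orderOf_dvd_natCard _)
    rcases SigmaSubgroup.relIndex_sup_right_le q hq hqd' hn with h | h
    · exact hKh.2.1 q hq h
    · exact absurd (OddTau.Basic.mem_sigma_of_dvd hq (h.trans (Subgroup.card_dvd_of_le inf_le_left)))
        (hσ q hq hqd)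
  · intro c hcx
    by_contra hcM
    refine hx1 (Subgroup.mem_bot.1 (hTI c hcM ▸ ⟨hxK, x, OddTau.Basic.sigmaCore_le M hx, ?_⟩))
    show c * x * c⁻¹ = x
    rw [(Subgroup.mem_centralizer_singleton_iff.1 hcx), mul_inv_cancel_right]

/-- BG 14.3. -/
theorem dichotomy (h2 : TypePFixed G) (hG : Cfsg.IsMinSimpleOddOrder G) (hM : IsCoatom M)
    {x x' : G} (hx : x ∈ Cfsg.sigmaCore M) (hx1 : x ≠ 1)
    (hx' : x' ∈ M ⊓ Subgroup.centralizer ({x} : Set G)) (hx'1 : x' ≠ 1)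
    (hσ : ∀ p : ℕ, p.Prime → p ∣ orderOf x' → p ∉ Cfsg.sigma M) :
    ((∀ p : ℕ, p.Prime → p ∣ orderOf x' → p ∈ Cfsg.kappa M) ∧
        Subgroup.centralizer ({x} : Set G) ≤ M) ∨
      ((∀ p : ℕ, p.Prime → p ∣ orderOf x' → p ∈ Cfsg.tau2 M) ∧
        (∃ L : Subgroup G, IsCoatom L ∧ ∀ p : ℕ, p.Prime → p ∣ orderOf x' → p ∈ Cfsg.sigma L) ∧
        (Subgroup.centralizer ({x'} : Set G) ≤ M ∧ ∀ L : Subgroup G, IsCoatom L →
          Subgroup.centralizer ({x'} : Set G) ≤ L → L = M)) := by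
  have hc : x' * x = x * x' := Subgroup.mem_centralizer_singleton_iff.1 hx'.2
  by_cases hall : ∀ p : ℕ, p.Prime → p ∣ orderOf x' → p ∈ Cfsg.tau2 M
  · refine Or.inr ⟨hall, ?_, ?_⟩
    · obtain ⟨p, hp, hd⟩ := Nat.exists_prime_and_dvd fun e => hx'1 (orderOf_eq_one_iff.1 e)
      obtain ⟨L, hL, hLσ⟩ := TauTwoSigma.exists_sigma_tau2 hG hM ⟨p, hall p hp hd⟩
      exact ⟨L, hL, fun q hq hqd => hLσ (hall q hq hqd)⟩
    · obtain ⟨E, hE⟩ := MaximalBasics.exists_compl hG hM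
      exact (Cfsg.Agent.S1420.result hG M hM E hE).2.2.2 x' hx'.1 hx'1 hall
        ⟨hx'.1, x, hx, hx1, hc⟩
  · obtain ⟨p, hp, hd, hτ⟩ : ∃ p : ℕ, p.Prime ∧ p ∣ orderOf x' ∧ p ∉ Cfsg.tau2 M := by
      simpa using hall
    exact Or.inl (kappa_case h2 hG hM hx hx1 hx'.1 hc hσ hp hd
      ((mem_kappa_or_tau2 hG hM hx hx1 hx'.1 hc hp hd (hσ p hp hd)).resolve_right hτ))

end Cfsg.Agent.Lib.OddOrder.BG14.ElementDichotomy
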