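import Cfsg.Agent.Lib.OddOrder.BG14.KappaStar
import Cfsg.Agent.Lib.OddOrder.BG14.ElementDichotomy

/-!
# Discharge of `ElementDichotomy.TypePFixed`
-/

set_option autoImplicit false

namespace Cfsg.Agent.Lib.OddOrder.BG14.TypePFixedProof

universe u

theorem typePFixed {G : Type u} [Group G] [Finite G] (hG : Cfsg.IsMinSimpleOddOrder G) :
    ElementDichotomy.TypePFixed G := by
  intro M hM K hK hK1
  refine ⟨fun k hk hk1 => ?_, fun X hXK hXp => ?_, fun g hg =>
    KappaStar.star_inf_conj hG hM hK hK1 hg⟩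
  · obtain ⟨p, _, X, hXK, hXc⟩ := KappaStar.exists_line hK1
    exact (KappaStar.prime_action hG hM hK hXK hXc).2 k hk hk1
  · haveI := Fact.mk hXp
    exact (KappaStar.inf_normalizer hG hM hK hXK (p := Nat.card X) rfl).1

end Cfsg.Agent.Lib.OddOrder.BG14.TypePFixedProof
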