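import Cfsg.Agent.Lib.OddOrder.BG14.Decomposition

/-!
# BG 14.2 (f): `σ(M) = β(M)` for `M` of type `P₂`
-/

set_option autoImplicit false
set_option linter.style.haveILetI false
set_option linter.unusedSectionVars false

open scoped Pointwise commutatorElement

namespace Cfsg.Agent.Lib.OddOrder.BG14.SigmaBeta

open Cfsg.Agent.Lib.OddOrder Cfsg.Agent.Lib.OddOrder.MinSimple

universe u

variable {G : Type u} [Group G] [Finite G] {M K U : Subgroup G}

/-- `U ≤ M'`. -/
theorem le_derived (hG : Cfsg.IsMinSimpleOddOrder G) (hM : IsCoatom M)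
    (h : Cfsg.IsSigmaDecomposition M K U) (hK : K ≠ ⊥) : U ≤ ⁅M, M⁆ := by
  obtain ⟨k, hk, hk1⟩ := K.bot_or_exists_ne_one.resolve_left hK
  haveI := solvable_of_ne_top hG hM.1
  have hcop : (Nat.card (Subgroup.zpowers k)).Coprime (Nat.card U) :=
    Nat.coprime_of_dvd fun q hq h1 h2 => (Decomposition.prime_U hG hM h hq h2).1
      (h.hall.2.1 q hq (h1.trans (Subgroup.card_dvd_of_le (Subgroup.zpowers_le.2 hk))))
  have h1 := Coprime.commutator_sup_centralizer (Subgroup.zpowers_le.2 (h.normal hk)) hcop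
    (Or.inr (Coprime.isSolvable_of_le h.compl.1))
  rw [SigmaDisjoint.centralizer_zpowers, Decomposition.regular_U hG hM h hk hk1, sup_bot_eq] at h1
  rw [← h1]
  exact Subgroup.commutator_mono h.compl.1 ((Subgroup.zpowers_le.2 hk).trans h.hall.1)

/-- BG 14.2 (f). -/
theorem sigma_eq_beta (hG : Cfsg.IsMinSimpleOddOrder G) (hM : IsCoatom M)
    (h : Cfsg.IsSigmaDecomposition M K U) (hK : K ≠ ⊥) (hU : U ≠ ⊥) :
    Cfsg.sigma M = Cfsg.beta M := by
  refine Set.Subset.antisymm (fun q hqσ => ?_) fun q hq => AlphaCore.alpha_subset_sigma hG hM hq.1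
  by_contra hqβ
  haveI := Fact.mk hqσ.1
  haveI := solvable_of_ne_top hG hM.1
  have hσ := SigmaHall.sigmaCore_isPiHallOf hG hM
  have hUM : U ≤ M := h.compl.1
  have hUσ : (Nat.card U).Coprime (Nat.card (Cfsg.sigmaCore M)) :=
    Nat.coprime_of_dvd fun r hr h1 h2 => (Decomposition.prime_U hG hM h hr h1).2
      (OddTau.Basic.mem_sigma_of_dvd hr h2)
  obtain ⟨T₀, -, hUT⟩ := Coprime.exists_invariant_sylow_ge (K := Cfsg.sigmaCore M)
    (hUM.trans (OddTau.Basic.le_normalizer_sigmaCore M)) hUσ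
    (Or.inr (Coprime.isSolvable_of_le hσ.1)) q ⊥ bot_le IsPGroup.of_bot
    (fun g _ => Subgroup.mem_normalizer_iff.2 fun z => by simp)
  set T := (T₀ : Subgroup _).map (Cfsg.sigmaCore M).subtype with hT
  have hTσ : T ≤ Cfsg.sigmaCore M := Subgroup.map_subtype_le _
  have hT1 : T ≠ ⊥ := by
    rw [hT, Ne, Subgroup.map_eq_bot_iff_of_injective _ (Subgroup.subtype_injective _)]
    refine T₀.ne_bot_of_dvd_card ?_
    by_contra hn
    have h1 := Subgroup.relIndex_mul_relIndex (⊥ : Subgroup G) _ M bot_le hσ.1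
    rw [Subgroup.relIndex_bot_left, Subgroup.relIndex_bot_left] at h1
    exact hσ.2.2 q hqσ.1 hqσ ((hqσ.1.dvd_mul.1 (h1.symm ▸ hqσ.2.1)).resolve_left hn)
  have hTd : T ≤ ⁅M, M⁆ :=
    Sigma.le_derived hG hM hqσ (T₀.2.map _) (hTσ.trans hσ.1)
  have hUC : U ≤ Subgroup.centralizer (T : Set G) := fun u hu =>
    BetaDerived.derived_centralizes hG hM hqβ (T₀.2.map _) hTd (le_derived hG hM h hK hu) (hUT hu)
      (Nat.coprime_comm.1 (hqσ.1.coprime_iff_not_dvd.2 fun hd =>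
        (Decomposition.prime_U hG hM h hqσ.1 (hd.trans (U.orderOf_dvd_natCard hu))).2 hqσ))
  obtain ⟨r, hr, hrd⟩ := Nat.exists_prime_and_dvd (mt Subgroup.card_eq_one.1 hU)
  haveI := Fact.mk hr
  obtain ⟨hrκ, hrσ⟩ := Decomposition.prime_U hG hM h hr hrd
  obtain ⟨f, hfo⟩ := exists_prime_orderOf_dvd_card' (G := U) r hrd
  have hfo' : orderOf (f : G) = r := by rw [Subgroup.orderOf_coe, hfo]
  rcases NonKappa.mem_tau_cases hG hM hr (hrd.trans (Subgroup.card_dvd_of_le hUM)) hrσ with hτ | hτ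
  · obtain ⟨z, hz, hz1⟩ := T.bot_or_exists_ne_one.resolve_left hT1
    exact hrκ (NonKappa.mem_kappa_of_fixed hG hτ (hUM f.2) hfo' (hTσ hz) hz1
      (Subgroup.mem_centralizer_iff.1 (hUC f.2) z hz).symm)
  -- `r ∈ τ₂(M)`: then `U` contains a plane `A`
  obtain ⟨E, hE, hUE⟩ := BetaDerived.exists_compl_ge hG hM hUM fun s hs hd =>
    (Decomposition.prime_U hG hM h hs hd).2
  obtain ⟨A, hAE, hA⟩ := OddTau.TauTwoAbelian.exists_ctx hG hM hE hτ
  have hUA : U ≤ Subgroup.normalizer (A : Set G) :=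
    hUE.trans (OddTau.Context.le_normalizer_of_compl hA hE hAE)
  have hAU : A ≤ U := by
    refine le_sup_left.trans ((Subgroup.relIndex_eq_one (H := U) (K := A ⊔ U)).1 ?_)
    by_contra h1
    obtain ⟨s, hs, hd⟩ := Nat.exists_prime_and_dvd h1
    have hsd : s ∣ U.relIndex M :=
      hd.trans (Dvd.intro _ (Subgroup.relIndex_mul_relIndex U (A ⊔ U) M le_sup_right
        (sup_le hA.le hUM)))
    have hπ : s ∉ Cfsg.kappa M ∧ s ∉ Cfsg.sigma M := by
      rcases SigmaSubgroup.relIndex_sup_right_le s hs (hd.trans (Subgroup.relIndex_dvd_card _ _))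
        hUA with h2 | h2
      · rw [Hall.prime_dvd_pgroup hr hs hA.isPGroup h2]
        exact ⟨hrκ, hrσ⟩
      · exact Decomposition.prime_U hG hM h hs h2
    -- `|M : U| = |K M_σ|` has no such prime
    rw [Basic.isComplIn_relIndex h.compl, Decomposition.card_sup h.hall] at hsd
    rcases hs.dvd_mul.1 hsd with h2 | h2
    · exact hπ.1 (h.hall.2.1 s hs h2)
    · exact hπ.2 (OddTau.Basic.mem_sigma_of_dvd hs h2)
  refine hT1 (le_bot_iff.1 ?_)
  rw [← OddTau.Context.centralizer_inf_eq_bot hA]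
  exact le_inf hTσ (Subgroup.le_centralizer_iff.1 (hAU.trans hUC))

/-- `TypeP2SigmaBeta`. -/
theorem typeP2SigmaBeta (hG : Cfsg.IsMinSimpleOddOrder G) : Interface.BG14.TypeP2SigmaBeta G :=
  fun _ _ _ hM h hK hU => sigma_eq_beta hG hM h hK hU

end Cfsg.Agent.Lib.OddOrder.BG14.SigmaBeta
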