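import Cfsg.Agent.Lib.OddOrder.BG14.KappaHall
import Cfsg.Agent.Lib.OddOrder.UniquenessTheorem
import Cfsg.Agent.Lib.OddTau.Nonabelian

/-!
# BG 14.2: `K` and `K* = C_{M_σ}(K)`
-/

set_option autoImplicit false
set_option linter.style.haveILetI false
set_option linter.unusedSectionVars false

open scoped Pointwise commutatorElement

namespace Cfsg.Agent.Lib.OddOrder.BG14.KappaStar

open Cfsg.Agent.Lib.OddOrder Cfsg.Agent.Lib.OddOrder.MinSimple

universe u

variable {G : Type u} [Group G] [Finite G] {M K : Subgroup G}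

/-- A subgroup of prime order of a nontrivial Hall `κ(M)`-subgroup. -/
theorem exists_line (hK1 : K ≠ ⊥) : ∃ (p : ℕ) (_ : Fact p.Prime) (X : Subgroup G),
    X ≤ K ∧ Nat.card X = p := by
  obtain ⟨p, hp, hd⟩ := Nat.exists_prime_and_dvd (mt Subgroup.card_eq_one.1 hK1)
  haveI := Fact.mk hp
  obtain ⟨a, hao⟩ := exists_prime_orderOf_dvd_card' (G := K) p hd
  exact ⟨p, inferInstance, Subgroup.zpowers (a : G), Subgroup.zpowers_le.2 a.2, by
    rw [Nat.card_zpowers, Subgroup.orderOf_coe, hao]⟩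

/-- The fixed points of `K` are those of each subgroup of prime order, and of each `k ≠ 1`. -/
theorem prime_action (hG : Cfsg.IsMinSimpleOddOrder G) (hM : IsCoatom M)
    (hK : Cfsg.IsPiHallOf (Cfsg.kappa M) K M) {p : ℕ} [hp : Fact p.Prime] {X : Subgroup G}
    (hXK : X ≤ K) (hXc : Nat.card X = p) :
    Cfsg.sigmaCore M ⊓ Subgroup.centralizer (K : Set G) =
        Cfsg.sigmaCore M ⊓ Subgroup.centralizer (X : Set G) ∧
      ∀ k ∈ K, k ≠ 1 → Cfsg.sigmaCore M ⊓ Subgroup.centralizer ({k} : Set G) =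
        Cfsg.sigmaCore M ⊓ Subgroup.centralizer (K : Set G) :=
  PrimeAction.semiprime hG hM hXc hXK hK.1 (KappaHall.le_normalizer_of_hall hG hM hK hXc hXK)
    (fun r hr hd => KappaHall.kappa_facts (p := r) hG hM (hK.2.1 r hr hd))
    (KappaHall.fixed_of_kappa (hK.2.1 p hp.out (hXc ▸ Subgroup.card_dvd_of_le hXK)) hXc
      (hXK.trans hK.1))

theorem star_ne_bot (hG : Cfsg.IsMinSimpleOddOrder G) (hM : IsCoatom M)
    (hK : Cfsg.IsPiHallOf (Cfsg.kappa M) K M) (hK1 : K ≠ ⊥) :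
    Cfsg.sigmaCore M ⊓ Subgroup.centralizer (K : Set G) ≠ ⊥ := by
  obtain ⟨p, _, X, hXK, hXc⟩ := exists_line hK1
  rw [(prime_action hG hM hK hXK hXc).1]
  exact KappaHall.fixed_of_kappa (hK.2.1 p Fact.out (hXc ▸ Subgroup.card_dvd_of_le hXK)) hXc
    (hXK.trans hK.1)

/-- Subgroups of the same prime order in `K` are equal. -/
theorem line_unique (hG : Cfsg.IsMinSimpleOddOrder G) (hM : IsCoatom M)
    (hK : Cfsg.IsPiHallOf (Cfsg.kappa M) K M) {p : ℕ} [hp : Fact p.Prime] {X Y : Subgroup G}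
    (hXK : X ≤ K) (hXc : Nat.card X = p) (hYK : Y ≤ K) (hYc : Nat.card Y = p) : X = Y := by
  haveI := SigmaCompl.isCyclic_of_prankLE_one hG ((sup_le hXK hYK).trans hK.1)
    (KappaHall.kappa_facts hG hM (hK.2.1 p hp.out (hXc ▸ Subgroup.card_dvd_of_le hXK))).2
    (IsPGroup.to_sup_of_normal_left' (ComplementLines.isPGroup_of_card hXc)
      (ComplementLines.isPGroup_of_card hYc)
      (hYK.trans (KappaHall.le_normalizer_of_hall hG hM hK hXc hXK)))
  exact Cyclic.eq_of_card_eq_of_isCyclic (W := X ⊔ Y) le_sup_left le_sup_right (hXc.trans hYc.symm)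

/-- An element of `M` normalizing `Y ≤ E` is a product of one of `N_E(Y)` and one of `C_{M_σ}(Y)`. -/
theorem factor {E Y : Subgroup G} (hE : Cfsg.IsComplIn E (Cfsg.sigmaCore M) M) (hYE : Y ≤ E)
    {n : G} (hnM : n ∈ M) (hnY : n ∈ Subgroup.normalizer (Y : Set G)) :
    n ∈ (E ⊓ Subgroup.normalizer (Y : Set G)) ⊔
      (Cfsg.sigmaCore M ⊓ Subgroup.centralizer (Y : Set G)) := by
  obtain ⟨e, he, s, hs, rfl⟩ := hE.2.2.2 n hnM
  have hsC : s ∈ Subgroup.centralizer (Y : Set G) := by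
    refine Subgroup.mem_centralizer_iff.2 fun a ha => ?_
    have h1 : s * a * s⁻¹ * a⁻¹ ∈ E ⊓ Cfsg.sigmaCore M := by
      refine Subgroup.mem_inf.2 ⟨mul_mem ?_ (inv_mem (hYE ha)), ?_⟩
      · rw [show s * a * s⁻¹ = e⁻¹ * (e * s * a * (e * s)⁻¹) * e by group]
        exact mul_mem (mul_mem (inv_mem he)
          (hYE ((Subgroup.mem_normalizer_iff.1 hnY a).1 ha))) he
      · rw [show s * a * s⁻¹ * a⁻¹ = s * (a * s⁻¹ * a⁻¹) by group]
        exact mul_mem hs ((Subgroup.mem_normalizer_iff.1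
          (OddTau.Basic.le_normalizer_sigmaCore M (hE.1 (hYE ha))) _).1 (inv_mem hs))
    rw [hE.2.2.1, Subgroup.mem_bot, mul_inv_eq_one, mul_inv_eq_iff_eq_mul] at h1
    exact h1.symm
  refine Subgroup.mul_mem_sup (Subgroup.mem_inf.2 ⟨he, ?_⟩) (Subgroup.mem_inf.2 ⟨hs, hsC⟩)
  have h2 := mul_mem hnY (inv_mem (Subgroup.centralizer_le_normalizer _ hsC))
  rwa [mul_inv_cancel_right] at h2

/-- `M ∩ N(X) = M ∩ N(K) = K K*`. -/
theorem inf_normalizer (hG : Cfsg.IsMinSimpleOddOrder G) (hM : IsCoatom M)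
    (hK : Cfsg.IsPiHallOf (Cfsg.kappa M) K M) {p : ℕ} [hp : Fact p.Prime] {X : Subgroup G}
    (hXK : X ≤ K) (hXc : Nat.card X = p) :
    M ⊓ Subgroup.normalizer (X : Set G) =
        K ⊔ (Cfsg.sigmaCore M ⊓ Subgroup.centralizer (K : Set G)) ∧
      M ⊓ Subgroup.normalizer (K : Set G) =
        K ⊔ (Cfsg.sigmaCore M ⊓ Subgroup.centralizer (K : Set G)) := by
  obtain ⟨E, hE, hKE⟩ := KappaHall.exists_compl_of_hall hG hM hK
  have heq := KappaHall.inf_normalizer hG hM hK hE hKE hXc hXK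
  have hKs := (prime_action hG hM hK hXK hXc).1
  have hsM : Cfsg.sigmaCore M ≤ M := OddTau.Basic.sigmaCore_le M
  have hX : M ⊓ Subgroup.normalizer (X : Set G) =
      K ⊔ (Cfsg.sigmaCore M ⊓ Subgroup.centralizer (K : Set G)) := by
    refine le_antisymm (fun n hn => ?_) (sup_le (le_inf hK.1 ?_) (le_inf (inf_le_left.trans hsM) ?_))
    · have h := factor hE (hXK.trans hKE) hn.1 hn.2
      rwa [heq, ← hKs] at h
    · exact KappaHall.le_normalizer_of_hall hG hM hK hXc hXK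
    · exact hKs.le.trans (inf_le_right.trans (Subgroup.centralizer_le_normalizer _))
  refine ⟨hX, le_antisymm (fun n hn => ?_) (sup_le (le_inf hK.1 Subgroup.le_normalizer)
    (le_inf (inf_le_left.trans hsM) (inf_le_right.trans (Subgroup.centralizer_le_normalizer _))))⟩
  rw [← hX]
  refine Subgroup.mem_inf.2 ⟨hn.1, Subgroup.mem_normalizer_iff_map_conj_eq.2 ?_⟩
  refine line_unique hG hM hK ?_ (by
    rw [Subgroup.card_map_of_injective (MulAut.conj n).injective, hXc]) hXK hXc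
  rintro _ ⟨a, ha, rfl⟩
  exact (Subgroup.mem_normalizer_iff.1 hn.2 a).1 (hXK ha)

/-- An abelian normal complement `U` of `K` in `E`, on which `K` acts without fixed points. -/
theorem exists_U (hG : Cfsg.IsMinSimpleOddOrder G) (hM : IsCoatom M)
    (hK : Cfsg.IsPiHallOf (Cfsg.kappa M) K M) (hK1 : K ≠ ⊥) :
    ∃ U : Subgroup G, IsMulCommutative U ∧
      Cfsg.IsPiHallOf {q | q.Prime ∧ q ∉ Cfsg.kappa M ∧ q ∉ Cfsg.sigma M} U M ∧
      K ≤ Subgroup.normalizer (U : Set G) ∧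
      ∀ k ∈ K, k ≠ 1 → U ⊓ Subgroup.centralizer ({k} : Set G) = ⊥ := by
  obtain ⟨E, hE, hKE⟩ := KappaHall.exists_compl_of_hall hG hM hK
  rcases KappaHall.kappa_cases hG hM with hsub | hall
  swap
  · refine ⟨⊥, inferInstance, ⟨bot_le, fun q hq h => ?_, fun q hq hqπ h => ?_⟩,
      fun g _ => Subgroup.mem_normalizer_iff.2 fun z => by simp, fun k _ _ => bot_inf_eq _⟩
    · rw [Subgroup.card_bot] at h
      exact absurd h hq.not_dvd_one
    · rw [Subgroup.relIndex_bot_left] at h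
      exact hqπ.2.1 (hall q hq h hqπ.2.2)
  haveI := solvable_of_ne_top hG hM.1
  haveI : Group.IsSolvable E := Coprime.isSolvable_of_le hE.1
  set π : Set ℕ := {q | q.Prime ∧ q ∉ Cfsg.kappa M ∧ q ∉ Cfsg.sigma M} with hπ
  obtain ⟨H, ⟨hH1, hH2⟩, hHd⟩ := Hall.exists_isPiHall_ge (G := E) (π := π) (K := commutator E)
    fun q hq hd => by
      have hd' : q ∣ Nat.card ↥⁅E, E⁆ := by
        rwa [← Subgroup.map_subtype_commutator, Subgroup.card_map_of_injective E.subtype_injective]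
      refine ⟨hq, fun hκ => (hsub hκ).2.2.2.1 (hd'.trans (Subgroup.card_dvd_of_le
        (Subgroup.commutator_mono hE.1 hE.1))), OddTau.TauTwoAbelian.not_sigma_of_dvd hG hM hE hq
        (hd'.trans (Subgroup.card_dvd_of_le (MaximalBasics.derived_le_self E)))⟩
  haveI hHn : H.Normal := by
    refine ⟨fun u hu e => ?_⟩
    rw [show e * u * e⁻¹ = ⁅e, u⁆ * u by simp [commutatorElement_def]]
    exact mul_mem (hHd (Subgroup.commutator_mem_commutator (Subgroup.mem_top e)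
      (Subgroup.mem_top u))) hu
  set U := H.map E.subtype with hU
  have hUE : U ≤ E := Subgroup.map_subtype_le _
  have hUπ : ∀ q : ℕ, q.Prime → q ∣ Nat.card U → q ∈ π := fun q hq h => hH1 q hq (by
    rwa [hU, Subgroup.card_map_of_injective E.subtype_injective] at h)
  have hEU : E ≤ Subgroup.normalizer (U : Set G) := Basic.le_normalizer_map_subtype E H
  have hUK : U ⊓ K = ⊥ := Basic.inf_eq_bot_of_coprime
    (Nat.coprime_of_dvd fun q hq h1 h2 => (hUπ q hq h1).2.1 (hK.2.1 q hq h2))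
  have hfpf : ∀ k ∈ K, k ≠ 1 → U ⊓ Subgroup.centralizer ({k} : Set G) = ⊥ := by
    intro k hk hk1
    obtain ⟨r, hr, hd⟩ := Nat.exists_prime_and_dvd fun h1 => hk1 (orderOf_eq_one_iff.1 h1)
    haveI := Fact.mk hr
    have h0o := OddTau.Regular.exists_pow_prime_order hd
    have heq := KappaHall.inf_normalizer hG hM hK hE hKE
      (X := Subgroup.zpowers (k ^ (orderOf k / r))) (by rw [Nat.card_zpowers, h0o])
      (Subgroup.zpowers_le.2 (pow_mem hk _))
    rw [← le_bot_iff, ← hUK]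
    refine le_inf inf_le_left (le_trans (le_inf (inf_le_left.trans hUE) ?_) heq.le)
    refine inf_le_right.trans (le_trans (fun z hz => ?_)
      (Subgroup.centralizer_le_normalizer _))
    rw [SigmaDisjoint.centralizer_zpowers]
    exact Subgroup.mem_centralizer_singleton_iff.2 ((show Commute z k from
      Subgroup.mem_centralizer_singleton_iff.1 hz).pow_right _).eq
  refine ⟨U, ?_, ⟨hUE.trans hE.1, hUπ, fun q hq hqπ h => ?_⟩, hKE.trans hEU, hfpf⟩
  · obtain ⟨p, _, X, hXK, hXc⟩ := exists_line hK1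
    obtain ⟨a, ha, ha1⟩ := X.bot_or_exists_ne_one.resolve_left (ComplementLines.ne_bot_of_card hXc)
    haveI : Group.IsSolvable U := Coprime.isSolvable_of_le hUE
    refine (Cfsg.Agent.S1420.result hG M hM E hE).1 U (hUE.trans hE.1)
      (OddTau.Basic.isNilpotent_of_fpf (p := p) inferInstance ((hKE.trans hEU) (hXK ha)) ?_
        (hfpf a (hXK ha) ha1)) fun q hq h => (hUπ q hq h).2.2
    exact orderOf_dvd_iff_pow_eq_one.1 (hXc ▸ X.orderOf_dvd_natCard ha)
  rw [← Subgroup.relIndex_mul_relIndex U E M hUE hE.1] at h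
  rcases hq.dvd_mul.1 h with h | h
  · rw [hU, Basic.relIndex_map_subtype] at h
    exact hH2 q hq hqπ h
  · rw [Basic.isComplIn_relIndex hE] at h
    exact hqπ.2.2 (OddTau.Basic.mem_sigma_of_dvd hq h)

/-- For `X ≤ K` of prime order and maximal `H ≥ N(X)`: `X ≤ H_σ`. -/
theorem le_sigmaCore_of_normalizer (hG : Cfsg.IsMinSimpleOddOrder G) (hM : IsCoatom M)
    (hK : Cfsg.IsPiHallOf (Cfsg.kappa M) K M) {p : ℕ} [hp : Fact p.Prime] {X : Subgroup G}
    (hXK : X ≤ K) (hXc : Nat.card X = p) {H : Subgroup G} (hH : IsCoatom H)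
    (hNH : Subgroup.normalizer (X : Set G) ≤ H) : X ≤ Cfsg.sigmaCore H := by
  have hpκ := hK.2.1 p hp.out (hXc ▸ Subgroup.card_dvd_of_le hXK)
  obtain ⟨hps, hr1⟩ := KappaHall.kappa_facts hG hM hpκ
  exact OddTau.Basic.pgroup_le_sigmaCore hG hH (NormalizerSigma.sigma_of_fixed hG hM hps hr1 hXc
      (hXK.trans hK.1) (KappaHall.fixed_of_kappa hpκ hXc (hXK.trans hK.1)) hH hNH)
    (ComplementLines.isPGroup_of_card hXc) (Subgroup.le_normalizer.trans hNH)

/-- What a maximal `H ≥ N(X)` sees of an element `y ∈ K*` of prime order. -/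
theorem star_element (hG : Cfsg.IsMinSimpleOddOrder G) (hM : IsCoatom M)
    (hK : Cfsg.IsPiHallOf (Cfsg.kappa M) K M) {p : ℕ} [hp : Fact p.Prime] {X : Subgroup G}
    (hXK : X ≤ K) (hXc : Nat.card X = p) {H : Subgroup G} (hH : IsCoatom H)
    (hNH : Subgroup.normalizer (X : Set G) ≤ H) {q : ℕ} [hq : Fact q.Prime] {y : G}
    (hy : y ∈ Cfsg.sigmaCore M ⊓ Subgroup.centralizer (K : Set G)) (hyo : orderOf y = q) :
    q ∈ Cfsg.sigma M ∧ Cfsg.PRankLE q 1 H ∧
      Subgroup.normalizer (Subgroup.zpowers y : Set G) ≤ M := by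
  obtain ⟨hps, hr1⟩ := KappaHall.kappa_facts hG hM
    (hK.2.1 p hp.out (hXc ▸ Subgroup.card_dvd_of_le hXK))
  have hX1 := ComplementLines.ne_bot_of_card hXc
  have hnc := MaximalBasics.not_conj_of_normalizer hG hM hps (fun h => h.2.2.2 hr1)
    (ComplementLines.isPGroup_of_card hXc) hX1 hNH
  have hqM : q ∈ Cfsg.sigma M := (SigmaHall.sigmaCore_isPiHallOf hG hM).2.1 q hq.out
    (hyo ▸ Subgroup.orderOf_dvd_natCard _ hy.1)
  have hyM : y ∈ M := OddTau.Basic.sigmaCore_le M hy.1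
  have hyC : y ∈ Subgroup.centralizer (X : Set G) :=
    Subgroup.centralizer_le (SetLike.coe_subset_coe.2 hXK) hy.2
  have hyH : y ∈ H := hNH (Subgroup.centralizer_le_normalizer _ hyC)
  have hXσ := le_sigmaCore_of_normalizer hG hM hK hXK hXc hH hNH
  have hXy : X ≤ Subgroup.centralizer ({y} : Set G) := fun a ha =>
    Subgroup.mem_centralizer_singleton_iff.2 (Subgroup.mem_centralizer_iff.1 hyC a ha)
  have hqH := TauTwoPartner.not_sigma hG hM hH hnc hqM
  have hqr : Cfsg.PRankLE q 1 H := by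
    by_contra h
    have h2 : Cfsg.PRankLE q 2 H := by
      by_contra h3
      exact hqH (AlphaCore.alpha_subset_sigma hG hH ⟨hq.out, h3⟩)
    refine hX1 (le_bot_iff.1 ?_)
    rw [← TauTwoMeet.fixed_inf_eq_bot hG hM hH hqM ⟨hq.out, hqH, h2, h⟩ hyM hyH hyo]
    exact le_inf (le_inf hXσ hXy) (hXK.trans hK.1)
  exact ⟨hqM, hqr, NormalizerSigma.normalizer_le hG hM hH hyo hqM hyM hyH hqH hqr
    fun e => hX1 (le_bot_iff.1 (e ▸ le_inf hXσ hXy))⟩

/-- S1431 (a): `K* ∩ gMg⁻¹ = 1` for `g ∉ M`. -/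
theorem star_inf_conj (hG : Cfsg.IsMinSimpleOddOrder G) (hM : IsCoatom M)
    (hK : Cfsg.IsPiHallOf (Cfsg.kappa M) K M) (hK1 : K ≠ ⊥) {g : G} (hg : g ∉ M) :
    (Cfsg.sigmaCore M ⊓ Subgroup.centralizer (K : Set G)) ⊓
      M.map (MulAut.conj g).toMonoidHom = ⊥ := by
  by_contra hne
  obtain ⟨q, hq, hqd⟩ := Nat.exists_prime_and_dvd (mt Subgroup.card_eq_one.1 hne)
  haveI := Fact.mk hq
  obtain ⟨⟨y, hyK, hyg⟩, hyo⟩ := exists_prime_orderOf_dvd_card'
    (G := ↥((Cfsg.sigmaCore M ⊓ Subgroup.centralizer (K : Set G)) ⊓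
      M.map (MulAut.conj g).toMonoidHom)) q hqd
  rw [← Subgroup.orderOf_coe] at hyo
  simp only at hyo
  obtain ⟨p, _, X, hXK, hXc⟩ := exists_line hK1
  obtain ⟨H, hH, hNH⟩ := exists_coatom_ge hG (normalizer_ne_top hG
    (ComplementLines.ne_bot_of_card hXc) (pgroup_ne_top hG (ComplementLines.isPGroup_of_card hXc)))
  obtain ⟨hqM, -, hNy⟩ := star_element hG hM hK hXK hXc hH hNH hyK hyo
  have hyM : y ∈ M := OddTau.Basic.sigmaCore_le M hyK.1
  obtain ⟨m, hm, c, hc, hgmc⟩ := (Sigma.fusion_and_normalizer hG hM hqM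
    (SigmaDisjoint.zpowers_isPGroup hyo) (by
      rw [Ne, Subgroup.zpowers_eq_bot]
      exact fun e => hq.ne_one (by rw [← hyo, e, orderOf_one]))
    (Subgroup.zpowers_le.2 hyM)).1 g⁻¹ (by
      rintro _ ⟨a, ha, rfl⟩
      obtain ⟨i, rfl⟩ := ha
      show g⁻¹ * y ^ i * g⁻¹⁻¹ ∈ M
      rw [← conj_zpow, inv_inv]
      exact zpow_mem (OddTau.Exceptional.mem_conj.1 hyg) i)
  refine hg (inv_mem_iff.1 ?_)
  rw [hgmc]
  exact mul_mem hm (hNy (Subgroup.centralizer_le_normalizer _ hc))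

/-- S1431 (b). -/
theorem hall_inf_conj (hG : Cfsg.IsMinSimpleOddOrder G) (hM : IsCoatom M)
    (hK : Cfsg.IsPiHallOf (Cfsg.kappa M) K M) {g : G} (hgM : g ∈ M)
    (hg : g ∉ K ⊔ (Cfsg.sigmaCore M ⊓ Subgroup.centralizer (K : Set G))) :
    K ⊓ K.map (MulAut.conj g).toMonoidHom = ⊥ := by
  by_contra hne
  obtain ⟨r, hr, hrd⟩ := Nat.exists_prime_and_dvd (mt Subgroup.card_eq_one.1 hne)
  haveI := Fact.mk hr
  obtain ⟨⟨y, hyK, hyg⟩, hyo⟩ := exists_prime_orderOf_dvd_card'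
    (G := ↥(K ⊓ K.map (MulAut.conj g).toMonoidHom)) r hrd
  rw [← Subgroup.orderOf_coe] at hyo
  simp only at hyo
  have hc : Nat.card (Subgroup.zpowers y) = r := by rw [Nat.card_zpowers, hyo]
  have hle : Subgroup.zpowers y ≤ K.map (MulAut.conj g).toMonoidHom := Subgroup.zpowers_le.2 hyg
  have heq : (Subgroup.zpowers y).map (MulAut.conj g⁻¹).toMonoidHom = Subgroup.zpowers y := by
    refine line_unique hG hM hK ?_ (by
      rw [Subgroup.card_map_of_injective (MulAut.conj g⁻¹).injective, hc])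
      (Subgroup.zpowers_le.2 hyK) hc
    rintro _ ⟨a, ha, rfl⟩
    show g⁻¹ * a * g⁻¹⁻¹ ∈ K
    rw [inv_inv]
    exact OddTau.Exceptional.mem_conj.1 (hle ha)
  refine hg ?_
  rw [← (inf_normalizer hG hM hK (Subgroup.zpowers_le.2 hyK) hc).1]
  exact Subgroup.mem_inf.2 ⟨hgM, inv_mem_iff.1 (Subgroup.mem_normalizer_iff_map_conj_eq.2 heq)⟩

/-- A Sylow `q`-subgroup of `M_σ` normalized by `X` and meeting `K*` is not abelian of `β'`-type. -/
theorem false_of_abelian (hG : Cfsg.IsMinSimpleOddOrder G) (hM : IsCoatom M)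
    (hK : Cfsg.IsPiHallOf (Cfsg.kappa M) K M) {p : ℕ} [hp : Fact p.Prime] {X : Subgroup G}
    (hXK : X ≤ K) (hXc : Nat.card X = p) {q : ℕ} [hq : Fact q.Prime] (hqM : q ∈ Cfsg.sigma M)
    (hqβ : q ∉ Cfsg.beta M) (S : Sylow q G) (hSM : (S : Subgroup G) ≤ M)
    (hab : IsMulCommutative (S : Subgroup G))
    (hKS : K ≤ Subgroup.normalizer ((S : Subgroup G) : Set G)) {y : G}
    (hyS : y ∈ (S : Subgroup G)) (hy1 : y ≠ 1)
    (hy : y ∈ Cfsg.sigmaCore M ⊓ Subgroup.centralizer (K : Set G)) : False := by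
  have hXS : X ≤ Subgroup.normalizer ((S : Subgroup G) : Set G) := hXK.trans hKS
  set N := Subgroup.normalizer ((S : Subgroup G) : Set G) with hN
  set C := Subgroup.centralizer ((S : Subgroup G) : Set G) with hC
  have hNM : N ≤ M := OddTau.Exceptional.normalizer_sylow_le hqM S hSM
  have hSd : (S : Subgroup G) ≤ ⁅M, M⁆ := Sigma.le_derived hG hM hqM S.2 hSM
  -- elements of `M' ∩ N(S)` centralize `S`
  have hder : ∀ w ∈ N, w ∈ ⁅M, M⁆ → w ∈ C := by
    intro w hwN hwd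
    refine OddLocal.DerivedFitting.mem_of_primePow_parts fun s hs z hz ⟨j, hj⟩ => ?_
    haveI := Fact.mk hs
    have hzN : z ∈ N := Subgroup.zpowers_le.2 hwN hz
    by_cases hsq : s = q
    · subst hsq
      exact Subgroup.le_centralizer_iff_isMulCommutative.2 hab
        (OddTau.TauTwoAbelian.eq_of_le_normalizer S (IsPGroup.of_card (n := j)
          (by rw [Nat.card_zpowers, hj])) (Subgroup.zpowers_le.2 hzN) (Subgroup.mem_zpowers z))
    · exact BetaDerived.derived_centralizes hG hM hqβ S.2 hSd (Subgroup.zpowers_le.2 hwd hz) hzN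
        (hj ▸ ((Nat.coprime_primes hs hq.out).2 hsq).pow_left _)
  have hqp : q ≠ p := fun e => (KappaHall.kappa_facts hG hM
    (hK.2.1 p hp.out (hXc ▸ Subgroup.card_dvd_of_le hXK))).1 (e ▸ hqM)
  set R := C ⊔ X with hR
  have hCN : C ≤ N := Subgroup.centralizer_le_normalizer _
  have hRN : R ≤ N := sup_le hCN hXS
  have hNR : N ≤ Subgroup.normalizer (R : Set G) := by
    refine Subgroup.le_normalizer_iff_commutator_le_left.2 (le_trans ?_ le_sup_left)
    refine (Subgroup.commutator_mono hRN le_rfl).trans fun w hw => hder w ?_ ?_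
    · exact MaximalBasics.derived_le_self N hw
    · exact Subgroup.commutator_mono hNM hNM hw
  have hXp := ComplementLines.isPGroup_of_card hXc
  obtain ⟨T₀, hT₀⟩ := (hXp.comap_subtype (K := R)).exists_le_sylow
  set T := (T₀ : Subgroup R).map R.subtype with hT
  have hXT : X ≤ T := fun a ha => ⟨⟨a, Subgroup.mem_sup_right ha⟩,
    hT₀ (show (⟨a, Subgroup.mem_sup_right ha⟩ : R) ∈ X.comap R.subtype from ha), rfl⟩
  have hTR : T ≤ R := Subgroup.map_subtype_le _
  haveI := SigmaCompl.isCyclic_of_prankLE_one hG (hTR.trans (hRN.trans hNM))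
    (KappaHall.kappa_facts hG hM (hK.2.1 p hp.out (hXc ▸ Subgroup.card_dvd_of_le hXK))).2
    (T₀.2.map R.subtype)
  have hsup := RankTwoKey.sup_normalizer_of_normal hRN hNR hTR (T₀.2.map _) fun hd =>
    T₀.not_dvd_index (by rwa [← Basic.relIndex_map_subtype])
  have hNX : N ⊓ Subgroup.normalizer (T : Set G) ≤ M ⊓ Subgroup.normalizer (X : Set G) := by
    rintro n ⟨hnN, hnT⟩
    refine Subgroup.mem_inf.2 ⟨hNM hnN, Subgroup.mem_normalizer_iff_map_conj_eq.2
      (Cyclic.eq_of_card_eq_of_isCyclic (W := T) ?_ hXT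
        (Subgroup.card_map_of_injective (MulAut.conj n).injective))⟩
    rintro _ ⟨a, ha, rfl⟩
    exact (Subgroup.mem_normalizer_iff.1 hnT a).1 (hXT ha)
  have hNy : N ≤ Subgroup.centralizer ({y} : Set G) := by
    refine hsup.ge.trans (sup_le (sup_le ?_ ?_) fun n hn => ?_)
    · exact Subgroup.centralizer_le (Set.singleton_subset_iff.2 hyS)
    · exact fun a ha => Subgroup.mem_centralizer_singleton_iff.2
        (Subgroup.mem_centralizer_iff.1 hy.2 a (hXK ha))
    · have hn' := hNX hn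
      rw [(inf_normalizer hG hM hK hXK hXc).1] at hn'
      have hmem : n ∈ ((K : Subgroup G) : Set G) *
          ((Cfsg.sigmaCore M ⊓ Subgroup.centralizer (K : Set G) : Subgroup G) : Set G) := by
        rw [← Subgroup.coe_mul_of_right_le_normalizer_left _ _ (inf_le_right.trans
          (Subgroup.centralizer_le_normalizer _))]
        exact hn'
      obtain ⟨k, hk, w, hw, rfl⟩ := Set.mem_mul.1 hmem
      have hky : k ∈ Subgroup.centralizer ({y} : Set G) :=
        Subgroup.mem_centralizer_singleton_iff.2 (Subgroup.mem_centralizer_iff.1 hy.2 k hk)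
      refine mul_mem hky ?_
      have hwd : w ∈ ⁅M, M⁆ := BetaCore.sigmaCore_le_derived hG hM hw.1
      have hwN : w ∈ N := by
        have h := mul_mem (inv_mem (hKS hk)) (Subgroup.mem_inf.1 hn).1
        rwa [inv_mul_cancel_left] at h
      exact Subgroup.mem_centralizer_singleton_iff.2
        (Subgroup.mem_centralizer_iff.1 (hder w hwN hwd) y hyS).symm
  obtain ⟨V, hVN, -, hcop, hSV⟩ := SylowFixed.exists_compl_sylow hG S
    (fun e => hy1 (by rwa [e, Subgroup.mem_bot] at hyS)) (U := X) hXS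
    fun s hs hd => by rw [Hall.prime_dvd_pgroup hp.out hs hXp hd]; exact hqp.symm
  have h1 := SylowFixed.fixed_le_derived hVN hcop hSV (Subgroup.mem_inf.2
    ⟨hyS, Subgroup.mem_centralizer_iff.2 fun v hv =>
      Subgroup.mem_centralizer_singleton_iff.1 (hNy (hVN hv))⟩)
  rw [(Subgroup.commutator_eq_bot_iff_le_centralizer.2
    (Subgroup.le_centralizer_iff_isMulCommutative.2 hab) : ⁅(S : Subgroup G), (S : Subgroup G)⁆ = ⊥),
    Subgroup.mem_bot] at h1
  exact hy1 h1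

/-- S1431 (c). -/
theorem sylow_spec (hG : Cfsg.IsMinSimpleOddOrder G) (hM : IsCoatom M)
    (hK : Cfsg.IsPiHallOf (Cfsg.kappa M) K M) (hK1 : K ≠ ⊥) {q : ℕ} [hq : Fact q.Prime]
    (hqd : q ∣ Nat.card ↥(Cfsg.sigmaCore M ⊓ Subgroup.centralizer (K : Set G)))
    (S : Sylow q ↥(Cfsg.sigmaCore M)) :
    Cfsg.InUniqueMaximal ((S : Subgroup ↥(Cfsg.sigmaCore M)).map (Cfsg.sigmaCore M).subtype) ∧
      (S : Subgroup ↥(Cfsg.sigmaCore M)).map (Cfsg.sigmaCore M).subtype ≤ M ∧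
      ¬ (S : Subgroup ↥(Cfsg.sigmaCore M)).map (Cfsg.sigmaCore M).subtype ≤
        Cfsg.sigmaCore M ⊓ Subgroup.centralizer (K : Set G) := by
  have hsM : Cfsg.sigmaCore M ≤ M := OddTau.Basic.sigmaCore_le M
  obtain ⟨p, _, X, hXK, hXc⟩ := exists_line hK1
  obtain ⟨H, hH, hNH⟩ := exists_coatom_ge hG (normalizer_ne_top hG
    (ComplementLines.ne_bot_of_card hXc) (pgroup_ne_top hG (ComplementLines.isPGroup_of_card hXc)))
  obtain ⟨⟨y, hyK⟩, hyo⟩ := exists_prime_orderOf_dvd_card'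
    (G := ↥(Cfsg.sigmaCore M ⊓ Subgroup.centralizer (K : Set G))) q hqd
  rw [← Subgroup.orderOf_coe] at hyo
  simp only at hyo
  obtain ⟨hqM, hqr, -⟩ := star_element hG hM hK hXK hXc hH hNH hyK hyo
  haveI := solvable_of_ne_top hG hM.1
  -- a `K`-invariant Sylow subgroup over `y`
  obtain ⟨S₀, hyS₀, hKS⟩ := Coprime.exists_invariant_sylow_ge (K := Cfsg.sigmaCore M)
    (hK.1.trans (OddTau.Basic.le_normalizer_sigmaCore M))
    (Nat.coprime_of_dvd fun r hr h1 h2 => (hK.2.1 r hr h1).2.2.1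
      (OddTau.Basic.mem_sigma_of_dvd hr h2))
    (Or.inr (Coprime.isSolvable_of_le hsM)) q (Subgroup.zpowers y) (Subgroup.zpowers_le.2 hyK.1)
    (SigmaDisjoint.zpowers_isPGroup hyo) (by
      refine le_trans ?_ (Subgroup.centralizer_le_normalizer _)
      rw [SigmaDisjoint.centralizer_zpowers]
      exact fun a ha => Subgroup.mem_centralizer_singleton_iff.2
        (Subgroup.mem_centralizer_iff.1 hyK.2 a ha))
  set T := (S₀ : Subgroup _).map (Cfsg.sigmaCore M).subtype with hT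
  obtain ⟨P, hTP, hPM, -⟩ := Sigma.exists_sylow_ge hqM (S₀.2.map (Cfsg.sigmaCore M).subtype)
    ((Subgroup.map_subtype_le _).trans hsM)
  have hPσ := OddTau.Basic.pgroup_le_sigmaCore hG hM hqM P.2 hPM
  have hPT : (P : Subgroup G) = T := by
    have heq : (P : Subgroup G).subgroupOf (Cfsg.sigmaCore M) = (S₀ : Subgroup _) :=
      S₀.is_maximal' P.2.comap_subtype fun w hw => hTP ⟨w, hw, rfl⟩
    rw [hT, ← heq, Subgroup.map_subgroupOf_eq_of_le hPσ]
  have hy1 : y ≠ 1 := fun e => hq.out.ne_one (by rw [← hyo, e, orderOf_one])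
  have hkey : Cfsg.InUniqueMaximal (P : Subgroup G) ∧ ¬ IsCyclic (P : Subgroup G) := by
    by_cases hβ : q ∈ Cfsg.beta M
    · have h3 : ¬ Cfsg.PRankLE q 2 (P : Subgroup G) := by
        have h := AlphaCentralizer.not_prankLE_sylow (P.subtype hPM) hβ.1.2
        rwa [Sylow.coe_subtype, Subgroup.map_subgroupOf_eq_of_le hPM] at h
      refine ⟨UniquenessTheorem.of_rank hG (pgroup_ne_top hG P.2) fun h => h3 (h q hq.out),
        fun hc => h3 ?_⟩
      rw [Rank.prankLE_subgroup_iff]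
      intro E hE he
      by_contra hcard
      haveI := hc
      refine Rank.elemAb_not_isCyclic he ?_ (Subgroup.isCyclic_of_le hE)
      exact lt_of_le_of_lt (Nat.le_self_pow two_ne_zero q) (not_le.1 hcard)
    · have hna : ¬ IsMulCommutative (P : Subgroup G) := fun hab =>
        false_of_abelian hG hM hK hXK hXc hqM hβ P hPM hab (hPT ▸ hKS)
          (hPT ▸ hyS₀ (Subgroup.mem_zpowers y)) hy1 hyK
      exact ⟨OddTau.Nonabelian.inUniqueMaximal hG P.2 hna,
        OddTau.Nonabelian.not_isCyclic_of_nonabelian hna⟩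
  rw [hPT] at hkey
  obtain ⟨m, hm, hmS⟩ := Coprime.exists_conj_sylow_map S₀ S
  rw [← hmS]
  refine ⟨UniqueRank.conj hkey.1 m, ?_, fun h => hkey.2 ?_⟩
  · rw [hmS]
    exact (Subgroup.map_subtype_le _).trans hsM
  have hle : T.map (MulAut.conj m).toMonoidHom ≤ H :=
    h.trans (inf_le_right.trans ((Subgroup.centralizer_le (SetLike.coe_subset_coe.2 hXK)).trans
      ((Subgroup.centralizer_le_normalizer _).trans hNH)))
  haveI := SigmaCompl.isCyclic_of_prankLE_one hG hle hqr ((S₀.2.map _).map _)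
  exact (T.equivMapOfInjective (MulAut.conj m).toMonoidHom (MulAut.conj m).injective).isCyclic.2
    inferInstance

/-- S1431 (d). -/
theorem le_sigmaCore_of_meet (hG : Cfsg.IsMinSimpleOddOrder G) (hM : IsCoatom M)
    (hK : Cfsg.IsPiHallOf (Cfsg.kappa M) K M) (hK1 : K ≠ ⊥) {Y : Subgroup G}
    (hY : ∀ r : ℕ, r.Prime → r ∣ Nat.card Y → r ∈ Cfsg.sigma M)
    (hne : Y ⊓ (Cfsg.sigmaCore M ⊓ Subgroup.centralizer (K : Set G)) ≠ ⊥) :
    Y ≤ Cfsg.sigmaCore M := by
  obtain ⟨y, ⟨hyY, hyK⟩, hy1⟩ := (Subgroup.bot_or_exists_ne_one _).resolve_left hne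
  obtain ⟨g, hg⟩ := SigmaSubgroup.exists_conj_le_sigmaCore (TauTwoFacts.tauTwo hG) hG hM
    (fun e => hy1 (Subgroup.mem_bot.1 (e ▸ hyY))) hY
  have hgM : g ∈ M := by
    by_contra hgM
    refine hy1 (Subgroup.mem_bot.1 (star_inf_conj hG hM hK hK1 (g := g⁻¹)
      (fun h => hgM (inv_mem_iff.1 h)) ▸ Subgroup.mem_inf.2 ⟨hyK, OddTau.Exceptional.mem_conj.2 ?_⟩))
    rw [inv_inv]
    exact OddTau.Basic.sigmaCore_le M (hg ⟨y, hyY, rfl⟩)
  intro z hz
  have h1 : g * z * g⁻¹ ∈ Cfsg.sigmaCore M := hg ⟨z, hz, rfl⟩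
  exact (Subgroup.mem_normalizer_iff.1 (OddTau.Basic.le_normalizer_sigmaCore M hgM) z).2 h1

end Cfsg.Agent.Lib.OddOrder.BG14.KappaStar
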