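import Cfsg.Agent.Lib.OddOrder.BG14.SupportRows

/-!
# BG 14.5: the cosets `x R(x)` are disjoint
-/

set_option autoImplicit false
set_option linter.style.haveILetI false
set_option linter.unusedSectionVars false

open scoped Pointwise

namespace Cfsg.Agent.Lib.OddOrder.BG14.Cosets

open Cfsg.Agent.Lib.OddOrder Cfsg.Agent.Lib.OddOrder.MinSimple
  Cfsg.Agent.Lib.OddOrder.BG14.ElementDichotomy Cfsg.Agent.Lib.OddOrder.BG14.Support

universe u

variable {G : Type u} [Group G] [Finite G] {M N : Subgroup G} {x y r s : G}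

/-- The `π`-part of a product of commuting elements is determined by the product. -/
theorem part_eq {π : Set ℕ} (hxr : Commute x r) (hys : Commute y s) (h : x * r = y * s)
    (hx : ∀ p : ℕ, p.Prime → p ∣ orderOf x → p ∈ π) (hy : ∀ p : ℕ, p.Prime → p ∣ orderOf y → p ∈ π)
    (hr : ∀ p : ℕ, p.Prime → p ∣ orderOf r → p ∉ π) (hs : ∀ p : ℕ, p.Prime → p ∣ orderOf s → p ∉ π) :
    x = y := by
  have hco : (orderOf x * orderOf y).Coprime (orderOf r * orderOf s) :=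
    Nat.coprime_of_dvd fun p hp h1 h2 => by
      rcases hp.dvd_mul.1 h1 with h1 | h1 <;> rcases hp.dvd_mul.1 h2 with h2 | h2
      · exact hr p hp h2 (hx p hp h1)
      · exact hs p hp h2 (hx p hp h1)
      · exact hr p hp h2 (hy p hp h1)
      · exact hs p hp h2 (hy p hp h1)
  obtain ⟨k, hk1, hk0⟩ := Nat.chineseRemainder hco 1 0
  have key : ∀ a b : G, Commute a b → orderOf a ∣ orderOf x * orderOf y →
      orderOf b ∣ orderOf r * orderOf s → (a * b) ^ k = a := by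
    intro a b hab ha hb
    have h1 : a ^ k = a ^ 1 := pow_eq_pow_iff_modEq.2 (hk1.of_dvd ha)
    have h0 : b ^ k = b ^ 0 := pow_eq_pow_iff_modEq.2 (hk0.of_dvd hb)
    rw [hab.mul_pow, h1, h0, pow_one, pow_zero, mul_one]
  rw [← key x r hxr (Dvd.intro _ rfl) (Dvd.intro _ rfl), h,
    key y s hys (Dvd.intro_left _ rfl) (Dvd.intro_left _ rfl)]

theorem sigma_eq_of_conj {g : G} (h : N = M.map (MulAut.conj g).toMonoidHom) :
    Cfsg.sigma N = Cfsg.sigma M := by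
  rw [h, ← PF8.Conj.im, Conj.sigma_im]

/-- The two cases of the definition of `R(x)`. -/
theorem supportR_cases (h2 : TypePFixed G) (hG : Cfsg.IsMinSimpleOddOrder G) (hM : IsCoatom M)
    (hx : x ∈ Cfsg.sigmaCore M) (hx1 : x ≠ 1) (hr : r ∈ Cfsg.supportR M x) :
    r = 1 ∨ ∃ L, ¬ Subgroup.centralizer ({x} : Set G) ≤ M ∧ Spec M L x ∧
      r ∈ Cfsg.sigmaCore L ⊓ Subgroup.centralizer ({x} : Set G) := by
  by_cases hxM : Subgroup.centralizer ({x} : Set G) ≤ M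
  · left
    rwa [supportR_of_le hxM, Subgroup.mem_bot] at hr
  · obtain ⟨L, hL⟩ := exists_spec h2 hG hM hx hx1 hxM
    rw [hL.supportR_eq hxM] at hr
    exact Or.inr ⟨L, hxM, hL, hr⟩

theorem supportR_le_centralizer (h2 : TypePFixed G) (hG : Cfsg.IsMinSimpleOddOrder G)
    (hM : IsCoatom M) (hx : x ∈ Cfsg.sigmaCore M) (hx1 : x ≠ 1) (hr : r ∈ Cfsg.supportR M x) :
    Commute x r := by
  rcases supportR_cases h2 hG hM hx hx1 hr with h | ⟨L, -, -, h⟩
  · rw [h]; exact Commute.one_right x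
  · exact (Subgroup.mem_centralizer_singleton_iff.1 h.2).symm

theorem supportR_not_sigma (h2 : TypePFixed G) (hG : Cfsg.IsMinSimpleOddOrder G)
    (hM : IsCoatom M) (hx : x ∈ Cfsg.sigmaCore M) (hx1 : x ≠ 1) (hr : r ∈ Cfsg.supportR M x)
    {p : ℕ} (hp : p.Prime) (hd : p ∣ orderOf r) : p ∉ Cfsg.sigma M := by
  rcases supportR_cases h2 hG hM hx hx1 hr with h | ⟨L, -, hL, h⟩
  · rw [h, orderOf_one] at hd
    exact absurd hd hp.not_dvd_one
  · exact fun hpM => NormalizerCompl.not_mem_sigma hG hM hL.max hL.nc hpM (mem_sigma h.1 hp hd)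

/-- For conjugate `M`, `N` the coset `x R(x)` determines `x`. -/
theorem eq_of_conj (h2 : TypePFixed G) (hG : Cfsg.IsMinSimpleOddOrder G) (hM : IsCoatom M)
    (hN : IsCoatom N) (hσ : Cfsg.sigma N = Cfsg.sigma M) (hx : x ∈ Cfsg.sigmaCore M)
    (hy : y ∈ Cfsg.sigmaCore N) (hx1 : x ≠ 1) (hy1 : y ≠ 1) (hr : r ∈ Cfsg.supportR M x)
    (hs : s ∈ Cfsg.supportR N y) (h : x * r = y * s) : x = y :=
  part_eq (π := Cfsg.sigma M) (supportR_le_centralizer h2 hG hM hx hx1 hr)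
    (supportR_le_centralizer h2 hG hN hy hy1 hs) h (fun _ hp hd => mem_sigma hx hp hd)
    (fun _ hp hd => hσ ▸ mem_sigma hy hp hd)
    (fun _ hp hd => supportR_not_sigma h2 hG hM hx hx1 hr hp hd)
    (fun _ hp hd => hσ ▸ supportR_not_sigma h2 hG hN hy hy1 hs hp hd)

/-- For nonconjugate `M`, `N` the cosets `x R(x)`, `y R(y)` are disjoint. -/
theorem ne_of_not_conj (h2 : TypePFixed G) (hG : Cfsg.IsMinSimpleOddOrder G) (hM : IsCoatom M)
    (hN : IsCoatom N) (hnc : ∀ g : G, N ≠ M.map (MulAut.conj g).toMonoidHom)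
    (hx : x ∈ Cfsg.sigmaCore M) (hy : y ∈ Cfsg.sigmaCore N) (hx1 : x ≠ 1) (hy1 : y ≠ 1)
    (hr : r ∈ Cfsg.supportR M x) (hs : s ∈ Cfsg.supportR N y) : x * r ≠ y * s := by
  intro h
  have hyM : ∀ p : ℕ, p.Prime → p ∣ orderOf y → p ∉ Cfsg.sigma M := fun p hp hd hpM =>
    NormalizerCompl.not_mem_sigma hG hM hN hnc hpM (mem_sigma hy hp hd)
  have hxM' : ∀ p : ℕ, p.Prime → p ∣ orderOf x → p ∈ Cfsg.sigma M := fun _ hp hd => mem_sigma hx hp hd
  have hrM : ∀ p : ℕ, p.Prime → p ∣ orderOf r → p ∉ Cfsg.sigma M :=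
    fun _ hp hd => supportR_not_sigma h2 hG hM hx hx1 hr hp hd
  have hxr := supportR_le_centralizer h2 hG hM hx hx1 hr
  have hys := supportR_le_centralizer h2 hG hN hy hy1 hs
  by_cases hsM : ∀ p : ℕ, p.Prime → p ∣ orderOf s → p ∉ Cfsg.sigma M
  · refine hx1 (part_eq (π := Cfsg.sigma M) (y := 1) (s := y * s) hxr (Commute.one_left _)
      (by rw [one_mul, h]) hxM' (fun p hp hd => absurd (orderOf_one (G := G) ▸ hd) hp.not_dvd_one)
      hrM fun p hp hd => ?_)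
    rcases hp.dvd_mul.1 (hd.trans (hys.orderOf_mul_dvd_lcm.trans (Nat.lcm_dvd_mul _ _))) with h' | h'
    · exact hyM p hp h'
    · exact hsM p hp h'
  push Not at hsM
  obtain ⟨p, hp, hd, hpM⟩ := hsM
  rcases supportR_cases h2 hG hN hy hy1 hs with hs1 | ⟨L', hyN, hL', hsL'⟩
  · rw [hs1, orderOf_one] at hd
    exact hp.not_dvd_one hd
  obtain ⟨g, hg⟩ := SigmaDisjoint.conj_of_sigma_inter (TauTwoFacts.tauTwo hG)
    (NonabelianFacts.nonabelianUnique hG) hG hM hL'.max hpM (mem_sigma hsL'.1 hp hd)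
  have hσ : Cfsg.sigma L' = Cfsg.sigma M := sigma_eq_of_conj hg
  have hxs : x = s := part_eq hxr hys.symm (h.trans hys.eq) hxM'
    (fun q hq hqd => hσ ▸ mem_sigma hsL'.1 hq hqd) hrM hyM
  have hry : r = y := by
    rw [hxs] at h
    exact mul_left_cancel (h.trans hys.eq)
  rcases supportR_cases h2 hG hM hx hx1 hr with hr1 | ⟨L, hxM, hL, hrL⟩
  · exact hy1 (hry ▸ hr1)
  have hxL' : ¬ Subgroup.centralizer ({x} : Set G) ≤ L' := fun hle => by
    have e := hL.uniq L' hL'.max hle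
    exact hL.nc g (e ▸ hg)
  have hspec := spec_of h2 hG hL'.max (hxs ▸ hsL'.1) hx1 hxL' hL.max hL.le
  refine hy1 (Subgroup.mem_bot.1 (hspec.compl.2.2.1 ▸ ⟨⟨?_, ?_⟩, ?_⟩))
  · exact hL'.le (Subgroup.mem_centralizer_singleton_iff.2 rfl)
  · exact hry ▸ OddTau.Basic.sigmaCore_le L hrL.1
  · exact hry ▸ hrL.1

/-- S1433 from 14.2. -/
theorem cosets_disjoint (h2 : TypePFixed G) (hG : Cfsg.IsMinSimpleOddOrder G) (hM : IsCoatom M)
    (hN : IsCoatom N) (hx : x ∈ Cfsg.sigmaCore M) (hy : y ∈ Cfsg.sigmaCore N) (hx1 : x ≠ 1)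
    (hy1 : y ≠ 1) (hxy : x ≠ y) :
    ∀ r ∈ Cfsg.supportR M x, ∀ s ∈ Cfsg.supportR N y, x * r ≠ y * s := by
  intro r hr s hs h
  by_cases hc : ∃ g : G, N = M.map (MulAut.conj g).toMonoidHom
  · obtain ⟨g, hg⟩ := hc
    exact hxy (eq_of_conj h2 hG hM hN (sigma_eq_of_conj hg) hx hy hx1 hy1 hr hs h)
  · push Not at hc
    exact ne_of_not_conj h2 hG hM hN hc hx hy hx1 hy1 hr hs h

end Cfsg.Agent.Lib.OddOrder.BG14.Cosets
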