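import Cfsg.Agent.Lib.OddOrder.BG14.KappaStar
import Cfsg.Agent.Lib.OddTau.Exceptional

/-!
# BG 14.2: the factorisation `M = K U M_σ`
-/

set_option autoImplicit false
set_option linter.style.haveILetI false
set_option linter.unusedSectionVars false

open scoped Pointwise commutatorElement

namespace Cfsg.Agent.Lib.OddOrder.BG14.Decomposition

open Cfsg.Agent.Lib.OddOrder Cfsg.Agent.Lib.OddOrder.MinSimple

universe u

variable {G : Type u} [Group G] [Finite G] {M K U : Subgroup G}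

theorem coprime_hall_sigma (hK : Cfsg.IsPiHallOf (Cfsg.kappa M) K M) :
    (Nat.card K).Coprime (Nat.card (Cfsg.sigmaCore M)) :=
  Nat.coprime_of_dvd fun q hq h1 h2 => (hK.2.1 q hq h1).2.2.1 (OddTau.Basic.mem_sigma_of_dvd hq h2)

theorem card_sup (hK : Cfsg.IsPiHallOf (Cfsg.kappa M) K M) :
    Nat.card ↥(K ⊔ Cfsg.sigmaCore M) = Nat.card K * Nat.card (Cfsg.sigmaCore M) :=
  Coprime.card_sup_of_disjoint (hK.1.trans (OddTau.Basic.le_normalizer_sigmaCore M))
    (disjoint_iff.2 (Basic.inf_eq_bot_of_coprime (coprime_hall_sigma hK)))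

/-- The three Hall subgroups `U`, `K`, `M_σ` factorize `M`. -/
theorem compl_of_hall (hG : Cfsg.IsMinSimpleOddOrder G) (hM : IsCoatom M)
    (hK : Cfsg.IsPiHallOf (Cfsg.kappa M) K M)
    (hU : Cfsg.IsPiHallOf {q | q.Prime ∧ q ∉ Cfsg.kappa M ∧ q ∉ Cfsg.sigma M} U M) :
    Cfsg.IsComplIn U (K ⊔ Cfsg.sigmaCore M) M := by
  have hσ := SigmaHall.sigmaCore_isPiHallOf hG hM
  have hcop : (Nat.card U).Coprime (Nat.card ↥(K ⊔ Cfsg.sigmaCore M)) := by
    refine Nat.coprime_of_dvd fun q hq h1 h2 => ?_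
    rw [card_sup hK] at h2
    rcases hq.dvd_mul.1 h2 with h | h
    · exact (hU.2.1 q hq h1).2.1 (hK.2.1 q hq h)
    · exact (hU.2.1 q hq h1).2.2 (OddTau.Basic.mem_sigma_of_dvd hq h)
  refine Basic.isComplIn_of_card hU.1 (sup_le hK.1 hσ.1) (Basic.inf_eq_bot_of_coprime hcop)
    (Nat.dvd_antisymm ?_ (hcop.mul_dvd_of_dvd_of_dvd (Subgroup.card_dvd_of_le hU.1)
      (Subgroup.card_dvd_of_le (sup_le hK.1 hσ.1))))
  rw [Nat.dvd_iff_prime_pow_dvd_dvd]
  intro q k hq hd
  rcases k with _ | k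
  · simp
  have key : ∀ A : Subgroup G, A ≤ M → ¬ q ∣ A.relIndex M → q ^ (k + 1) ∣ Nat.card A := by
    intro A hA hn
    have h1 := Subgroup.relIndex_mul_relIndex (⊥ : Subgroup G) A M bot_le hA
    rw [Subgroup.relIndex_bot_left, Subgroup.relIndex_bot_left] at h1
    rw [← h1] at hd
    exact ((hq.coprime_iff_not_dvd.2 hn).pow_left (k + 1)).dvd_of_dvd_mul_right hd
  rw [card_sup hK]
  by_cases hqκ : q ∈ Cfsg.kappa M
  · exact (key K hK.1 (hK.2.2 q hq hqκ)).trans (dvd_mul_of_dvd_right (dvd_mul_right _ _) _)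
  by_cases hqσ : q ∈ Cfsg.sigma M
  · exact (key _ hσ.1 (hσ.2.2 q hq hqσ)).trans (dvd_mul_of_dvd_right (dvd_mul_left _ _) _)
  exact (key U hU.1 (hU.2.2 q hq ⟨hq, hqκ, hqσ⟩)).trans (dvd_mul_right _ _)

/-- A standard factorisation exists for a cyclic Hall `κ(M)`-subgroup. -/
theorem exists_decomposition (hG : Cfsg.IsMinSimpleOddOrder G) (hM : IsCoatom M)
    (hKc : IsCyclic K) (hK : Cfsg.IsPiHallOf (Cfsg.kappa M) K M) :
    ∃ U : Subgroup G, Cfsg.IsSigmaDecomposition M K U := by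
  by_cases hK1 : K = ⊥
  · obtain ⟨E, hE⟩ := MaximalBasics.exists_compl hG hM
    refine ⟨E, hKc, hK, ?_, by rw [hK1]; exact bot_le⟩
    rwa [hK1, bot_sup_eq]
  · obtain ⟨U, -, hU, hKU, -⟩ := KappaStar.exists_U hG hM hK hK1
    exact ⟨U, hKc, hK, compl_of_hall hG hM hK hU, hKU⟩

/-- `U M_σ` is normal in `M`. -/
theorem le_normalizer_sup (h : Cfsg.IsSigmaDecomposition M K U) :
    M ≤ Subgroup.normalizer ((U ⊔ Cfsg.sigmaCore M : Subgroup G) : Set G) := by
  set V := U ⊔ Cfsg.sigmaCore M with hV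
  refine (Basic.isComplIn_sup h.compl).ge.trans (sup_le
    (le_sup_left.trans Subgroup.le_normalizer) (sup_le (fun k hk => ?_)
      (le_sup_right.trans Subgroup.le_normalizer)))
  refine Subgroup.mem_normalizer_iff_map_conj_eq.2 ?_
  rw [hV, Subgroup.map_sup,
    Subgroup.mem_normalizer_iff_map_conj_eq.1 (h.normal hk),
    Subgroup.mem_normalizer_iff_map_conj_eq.1
      (OddTau.Basic.le_normalizer_sigmaCore M (h.hall.1 hk))]

/-- The primes of `U` lie outside `σ(M) ∪ κ(M)`. -/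
theorem prime_U (hG : Cfsg.IsMinSimpleOddOrder G) (hM : IsCoatom M)
    (h : Cfsg.IsSigmaDecomposition M K U) {q : ℕ} (hq : q.Prime) (hd : q ∣ Nat.card U) :
    q ∉ Cfsg.kappa M ∧ q ∉ Cfsg.sigma M := by
  have hσ := SigmaHall.sigmaCore_isPiHallOf hG hM
  have hc : Nat.card U * (Nat.card K * Nat.card (Cfsg.sigmaCore M)) = Nat.card M := by
    rw [← card_sup h.hall, Basic.isComplIn_card h.compl]
  refine ⟨fun hκ => h.hall.2.2 q hq hκ ?_, fun hqσ => hσ.2.2 q hq hqσ ?_⟩
  · have h1 := Subgroup.relIndex_mul_relIndex (⊥ : Subgroup G) K M bot_le h.hall.1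
    rw [Subgroup.relIndex_bot_left, Subgroup.relIndex_bot_left, ← hc] at h1
    have h2 : K.relIndex M = Nat.card U * Nat.card (Cfsg.sigmaCore M) :=
      Nat.eq_of_mul_eq_mul_left (Nat.card_pos (α := K)) (h1.trans (by ring))
    exact h2 ▸ hd.mul_right _
  · have h1 := Subgroup.relIndex_mul_relIndex (⊥ : Subgroup G) _ M bot_le hσ.1
    rw [Subgroup.relIndex_bot_left, Subgroup.relIndex_bot_left, ← hc] at h1
    have h2 : (Cfsg.sigmaCore M).relIndex M = Nat.card U * Nat.card K :=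
      Nat.eq_of_mul_eq_mul_left (Nat.card_pos (α := Cfsg.sigmaCore M)) (h1.trans (by ring))
    exact h2 ▸ hd.mul_right _

/-- `K` acts on `U` without fixed points. -/
theorem regular_U (hG : Cfsg.IsMinSimpleOddOrder G) (hM : IsCoatom M)
    (h : Cfsg.IsSigmaDecomposition M K U) {k : G} (hk : k ∈ K) (hk1 : k ≠ 1) :
    U ⊓ Subgroup.centralizer ({k} : Set G) = ⊥ := by
  obtain ⟨E, hE, hYE⟩ := BetaDerived.exists_compl_ge hG hM (Y := U ⊔ K)
    (sup_le h.compl.1 h.hall.1) fun q hq hd => by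
      rcases SigmaSubgroup.relIndex_sup_right_le q hq hd h.normal with h1 | h1
      · exact (prime_U hG hM h hq h1).2
      · exact (h.hall.2.1 q hq h1).2.2.1
  obtain ⟨r, hr, hd⟩ := Nat.exists_prime_and_dvd fun h1 => hk1 (orderOf_eq_one_iff.1 h1)
  haveI := Fact.mk hr
  have h0o := OddTau.Regular.exists_pow_prime_order hd
  have heq := KappaHall.inf_normalizer hG hM h.hall hE (le_sup_right.trans hYE)
    (X := Subgroup.zpowers (k ^ (orderOf k / r))) (by rw [Nat.card_zpowers, h0o])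
    (Subgroup.zpowers_le.2 (pow_mem hk _))
  have hUK : U ⊓ K = ⊥ := Basic.inf_eq_bot_of_coprime (Nat.coprime_of_dvd fun q hq h1 h2 =>
    (prime_U hG hM h hq h1).1 (h.hall.2.1 q hq h2))
  rw [← le_bot_iff, ← hUK]
  refine le_inf inf_le_left (le_trans (le_inf (inf_le_left.trans (le_sup_left.trans hYE)) ?_) heq.le)
  refine inf_le_right.trans (le_trans (fun z hz => ?_) (Subgroup.centralizer_le_normalizer _))
  rw [SigmaDisjoint.centralizer_zpowers]
  exact Subgroup.mem_centralizer_singleton_iff.2 ((show Commute z k from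
    Subgroup.mem_centralizer_singleton_iff.1 hz).pow_right _).eq

theorem sigmaCore_ne_bot (hG : Cfsg.IsMinSimpleOddOrder G) (hM : IsCoatom M) :
    Cfsg.sigmaCore M ≠ ⊥ := by
  obtain ⟨q, hq, hqσ, -⟩ := OddTau.Exceptional.exists_sigma_prime hG hM
  intro e
  refine (SigmaHall.sigmaCore_isPiHallOf hG hM).2.2 q hq.out hqσ ?_
  rw [e, Subgroup.relIndex_bot_left]
  exact hqσ.2.1

/-- `C_M(k) = K K*`. -/
theorem centralizer_eq (hG : Cfsg.IsMinSimpleOddOrder G) (hM : IsCoatom M) (hKc : IsCyclic K)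
    (hK : Cfsg.IsPiHallOf (Cfsg.kappa M) K M) {k : G} (hk : k ∈ K) (hk1 : k ≠ 1) :
    M ⊓ Subgroup.centralizer ({k} : Set G) =
      K ⊔ (Cfsg.sigmaCore M ⊓ Subgroup.centralizer (K : Set G)) := by
  obtain ⟨r, hr, hd⟩ := Nat.exists_prime_and_dvd fun h1 => hk1 (orderOf_eq_one_iff.1 h1)
  haveI := Fact.mk hr
  have h0o := OddTau.Regular.exists_pow_prime_order hd
  refine le_antisymm ?_ (sup_le (le_inf hK.1 ?_) (le_inf
    (inf_le_left.trans (OddTau.Basic.sigmaCore_le M))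
    (inf_le_right.trans (Subgroup.centralizer_le (Set.singleton_subset_iff.2 hk)))))
  · rw [← (KappaStar.inf_normalizer hG hM hK (X := Subgroup.zpowers (k ^ (orderOf k / r)))
      (Subgroup.zpowers_le.2 (pow_mem hk _)) (by rw [Nat.card_zpowers, h0o])).1]
    refine inf_le_inf_left _ (le_trans (fun z hz => ?_) (Subgroup.centralizer_le_normalizer _))
    rw [SigmaDisjoint.centralizer_zpowers]
    exact Subgroup.mem_centralizer_singleton_iff.2 ((show Commute z k from
      Subgroup.mem_centralizer_singleton_iff.1 hz).pow_right _).eq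
  · haveI := hKc
    exact (Subgroup.le_centralizer_iff_isMulCommutative.2 inferInstance).trans
      (Subgroup.centralizer_le (Set.singleton_subset_iff.2 hk))

theorem star_ne_bot (hG : Cfsg.IsMinSimpleOddOrder G) (hM : IsCoatom M)
    (hK : Cfsg.IsPiHallOf (Cfsg.kappa M) K M) :
    Cfsg.sigmaCore M ⊓ Subgroup.centralizer (K : Set G) ≠ ⊥ := by
  by_cases hK1 : K = ⊥
  · have hc : Subgroup.centralizer ((K : Subgroup G) : Set G) = ⊤ := by
      rw [hK1, eq_top_iff]
      exact fun z _ => Subgroup.mem_centralizer_iff.2 fun a ha => by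
        rw [Subgroup.mem_bot.1 ha, one_mul, mul_one]
    rw [hc, inf_top_eq]
    exact sigmaCore_ne_bot hG hM
  · exact KappaStar.star_ne_bot hG hM hK hK1

end Cfsg.Agent.Lib.OddOrder.BG14.Decomposition
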