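import Cfsg.Agent.Lib.OddOrder.BG14.KappaHyp

/-!
# Elementary facts on the decomposition `M = K U M_σ`
-/

set_option autoImplicit false
set_option linter.style.haveILetI false
set_option linter.unusedSectionVars false

open scoped Pointwise

namespace Cfsg.Agent.Lib.OddOrder.BG14.KappaFacts

open Cfsg.Agent.Lib.OddOrder Cfsg.Agent.Lib.OddOrder.MinSimple
  Cfsg.Agent.Lib.OddOrder.BG14.ElementDichotomy Cfsg.Agent.Lib.OddOrder.BG14.KappaHyp

universe u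

variable {G : Type u} [Group G] [Finite G] {M K U : Subgroup G}

theorem exists_decomposition (h1 : CyclicHall G) (h2 : DecompExists G) (hM : IsCoatom M) :
    ∃ K U, Cfsg.IsSigmaDecomposition M K U := by
  obtain ⟨K, hK⟩ := (h1 M hM).1
  exact ⟨K, (h2 M hM K ((h1 M hM).2 K hK) hK).1⟩

theorem ne_bot_of_kappa (hK : Cfsg.IsPiHallOf (Cfsg.kappa M) K M) (hne : (Cfsg.kappa M).Nonempty) :
    K ≠ ⊥ := by
  rintro rfl
  obtain ⟨p, hp⟩ := hne
  refine hK.2.2 p hp.1 hp ?_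
  rw [Subgroup.relIndex_bot_left]
  exact hp.2.1

theorem exists_kappa_dvd (hK : Cfsg.IsPiHallOf (Cfsg.kappa M) K M) (hK1 : K ≠ ⊥) :
    ∃ p : ℕ, p ∈ Cfsg.kappa M ∧ p ∣ Nat.card K := by
  obtain ⟨p, hp, hpd⟩ := Nat.exists_prime_and_dvd (mt Subgroup.card_eq_one.1 hK1)
  exact ⟨p, hK.2.1 p hp hpd, hpd⟩

/-- An element of order `p ∈ κ(M)` of `M` has a fixed point on `M_σ`. -/
theorem fixed_of_kappa {p : ℕ} (hκ : p ∈ Cfsg.kappa M) {k : G} (hk : k ∈ M)
    (hko : orderOf k = p) : ∃ y ∈ Cfsg.sigmaCore M, y ≠ 1 ∧ k * y = y * k := by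
  haveI := Fact.mk hκ.1
  have hkM : orderOf (⟨k, hk⟩ : M) = p := by rw [Subgroup.orderOf_mk, hko]
  obtain ⟨P, hP⟩ := (IsPGroup.of_card (p := p) (n := 1) (G := Subgroup.zpowers (⟨k, hk⟩ : M))
    (by rw [Nat.card_zpowers, hkM, pow_one])).exists_le_sylow
  obtain ⟨hPc, z, hzP, hz1, y, hy, hy1, hzy⟩ := hκ.2.2.2 P
  haveI : IsCyclic (P : Subgroup M) := hPc
  have hd : p ∣ orderOf z := by
    obtain ⟨n, hn⟩ := P.2 ⟨z, hzP⟩
    have : orderOf z ∣ p ^ n := orderOf_dvd_of_pow_eq_one (congrArg Subtype.val hn)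
    obtain ⟨i, -, hi⟩ := (Nat.dvd_prime_pow hκ.1).1 this
    rcases i with _ | i
    · exact absurd (orderOf_eq_one_iff.1 (by rw [hi, pow_zero])) hz1
    · exact hi ▸ dvd_pow_self p i.succ_ne_zero
  set z₁ := z ^ (orderOf z / p) with hz₁
  have hz₁o : orderOf z₁ = p := OddTau.Regular.exists_pow_prime_order hd
  have heq : Subgroup.zpowers (⟨k, hk⟩ : M) = Subgroup.zpowers z₁ :=
    Cyclic.eq_of_card_eq_of_isCyclic (W := (P : Subgroup M)) hP
      (Subgroup.zpowers_le.2 (pow_mem hzP _)) (by rw [Nat.card_zpowers, Nat.card_zpowers, hkM, hz₁o])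
  obtain ⟨i, hi⟩ : (⟨k, hk⟩ : M) ∈ Subgroup.zpowers z₁ := heq ▸ Subgroup.mem_zpowers _
  refine ⟨y, hy, hy1, ?_⟩
  have e : k = ((z : G) ^ (orderOf z / p)) ^ i := by
    have := congrArg Subtype.val hi
    simpa [hz₁] using this.symm
  rw [e]
  exact (((show Commute (z : G) y from hzy).pow_left _).zpow_left i).eq

/-- `K* = M_σ ∩ C(K) ≠ 1`. -/
theorem star_ne_bot (h2 : TypePFixed G) (hM : IsCoatom M)
    (hK : Cfsg.IsPiHallOf (Cfsg.kappa M) K M) (hK1 : K ≠ ⊥) :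
    Cfsg.sigmaCore M ⊓ Subgroup.centralizer (K : Set G) ≠ ⊥ := by
  obtain ⟨p, hκ, hpd⟩ := exists_kappa_dvd hK hK1
  haveI := Fact.mk hκ.1
  obtain ⟨⟨k, hkK⟩, hko⟩ := exists_prime_orderOf_dvd_card' (G := K) p hpd
  rw [Subgroup.orderOf_mk] at hko
  obtain ⟨y, hy, hy1, hky⟩ := fixed_of_kappa hκ (hK.1 hkK) hko
  have hk1 : k ≠ 1 := fun e => hκ.1.ne_one (by rw [← hko, e, orderOf_one])
  rw [← (h2 M hM K hK hK1).1 k hkK hk1]
  exact fun e => hy1 (Subgroup.mem_bot.1 (e ▸ ⟨hy, Subgroup.mem_centralizer_singleton_iff.2 hky.symm⟩))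

/-- A maximal partner has `κ ≠ ∅`. -/
theorem partner_kappa_nonempty (h2 : TypePFixed G) (hM : IsCoatom M)
    (hK : Cfsg.IsPiHallOf (Cfsg.kappa M) K M) (hK1 : K ≠ ⊥) {Mstar : Subgroup G}
    (hP : Partner G M K Mstar) : (Cfsg.kappa Mstar).Nonempty :=
  (exists_kappa_dvd hP.2.2 (star_ne_bot h2 hM hK hK1)).imp fun _ h => h.1

theorem kappa_eq_of_conj {N : Subgroup G} {g : G} (h : N = M.map (MulAut.conj g).toMonoidHom) :
    Cfsg.kappa N = Cfsg.kappa M := by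
  rw [h, ← PF8.Conj.im, Conj.kappa_im]

theorem card_eq (h : Cfsg.IsSigmaDecomposition M K U) :
    Nat.card U * (Nat.card K * Nat.card (Cfsg.sigmaCore M)) = Nat.card M := by
  have hd : K ⊓ Cfsg.sigmaCore M = ⊥ := Basic.inf_eq_bot_of_coprime
    (Nat.coprime_of_dvd fun p hp h1 h3 => (h.hall.2.1 p hp h1).2.2.1
      (OddTau.Basic.mem_sigma_of_dvd hp h3))
  rw [← Coprime.card_sup_of_disjoint (h.hall.1.trans (OddTau.Basic.le_normalizer_sigmaCore M))
    (disjoint_iff.2 hd), Basic.isComplIn_card h.compl]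

/-- The primes of `U` avoid `σ(M)` and `κ(M)`. -/
theorem not_mem_of_dvd_U (hG : Cfsg.IsMinSimpleOddOrder G) (hM : IsCoatom M)
    (h : Cfsg.IsSigmaDecomposition M K U) {p : ℕ} (hp : p.Prime) (hd : p ∣ Nat.card U) :
    p ∉ Cfsg.sigma M ∧ p ∉ Cfsg.kappa M := by
  have hKM : K.relIndex M * Nat.card K = Nat.card M := by
    rw [mul_comm]; exact OddFitting.Decomp.card_mul_relIndex h.hall.1
  have hSM : (Cfsg.sigmaCore M).relIndex M * Nat.card (Cfsg.sigmaCore M) = Nat.card M := by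
    rw [mul_comm]; exact OddFitting.Decomp.card_mul_relIndex (OddTau.Basic.sigmaCore_le M)
  refine ⟨fun hσ => (SigmaHall.sigmaCore_isPiHallOf hG hM).2.2 p hp hσ ?_,
    fun hκ => h.hall.2.2 p hp hκ ?_⟩
  · rw [show (Cfsg.sigmaCore M).relIndex M = Nat.card U * Nat.card K from
      Nat.eq_of_mul_eq_mul_right Nat.card_pos (by rw [hSM, ← card_eq h, mul_assoc])]
    exact hd.mul_right _
  · rw [show K.relIndex M = Nat.card U * Nat.card (Cfsg.sigmaCore M) from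
      Nat.eq_of_mul_eq_mul_right Nat.card_pos (by rw [hKM, ← card_eq h]; ring)]
    exact hd.mul_right _

/-- Primes of `M` outside `σ(M) ∪ κ(M)` divide `|U|`. -/
theorem dvd_U (h : Cfsg.IsSigmaDecomposition M K U) {p : ℕ} (hp : p.Prime) (hd : p ∣ Nat.card M)
    (hσ : p ∉ Cfsg.sigma M) (hκ : p ∉ Cfsg.kappa M) : p ∣ Nat.card U := by
  rw [← card_eq h] at hd
  refine (hp.dvd_mul.1 hd).resolve_right fun h' => ?_
  rcases hp.dvd_mul.1 h' with h' | h'
  · exact hκ (h.hall.2.1 p hp h')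
  · exact hσ (OddTau.Basic.mem_sigma_of_dvd hp h')

theorem U_le (h : Cfsg.IsSigmaDecomposition M K U) : U ≤ M := h.compl.1

end Cfsg.Agent.Lib.OddOrder.BG14.KappaFacts
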