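import Cfsg.Agent.Lib.OddOrder.BG14.RegularCyclic
import Cfsg.Agent.Lib.OddOrder.BG14.KappaFacts
import Cfsg.Agent.Lib.OddOrder.BG14.Decomposition
import Cfsg.Agent.Lib.OddTau.Unique
import Cfsg.Agent.Lib.Hall.Coprime
import Cfsg.Agent.S1421

/-!
# BG Theorem B: the structure of `U` and of `A(M)`
-/

set_option autoImplicit false
set_option linter.style.haveILetI false
set_option linter.unusedSectionVars false

open scoped Pointwise

namespace Cfsg.Agent.Lib.OddOrder.BG14.TheoremB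

open Cfsg.Agent.Lib.OddOrder Cfsg.Agent.Lib.OddOrder.MinSimple Cfsg.Agent.Lib.OddTau.Basic

universe u

variable {G : Type u} [Group G] [Finite G] {M K U : Subgroup G}

theorem U_hall (hG : Cfsg.IsMinSimpleOddOrder G) (hM : IsCoatom M)
    (h : Cfsg.IsSigmaDecomposition M K U) :
    Cfsg.IsPiHallOf {q | q.Prime ∧ q ∉ Cfsg.kappa M ∧ q ∉ Cfsg.sigma M} U M := by
  refine ⟨h.compl.1, fun q hq hd => ⟨hq, Decomposition.prime_U hG hM h hq hd⟩, fun q hq hqπ hd => ?_⟩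
  rw [Basic.isComplIn_relIndex h.compl, Decomposition.card_sup h.hall] at hd
  rcases hq.dvd_mul.1 hd with hd | hd
  · exact hqπ.2.1 (h.hall.2.1 q hq hd)
  · exact hqπ.2.2 (mem_sigma_of_dvd hq hd)

theorem U_abelian (hG : Cfsg.IsMinSimpleOddOrder G) (hM : IsCoatom M)
    (h : Cfsg.IsSigmaDecomposition M K U) (hK1 : K ≠ ⊥) : IsMulCommutative U := by
  obtain ⟨U₁, hU₁, hH₁, -, -⟩ := KappaStar.exists_U hG hM h.hall hK1
  obtain ⟨m, -, hm⟩ :=
    Hall.Coprime.exists_conj_of_isPiHallOf (solvable_of_ne_top hG hM.1) hH₁ (U_hall hG hM h)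
  subst hm
  haveI := hU₁
  exact ⟨⟨fun a b => (Subgroup.equivSMul (MulAut.conj m) U₁).symm.injective (by
    rw [map_mul, map_mul]; exact mul_comm' _ _)⟩⟩

theorem compl_of_bot (h : Cfsg.IsSigmaDecomposition M K U) (hK : K = ⊥) :
    Cfsg.IsComplIn U (Cfsg.sigmaCore M) M := by
  have := h.compl
  rwa [hK, bot_sup_eq] at this

/-- An element of `U` with a fixed point on `M_σ` is a `τ₂(M)`-element. -/
theorem tau2_of_fixed (hG : Cfsg.IsMinSimpleOddOrder G) (hM : IsCoatom M)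
    (h : Cfsg.IsSigmaDecomposition M K U) {a z : G} (ha : a ∈ U) (hz : z ∈ Cfsg.sigmaCore M)
    (hz1 : z ≠ 1) (hc : a * z = z * a) (q : ℕ) (hq : q.Prime) (hd : q ∣ orderOf a) :
    q ∈ Cfsg.tau2 M := by
  obtain ⟨hκ, hσ⟩ := Decomposition.prime_U hG hM h hq (hd.trans (U.orderOf_dvd_natCard ha))
  exact (ElementDichotomy.mem_kappa_or_tau2 hG hM hz hz1 (h.compl.1 ha) hc hq hd hσ).resolve_left hκ

theorem semiregular (hG : Cfsg.IsMinSimpleOddOrder G) (hM : IsCoatom M)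
    (h : Cfsg.IsSigmaDecomposition M K U) : ∀ e ∈ U, e ≠ 1 →
      (∀ q : ℕ, q.Prime → q ∣ orderOf e → q ∈ Cfsg.tau1 M ∪ Cfsg.tau3 M) →
      Cfsg.sigmaCore M ⊓ Subgroup.centralizer ({e} : Set G) = ⊥ := by
  intro e he he1 hτ
  obtain ⟨q, hq, hd⟩ := Nat.exists_prime_and_dvd fun h' => he1 (orderOf_eq_one_iff.1 h')
  rw [Subgroup.eq_bot_iff_forall]
  intro z hz
  by_contra hz1
  exact (tau2_of_fixed hG hM h he hz.1 hz1
    (Subgroup.mem_centralizer_singleton_iff.1 hz.2).symm q hq hd).2.2.2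
    (NonKappa.prankLE_one_of_tau13 (hτ q hq hd))

theorem isMulCommutative_of_le {A B : Subgroup G} (hle : A ≤ B) (hB : IsMulCommutative B) :
    IsMulCommutative A :=
  ⟨⟨fun a b => Subtype.ext (congrArg (fun c : B => (c : G))
    (hB.is_comm.comm ⟨a, hle a.2⟩ ⟨b, hle b.2⟩))⟩⟩

/-- S1358. -/
theorem sylow_U (hG : Cfsg.IsMinSimpleOddOrder G) (hM : IsCoatom M)
    (h : Cfsg.IsSigmaDecomposition M K U) {p : ℕ} (hp : p.Prime) (P : _root_.Sylow p U) :
    IsMulCommutative (P : Subgroup U) ∧ Cfsg.PRankLE p 2 (P : Subgroup U) := by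
  haveI := Fact.mk hp
  by_cases hd : p ∣ Nat.card U
  · have hσ := (Decomposition.prime_U hG hM h hp hd).2
    set P₁ := (P : Subgroup U).map U.subtype with hP₁
    have hP₁M : P₁ ≤ M := (Subgroup.map_subtype_le _).trans h.compl.1
    have hP₁p : IsPGroup p P₁ := P.2.map _
    obtain ⟨E, hE⟩ := MaximalBasics.exists_compl hG hM
    have hab : IsMulCommutative P₁ := (Cfsg.Agent.S1420.result hG M hM E hE).1 P₁ hP₁M
      hP₁p.isNilpotent fun q hq hqd => Hall.prime_dvd_pgroup hp hq hP₁p hqd ▸ hσ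
    let e := (P : Subgroup U).equivMapOfInjective U.subtype U.subtype_injective
    refine ⟨⟨⟨fun a b => e.injective (by rw [map_mul, map_mul]; exact hab.is_comm.comm _ _)⟩⟩, ?_⟩
    by_contra hn
    have hr2 : Cfsg.PRankLE p 2 M := by
      by_contra hn'
      exact hσ (AlphaCore.alpha_subset_sigma hG hM ⟨hp, hn'⟩)
    refine hn (Rank.prankLE_subgroup_iff.2 fun E' hE' he => ?_)
    have hle : E'.map U.subtype ≤ M := (Subgroup.map_subtype_le _).trans h.compl.1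
    rw [Nat.card_congr (E'.equivMapOfInjective U.subtype U.subtype_injective).toEquiv]
    exact Rank.prankLE_subgroup_iff.1 hr2 _ hle (PGroups.elemAb_map U.subtype he)
  · have hbot : (P : Subgroup U) = ⊥ := by
      obtain ⟨n, hn⟩ := IsPGroup.iff_card.1 P.2
      rcases n with _ | n
      · rwa [pow_zero, Subgroup.card_eq_one] at hn
      · exact absurd ((dvd_pow_self p n.succ_ne_zero).trans
          (hn ▸ (P : Subgroup U).card_subgroup_dvd_card)) hd
    rw [hbot]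
    refine ⟨inferInstance, Rank.prankLE_subgroup_iff.2 fun E' hE' _ => ?_⟩
    rw [le_bot_iff] at hE'
    rw [hE', Subgroup.card_bot]
    exact Nat.one_le_pow _ _ hp.pos

/-- S1359. -/
theorem closure_hat (hG : Cfsg.IsMinSimpleOddOrder G) (hM : IsCoatom M)
    (h : Cfsg.IsSigmaDecomposition M K U) :
    IsMulCommutative (Subgroup.closure ((U : Set G) ∩ Cfsg.sigmaHat M)) := by
  by_cases hK1 : K = ⊥
  · obtain ⟨⟨A₀, -, -, hA₀, hfix⟩, -⟩ :=
      Cfsg.Agent.S1421.result hG M hM U (compl_of_bot h hK1) (semiregular hG hM h)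
    refine isMulCommutative_of_le ((Subgroup.closure_le _).2 ?_) hA₀
    rintro a ⟨ha, -, z, hz, hz1, hc⟩
    exact hfix z hz hz1 ⟨ha, Subgroup.mem_centralizer_singleton_iff.2 hc⟩
  · exact isMulCommutative_of_le ((Subgroup.closure_le _).2 fun a ha => ha.1)
      (U_abelian hG hM h hK1)

theorem eq_one_of_hat {u₀ : G} (hreg : u₀ ≠ 1 →
    Cfsg.sigmaCore M ⊓ Subgroup.centralizer ({u₀} : Set G) = ⊥) (hu : u₀ ∈ Cfsg.sigmaHat M) :
    u₀ = 1 := by
  by_contra hne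
  obtain ⟨-, z, hz, hz1, hc⟩ := hu
  exact hz1 (Subgroup.mem_bot.1 (hreg hne ▸ ⟨hz, Subgroup.mem_centralizer_singleton_iff.2 hc.symm⟩))

/-- S1360 for abelian `U`. -/
theorem exponent_part_abelian (hG : Cfsg.IsMinSimpleOddOrder G) (hM : IsCoatom M)
    (h : Cfsg.IsSigmaDecomposition M K U) (hab : IsMulCommutative U) :
    ∃ U₀ : Subgroup G, U₀ ≤ U ∧ Monoid.exponent U₀ = Monoid.exponent U ∧
      ∀ u ∈ U₀, u ≠ 1 → Cfsg.sigmaCore M ⊓ Subgroup.centralizer ({u} : Set G) = ⊥ := by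
  classical
  haveI := hab
  have hcomm : ∀ {a b : G}, a ∈ U → b ∈ U → Commute a b := fun {a b} ha hb =>
    congrArg Subtype.val (mul_comm' (⟨a, ha⟩ : U) ⟨b, hb⟩)
  have hW : ∀ q : ℕ, ∃ w : G, q ∈ Cfsg.tau2 M → w ∈ U ∧ (∃ n : ℕ, orderOf w = q ^ n) ∧
      (∀ y ∈ U, ∀ n : ℕ, orderOf y = q ^ n → y ^ orderOf w = 1) ∧
      ∀ y ∈ Subgroup.zpowers w, orderOf y = q →
        Cfsg.sigmaCore M ⊓ Subgroup.centralizer ({y} : Set G) = ⊥ := by
    intro q
    by_cases hqτ : q ∈ Cfsg.tau2 M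
    swap
    · exact ⟨1, fun h' => absurd h' hqτ⟩
    haveI := Fact.mk hqτ.1
    obtain ⟨P⟩ : Nonempty (_root_.Sylow q U) := inferInstance
    set P₁ := (P : Subgroup U).map U.subtype with hP₁
    have hidx : ¬ q ∣ P₁.relIndex M := by
      rw [← Subgroup.relIndex_mul_relIndex P₁ U M (Subgroup.map_subtype_le _) h.compl.1, hP₁,
        Basic.relIndex_map_subtype]
      exact fun h' => (hqτ.1.dvd_mul.1 h').elim P.not_dvd_index ((U_hall hG hM h).2.2 q hqτ.1
        ⟨hqτ.1, fun hκ => NonKappa.not_tau2_of_kappa hκ hqτ, hqτ.2.1⟩)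
    obtain ⟨Q, hQ⟩ := OddFitting.Decomp.exists_sylow_eq
      ((Subgroup.map_subtype_le _).trans h.compl.1) (P.2.map U.subtype) hidx
    obtain ⟨w, hw, hexp, hreg⟩ := RegularCyclic.good hG hM hqτ Q
    rw [hQ] at hw hexp
    refine ⟨w, fun _ => ⟨Subgroup.map_subtype_le _ hw, ?_, fun y hy n hn => hexp y ?_, hreg⟩⟩
    · obtain ⟨n, hn⟩ := IsPGroup.iff_orderOf.1 (P.2.map U.subtype) ⟨w, hw⟩
      exact ⟨n, by rwa [Subgroup.orderOf_mk] at hn⟩
    · obtain ⟨P', hP'⟩ := (IsPGroup.of_card (p := q) (n := n) (G := Subgroup.zpowers (⟨y, hy⟩ : U))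
        (by rw [Nat.card_zpowers, Subgroup.orderOf_mk, hn])).exists_le_sylow
      haveI hPn : (P : Subgroup U).Normal :=
        ⟨fun a ha g => by rwa [show g * a * g⁻¹ = a by rw [mul_comm' g a, mul_inv_cancel_right]]⟩
      haveI := Sylow.unique_of_normal P hPn
      rw [Subsingleton.elim P' P] at hP'
      exact ⟨_, hP' (Subgroup.mem_zpowers _), rfl⟩
  choose w hw using hW
  let m : ℕ → ℕ := fun q => Nat.card U / q ^ (Nat.card U).factorization q
  let U₀ : Subgroup G :=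
    { carrier := {e | e ∈ U ∧ ∀ q ∈ Cfsg.tau2 M, e ^ m q ∈ Subgroup.zpowers (w q)}
      one_mem' := ⟨one_mem _, fun q _ => by rw [one_pow]; exact one_mem _⟩
      mul_mem' := fun {a b} ha hb => ⟨mul_mem ha.1 hb.1, fun q hq => by
        rw [(hcomm ha.1 hb.1).mul_pow]
        exact mul_mem (ha.2 q hq) (hb.2 q hq)⟩
      inv_mem' := fun {a} ha => ⟨inv_mem ha.1, fun q hq => by
        rw [inv_pow]; exact inv_mem (ha.2 q hq)⟩ }
  -- a `q`-element is killed by `m r` for `r ≠ q`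
  have hkill : ∀ {q n r : ℕ} {y : G}, q.Prime → r.Prime → r ≠ q → y ∈ U → orderOf y = q ^ n →
      y ^ m r = 1 := by
    intro q n r y hq hr hne hy hn
    refine orderOf_dvd_iff_pow_eq_one.1 ?_
    refine Nat.Coprime.dvd_of_dvd_mul_left (k := orderOf y)
      (m := r ^ (Nat.card U).factorization r) (n := m r) ?_ ?_
    · rw [hn]; exact ((Nat.coprime_primes hq hr).2 (Ne.symm hne)).pow _ _
    · rw [Nat.ordProj_mul_ordCompl_eq_self]
      exact U.orderOf_dvd_natCard hy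
  refine ⟨U₀, fun e he => he.1, ?_, fun e he he1 => OddTau.Regular.regular_of_prime ?_ he he1⟩
  · refine OddTau.Regular.exponent_eq (fun e he => he.1) fun q n hq y hy hyo => ?_
    suffices hz : ∃ z ∈ U₀, y ^ orderOf z = 1 by
      obtain ⟨z, hz, hzy⟩ := hz
      obtain ⟨c, hc⟩ : orderOf z ∣ Monoid.exponent U₀ := by
        rw [← Subgroup.orderOf_mk z hz]; exact Monoid.order_dvd_exponent _
      rw [hc, pow_mul, hzy, one_pow]
    by_cases hqτ : q ∈ Cfsg.tau2 M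
    · obtain ⟨hwU, ⟨k, hk⟩, hexp, -⟩ := hw q hqτ
      refine ⟨w q, ⟨hwU, fun r hr => ?_⟩, hexp y hy n hyo⟩
      by_cases hrq : r = q
      · subst hrq; exact pow_mem (Subgroup.mem_zpowers _) _
      · rw [hkill hq hr.1 hrq hwU hk]; exact one_mem _
    · refine ⟨y, ⟨hy, fun r hr => ?_⟩, pow_orderOf_eq_one y⟩
      rw [hkill hq hr.1 (fun e => hqτ (e ▸ hr)) hy hyo]
      exact one_mem _
  · intro y hy q hq hyo
    have hqU : q ∣ Nat.card U := hyo ▸ U.orderOf_dvd_natCard hy.1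
    obtain ⟨hκ, hσ⟩ := Decomposition.prime_U hG hM h hq hqU
    rcases NonKappa.mem_tau_cases hG hM hq (hqU.trans (Subgroup.card_dvd_of_le h.compl.1)) hσ with
      h1 | h2
    · exact NonKappa.regular_of_not_kappa hG h1 hκ (h.compl.1 hy.1) hyo
    · refine (hw q h2).2.2.2 y ?_ hyo
      obtain ⟨i, hi⟩ := exists_pow_eq_self_of_coprime (x := y) (n := m q) (by
        rw [hyo]
        exact ((hq.coprime_iff_not_dvd).2 (Nat.not_dvd_ordCompl hq Nat.card_pos.ne')).symm)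
      rw [← hi]
      exact pow_mem (hy.2 q h2) i

/-- S1360. -/
theorem exponent_part (hG : Cfsg.IsMinSimpleOddOrder G) (hM : IsCoatom M)
    (h : Cfsg.IsSigmaDecomposition M K U) :
    ∃ U₀ : Subgroup G, U₀ ≤ U ∧ Monoid.exponent U₀ = Monoid.exponent U ∧
      ∀ u ∈ U₀, u ∈ Cfsg.sigmaHat M → u = 1 := by
  by_cases hK1 : K = ⊥
  · obtain ⟨-, E₀, hle, hexp, hreg⟩ :=
      Cfsg.Agent.S1421.result hG M hM U (compl_of_bot h hK1) (semiregular hG hM h)
    exact ⟨E₀, hle, hexp, fun u hu => eq_one_of_hat (hreg u hu)⟩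
  · obtain ⟨U₀, hle, hexp, hreg⟩ := exponent_part_abelian hG hM h (U_abelian hG hM h hK1)
    exact ⟨U₀, hle, hexp, fun u hu => eq_one_of_hat (hreg u hu)⟩

/-- S1361. -/
theorem centralizer_unique (hG : Cfsg.IsMinSimpleOddOrder G) (hM : IsCoatom M)
    (h : Cfsg.IsSigmaDecomposition M K U) {X : Subgroup G} (hXU : X ≤ U) (hX : X ≠ ⊥)
    (hXc : Cfsg.sigmaCore M ⊓ Subgroup.centralizer (X : Set G) ≠ ⊥) :
    Subgroup.centralizer (X : Set G) ≤ M ∧
      ∀ L : Subgroup G, IsCoatom L → Subgroup.centralizer (X : Set G) ≤ L → L = M := by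
  obtain ⟨z, hz, hz1⟩ := (Subgroup.bot_or_exists_ne_one _).resolve_left hXc
  have hXτ : ∀ a ∈ X, ∀ q : ℕ, q.Prime → q ∣ orderOf a → q ∈ Cfsg.tau2 M := fun a ha =>
    tau2_of_fixed hG hM h (hXU ha) hz.1 hz1 (Subgroup.mem_centralizer_iff.1 hz.2 a ha)
  obtain ⟨E, hE, hUE⟩ := TauTwoSigma.exists_compl_ge hG hM h.compl.1 fun q hq hd =>
    (Decomposition.prime_U hG hM h hq hd).2
  obtain ⟨x₀, hx₀, hx₀1⟩ := (Subgroup.bot_or_exists_ne_one X).resolve_left hX
  obtain ⟨p, hp, hpd⟩ := Nat.exists_prime_and_dvd fun e => hx₀1 (orderOf_eq_one_iff.1 e)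
  haveI := Fact.mk hp
  obtain ⟨A, hAE, hA⟩ := OddTau.TauTwoAbelian.exists_ctx hG hM hE (hXτ x₀ hx₀ p hp hpd)
  have hXE : X ≤ E := hXU.trans hUE
  have hXA : X ≤ Subgroup.centralizer (A : Set G) := by
    by_cases hne : Cfsg.tau2 M = {p}
    · have hXp : IsPGroup p X := by
        refine IsPGroup.of_card (Nat.eq_prime_pow_of_unique_prime_dvd Nat.card_pos.ne'
          fun {s} hs hsd => ?_)
        haveI := Fact.mk hs
        obtain ⟨⟨a, ha⟩, hao⟩ := exists_prime_orderOf_dvd_card' (G := X) s hsd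
        rw [Subgroup.orderOf_mk] at hao
        exact Set.mem_singleton_iff.1 (hne ▸ hXτ a ha s hs hao.symm.dvd)
      have hsup : IsPGroup p ↥(A ⊔ X) := IsPGroup.to_sup_of_normal_left' hA.isPGroup hXp
        (hXE.trans (OddTau.Context.le_normalizer_of_compl hA hE hAE))
      have hle : A ⊔ X ≤ M := sup_le hA.le (hXU.trans h.compl.1)
      obtain ⟨P, hP⟩ := (hsup.comap_subtype (K := M)).exists_le_sylow
      have hP' : A ⊔ X ≤ (P : Subgroup M).map M.subtype := fun a ha =>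
        ⟨⟨a, hle ha⟩, hP (show (⟨a, hle ha⟩ : M) ∈ (A ⊔ X).comap M.subtype from ha), rfl⟩
      haveI := OddTau.Abelian.sylow_comm hA P (le_sup_left.trans hP')
      exact (le_sup_right.trans hP').trans ((Subgroup.le_centralizer_iff_isMulCommutative.2
        inferInstance).trans (Subgroup.centralizer_le (SetLike.coe_subset_coe.2
          (le_sup_left.trans hP'))))
    · exact fun a ha =>
        OddTau.TauTwoAbelian.mem_centralizer_of_tau2 hA hE hAE hne (hXE ha) (hXτ a ha)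
  refine ⟨?_, fun L hL hCL => OddTau.Unique.eq_of_meet hA hL
    ((Subgroup.le_centralizer_iff.1 hXA).trans hCL)
    (ne_bot_of_le_ne_bot hXc (inf_le_inf_left _ hCL))⟩
  obtain ⟨E', hE'⟩ := MaximalBasics.exists_compl hG hM
  refine le_trans (Subgroup.centralizer_le (Set.singleton_subset_iff.2 hx₀)) ?_
  exact ((Cfsg.Agent.S1420.result hG M hM E' hE').2.2.2 x₀ (h.compl.1 (hXU hx₀)) hx₀1 (hXτ x₀ hx₀)
    ⟨h.compl.1 (hXU hx₀), z, hz.1, hz1, Subgroup.mem_centralizer_iff.1 hz.2 x₀ hx₀⟩).1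

theorem dvd_card_sup (h : Cfsg.IsSigmaDecomposition M K U) :
    Nat.card ↥(U ⊔ Cfsg.sigmaCore M) ∣ Nat.card U * Nat.card (Cfsg.sigmaCore M) := by
  rw [Coprime.card_sup_of_disjoint (h.compl.1.trans (le_normalizer_sigmaCore M)) (disjoint_iff.2
    (le_bot_iff.1 ((inf_le_inf_left _ le_sup_right).trans h.compl.2.2.1.le)))]

/-- The part of `a ∈ A(M) ∖ M_σ` outside `σ(M)`: a power of `a` with a unique maximal subgroup over
its centralizer. -/
theorem exists_power (hG : Cfsg.IsMinSimpleOddOrder G) (hM : IsCoatom M)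
    (h : Cfsg.IsSigmaDecomposition M K U) {a : G} (ha : a ∈ Cfsg.sigmaA M U)
    (haσ : a ∉ Cfsg.sigmaCore M) :
    ∃ k : ℕ, (orderOf (a ^ k)).Prime ∧ orderOf (a ^ k) ∉ Cfsg.sigma M ∧
      Subgroup.centralizer ({a ^ k} : Set G) ≤ M ∧
      ∀ L : Subgroup G, IsCoatom L →
        Subgroup.centralizer ({a ^ k} : Set G) ≤ L → L = M := by
  obtain ⟨⟨haM, z, hz, hz1, hc⟩, haU⟩ := ha
  obtain ⟨s, hs, hsd, hsσ⟩ : ∃ s : ℕ, s.Prime ∧ s ∣ orderOf a ∧ s ∉ Cfsg.sigma M := by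
    by_contra hcon
    push Not at hcon
    exact haσ (SigmaSubgroup.le_sigmaCore hG hM (Subgroup.zpowers_le.2 haM)
      (fun s hs hsd => hcon s hs (by rwa [Nat.card_zpowers] at hsd)) (Subgroup.mem_zpowers a))
  haveI := Fact.mk hs
  set b := a ^ (orderOf a / s) with hb
  have hbo : orderOf b = s := OddTau.Regular.exists_pow_prime_order hsd
  have hb1 : b ≠ 1 := fun e => hs.ne_one (by rw [← hbo, e, orderOf_one])
  have hbc : b * z = z * b := ((show Commute a z from hc).pow_left _).eq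
  have hsU : s ∣ Nat.card U := by
    have h1 : s ∣ Nat.card ↥(U ⊔ Cfsg.sigmaCore M) := hsd.trans (Subgroup.orderOf_dvd_natCard _ haU)
    exact (hs.dvd_mul.1 (h1.trans (dvd_card_sup h))).resolve_right
      fun h' => hsσ (mem_sigma_of_dvd hs h')
  have hτ : s ∈ Cfsg.tau2 M :=
    (ElementDichotomy.mem_kappa_or_tau2 hG hM hz hz1 haM hc hs hsd hsσ).resolve_left
      (Decomposition.prime_U hG hM h hs hsU).1
  obtain ⟨E, hE⟩ := MaximalBasics.exists_compl hG hM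
  have hC := (Cfsg.Agent.S1420.result hG M hM E hE).2.2.2 b (pow_mem haM _) hb1
    (fun r hr hrd => by rw [hbo] at hrd; exact (Nat.prime_dvd_prime_iff_eq hr hs).1 hrd ▸ hτ)
    ⟨pow_mem haM _, z, hz, hz1, hbc⟩
  exact ⟨orderOf a / s, hbo.symm ▸ hs, hbo.symm ▸ hsσ, hC.1, hC.2⟩

/-- S1362. -/
theorem sigmaA_TI (hG : Cfsg.IsMinSimpleOddOrder G) (hM : IsCoatom M)
    (h : Cfsg.IsSigmaDecomposition M K U) :
    Cfsg.IsTISubset (Cfsg.sigmaA M U \ (Cfsg.sigmaCore M : Set G)) := by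
  intro g hg x hx hgx
  exfalso
  refine hg ?_
  have hgM : g ∈ M := by
    obtain ⟨k, hpr, hσ, -, huniq⟩ := exists_power hG hM h hgx.1 hgx.2
    set b := x ^ k with hb
    have hgb : (g * x * g⁻¹) ^ k = g * b * g⁻¹ := by
      rw [conj_pow]
    rw [hgb] at hpr hσ huniq
    -- `C(b) ≤ M` as well
    obtain ⟨hxM, z, hz, hz1, hc⟩ := hx.1.1
    have hbM : b ∈ M := pow_mem hxM _
    have hbo : orderOf (g * b * g⁻¹) = orderOf b :=
      orderOf_injective (MulAut.conj g).toMonoidHom (MulAut.conj g).injective b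
    rw [hbo] at hpr hσ
    have hb1 : b ≠ 1 := fun e => hpr.ne_one (by rw [e, orderOf_one])
    have hbd : orderOf b ∣ orderOf x := orderOf_pow_dvd _
    have hκ : orderOf b ∉ Cfsg.kappa M := by
      have h1 : orderOf b ∣ Nat.card ↥(U ⊔ Cfsg.sigmaCore M) :=
        hbd.trans (Subgroup.orderOf_dvd_natCard _ hx.1.2)
      exact (Decomposition.prime_U hG hM h hpr ((hpr.dvd_mul.1 (h1.trans
        (dvd_card_sup h))).resolve_right fun h' => hσ (mem_sigma_of_dvd hpr h'))).1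
    obtain ⟨E, hE⟩ := MaximalBasics.exists_compl hG hM
    have hCb := ((Cfsg.Agent.S1420.result hG M hM E hE).2.2.2 b hbM hb1
      (fun r hr hrd => (Nat.prime_dvd_prime_iff_eq hr hpr).1 hrd ▸
        (ElementDichotomy.mem_kappa_or_tau2 hG hM hz hz1 hxM hc hpr hbd hσ).resolve_left hκ)
      ⟨hbM, z, hz, hz1, ((show Commute x z from hc).pow_left _).eq⟩).1
    refine SupportRows.mem_of_map_eq hG hM
      (huniq _ (PF8.Conj.im_isCoatom (MulAut.conj g) hM) ?_)
    intro c hc'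
    refine ⟨g⁻¹ * c * g, hCb (Subgroup.mem_centralizer_singleton_iff.2 ?_), by simp [mul_assoc]⟩
    have hc'' : c * (g * b * g⁻¹) = g * b * g⁻¹ * c := Subgroup.mem_centralizer_singleton_iff.1 hc'
    calc g⁻¹ * c * g * b = g⁻¹ * (c * (g * b * g⁻¹)) * g := by group
      _ = g⁻¹ * (g * b * g⁻¹ * c) * g := by rw [hc'']
      _ = b * (g⁻¹ * c * g) := by group
  have key : ∀ m ∈ M, ∀ a ∈ Cfsg.sigmaA M U \ (Cfsg.sigmaCore M : Set G),
      m * a * m⁻¹ ∈ Cfsg.sigmaA M U \ (Cfsg.sigmaCore M : Set G) := by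
    rintro m hm a ⟨⟨⟨haM, z, hz, hz1, hc⟩, haU⟩, haσ⟩
    refine ⟨⟨⟨mul_mem (mul_mem hm haM) (inv_mem hm), m * z * m⁻¹,
      (Subgroup.mem_normalizer_iff.1 (le_normalizer_sigmaCore M hm) z).1 hz,
      by rwa [Ne, conj_eq_one_iff], ?_⟩,
      (Subgroup.mem_normalizer_iff.1 (Decomposition.le_normalizer_sup h hm) a).1 haU⟩,
      fun h' => haσ ((Subgroup.mem_normalizer_iff.1 (le_normalizer_sigmaCore M hm) a).2 h')⟩
    calc m * a * m⁻¹ * (m * z * m⁻¹) = m * (a * z) * m⁻¹ := by group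
      _ = m * (z * a) * m⁻¹ := by rw [hc]
      _ = m * z * m⁻¹ * (m * a * m⁻¹) := by group
  refine Subgroup.mem_set_normalizer_iff.2 fun a => ⟨key g hgM a, fun ha => ?_⟩
  have := key g⁻¹ (inv_mem hgM) _ ha
  simpa [mul_assoc] using this

end Cfsg.Agent.Lib.OddOrder.BG14.TheoremB
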