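import Cfsg.Agent.Lib.OddOrder.BG14.Support
import Cfsg.Agent.Lib.OddOrder.Interface.BG14

/-!
# BG 14.4 in the form of S1374, S1375 and `Interface.BG14.SupportTauTwo`
-/

set_option autoImplicit false
set_option linter.style.haveILetI false
set_option linter.unusedSectionVars false

open scoped Pointwise

namespace Cfsg.Agent.Lib.OddOrder.BG14.SupportRows

open Cfsg.Agent.Lib.OddOrder Cfsg.Agent.Lib.OddOrder.MinSimple
  Cfsg.Agent.Lib.OddOrder.BG14.ElementDichotomy Cfsg.Agent.Lib.OddOrder.BG14.Support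

universe u

variable {G : Type u} [Group G] [Finite G]

theorem supportTauTwo (h2 : TypePFixed G) (hG : Cfsg.IsMinSimpleOddOrder G) :
    Interface.BG14.SupportTauTwo G := fun _ _ hM hN _ hx hx1 hxM hxN =>
  ⟨(spec_of h2 hG hM hx hx1 hxM hN hxN).tau2, (spec_of h2 hG hM hx hx1 hxM hN hxN).notMem⟩

/-- The order of `C_{N_σ}(x)` is prime to that of `C_M(x)`. -/
theorem coprime_of_spec (hG : Cfsg.IsMinSimpleOddOrder G) {M N : Subgroup G} {x : G}
    (h : Spec M N x) {Y : Subgroup G} (hY : Y ≤ M ⊓ N) :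
    (Nat.card Y).Coprime (Nat.card (Cfsg.sigmaCore N)) :=
  Nat.coprime_of_dvd fun p hp h1 h2 => by
    haveI := Fact.mk hp
    obtain ⟨y, hy⟩ := exists_prime_orderOf_dvd_card' (G := Y) p h1
    rw [← Subgroup.orderOf_coe] at hy
    have hyN : (y : G) ∈ Cfsg.sigmaCore N := SigmaSubgroup.le_sigmaCore hG h.max
      (Subgroup.zpowers_le.2 (hY y.2).2) (fun q hq hd => by
        rw [Nat.card_zpowers, hy] at hd
        exact (Nat.prime_dvd_prime_iff_eq hq hp).1 hd ▸ OddTau.Basic.mem_sigma_of_dvd hp h2)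
      (Subgroup.mem_zpowers _)
    have h1' : (y : G) = 1 := Subgroup.mem_bot.1 (h.compl.2.2.1 ▸ ⟨hY y.2, hyN⟩)
    exact hp.ne_one (by rw [← hy, h1', orderOf_one])

/-- `M` meets `C_{N_σ}(x)` trivially and is its own normalizer. -/
theorem mem_of_map_eq (hG : Cfsg.IsMinSimpleOddOrder G) {M : Subgroup G} (hM : IsCoatom M) {g : G}
    (h : M.map (MulAut.conj g).toMonoidHom = M) : g ∈ M :=
  (normalizer_eq_of_coatom hG hM le_rfl (coatom_ne_bot hG hM) Subgroup.le_normalizer).le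
    (Subgroup.mem_normalizer_iff_map_conj_eq.2 h)

/-- S1374 from 14.2. -/
theorem centralizer_complement (h2 : TypePFixed G) (hG : Cfsg.IsMinSimpleOddOrder G)
    {M : Subgroup G} (hM : IsCoatom M) {x : G} (hx : x ∈ Cfsg.sigmaCore M) (hx1 : x ≠ 1) :
    (Nat.card ↥(M ⊓ Subgroup.centralizer ({x} : Set G))).Coprime ((M ⊓ Subgroup.centralizer ({x} : Set G)).relIndex (Subgroup.centralizer ({x} : Set G))) ∧
      ∃ R : Subgroup G, Subgroup.centralizer ({x} : Set G) ≤ Subgroup.normalizer (R : Set G) ∧ Cfsg.IsComplIn (M ⊓ Subgroup.centralizer ({x} : Set G)) R (Subgroup.centralizer ({x} : Set G)) ∧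
        ∀ g : G, x ∈ M.map (MulAut.conj g).toMonoidHom → ∃! r : G, r ∈ R ∧ M.map (MulAut.conj r).toMonoidHom = M.map (MulAut.conj g).toMonoidHom := by
  have key : ∀ R : Subgroup G,
      Cfsg.IsComplIn (M ⊓ Subgroup.centralizer ({x} : Set G)) R
        (Subgroup.centralizer ({x} : Set G)) →
      ∀ g : G, x ∈ M.map (MulAut.conj g).toMonoidHom → ∃! r : G,
        r ∈ R ∧ M.map (MulAut.conj r).toMonoidHom = M.map (MulAut.conj g).toMonoidHom := by
    intro R hR g hg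
    obtain ⟨c, hc, hcg⟩ := exists_centralizer_conj hG hM hx hx1 hg
    obtain ⟨r, hr, e, he, hce⟩ := (Basic.isComplIn_symm hR).2.2.2 c hc
    refine ⟨r, ⟨hr, ?_⟩, fun r' hr' => ?_⟩
    · rw [← hcg, hce, TauTwoSigma.map_conj_mul, TauTwoSigma.map_conj_self he.1]
    · have h1 : M.map (MulAut.conj (r⁻¹ * r')).toMonoidHom = M := by
        rw [TauTwoSigma.map_conj_mul, hr'.2, ← hcg, hce, TauTwoSigma.map_conj_mul,
          TauTwoSigma.map_conj_self he.1, TauTwoSigma.map_conj_inv_map]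
      have h3 : r⁻¹ * r' = 1 := Subgroup.mem_bot.1 (hR.2.2.1 ▸
        ⟨⟨mem_of_map_eq hG hM h1, hR.2.1 (R.mul_mem (R.inv_mem hr) hr'.1)⟩,
          R.mul_mem (R.inv_mem hr) hr'.1⟩)
      exact (inv_mul_eq_one.1 h3).symm
  by_cases hxM : Subgroup.centralizer ({x} : Set G) ≤ M
  · have hC : Cfsg.IsComplIn (M ⊓ Subgroup.centralizer ({x} : Set G)) ⊥
        (Subgroup.centralizer ({x} : Set G)) :=
      ⟨inf_le_right, bot_le, inf_bot_eq _, fun m hm => ⟨m, ⟨hxM hm, hm⟩, 1, one_mem _, (mul_one m).symm⟩⟩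
    refine ⟨?_, ⊥, ?_, hC, key ⊥ hC⟩
    · rw [inf_eq_right.2 hxM, Subgroup.relIndex_self]; exact Nat.coprime_one_right _
    · intro c _
      rw [Subgroup.mem_normalizer_iff]
      intro y
      simp
  obtain ⟨N, h⟩ := exists_spec h2 hG hM hx hx1 hxM
  refine ⟨?_, _, h.le_normalizer, h.complC, key _ h.complC⟩
  rw [Basic.isComplIn_relIndex h.complC]
  exact (coprime_of_spec hG h (le_inf inf_le_left (inf_le_right.trans h.le))).coprime_dvd_right
    (Subgroup.card_dvd_of_le inf_le_left)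

/-- S1375 from 14.2. -/
theorem centralizer_not_le (h2 : TypePFixed G) (hG : Cfsg.IsMinSimpleOddOrder G)
    {M : Subgroup G} (hM : IsCoatom M) {x : G} (hx : x ∈ Cfsg.sigmaCore M) (hx1 : x ≠ 1)
    (hxM : ¬ Subgroup.centralizer ({x} : Set G) ≤ M) :
    ∃ N : Subgroup G, (IsCoatom N ∧ Subgroup.centralizer ({x} : Set G) ≤ N) ∧ (∀ L : Subgroup G, IsCoatom L → Subgroup.centralizer ({x} : Set G) ≤ L → L = N) ∧
        Cfsg.sigmaCore N = Cfsg.fittingHallOf N ∧
        Subgroup.centralizer ({x} : Set G) ≤ Subgroup.normalizer ((Cfsg.sigmaCore N ⊓ Subgroup.centralizer ({x} : Set G) : Subgroup G) : Set G) ∧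
        Cfsg.IsComplIn (M ⊓ Subgroup.centralizer ({x} : Set G)) (Cfsg.sigmaCore N ⊓ Subgroup.centralizer ({x} : Set G)) (Subgroup.centralizer ({x} : Set G)) ∧
        Cfsg.IsComplIn (M ⊓ N) (Cfsg.sigmaCore N) N ∧
        ∀ K' U' : Subgroup G, Cfsg.IsSigmaDecomposition N K' U' → U' ≠ ⊥ ∧ x ∈ Cfsg.sigmaA N U' ∧ x ∉ Cfsg.sigmaCore N := by
  obtain ⟨N, h⟩ := exists_spec h2 hG hM hx hx1 hxM
  refine ⟨N, ⟨h.max, h.le⟩, h.uniq, h.core_eq, h.le_normalizer, h.complC, h.compl, fun K U hd => ?_⟩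
  have hxN : x ∈ N := h.le (Subgroup.mem_centralizer_singleton_iff.2 rfl)
  have hp : ∀ p : ℕ, p.Prime → p ∣ orderOf x → ¬ p ∣ Nat.card K ∧ p ∉ Cfsg.sigma N :=
    fun p hp hd' => ⟨fun hK => NonKappa.not_tau2_of_kappa (hd.hall.2.1 p hp hK) (h.tau2 p hp hd'),
      (h.tau2 p hp hd').2.1⟩
  set V := U ⊔ Cfsg.sigmaCore N with hV
  have hVN : V ≤ N := sup_le hd.compl.1 (OddTau.Basic.sigmaCore_le N)
  have hxV : x ∈ V := by
    haveI hVn : (V.subgroupOf N).Normal := (Subgroup.normal_subgroupOf_iff_le_normalizer hVN).2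
      (OddFitting.Decomp.le_normalizer_U_sup hd)
    have hcard : Nat.card V = Nat.card U * Nat.card (Cfsg.sigmaCore N) :=
      Coprime.card_sup_of_disjoint (hd.compl.1.trans (OddTau.Basic.le_normalizer_sigmaCore N))
        (disjoint_iff.2 (le_bot_iff.1 ((inf_le_inf_left _ le_sup_right).trans hd.compl.2.2.1.le)))
    have hVK : V.relIndex N = Nat.card K := by
      have h1 := OddFitting.Decomp.card_mul_relIndex hVN
      rw [hcard, ← OddFitting.Decomp.card_eq hd] at h1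
      exact Nat.eq_of_mul_eq_mul_left (Nat.mul_pos Nat.card_pos Nat.card_pos)
        (h1.trans (by ring : _ = Nat.card U * Nat.card (Cfsg.sigmaCore N) * Nat.card K))
    have h2' : (QuotientGroup.mk' (V.subgroupOf N)) ⟨x, hxN⟩ = 1 := by
      refine orderOf_eq_one_iff.1 (Nat.eq_one_of_dvd_coprimes (a := orderOf x) (b := Nat.card K) ?_ ?_ ?_)
      · exact Nat.coprime_of_dvd fun p hp' h1 h2 => (hp p hp' h1).1 h2
      · exact (orderOf_map_dvd _ _).trans (by rw [Subgroup.orderOf_mk])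
      · rw [← hVK]; exact orderOf_dvd_natCard _
    exact Subgroup.mem_subgroupOf.1 ((QuotientGroup.eq_one_iff (⟨x, hxN⟩ : N)).1 h2')
  refine ⟨fun hU => h.notMem ?_, ⟨⟨hxN, ?_⟩, hxV⟩, h.notMem⟩
  · rw [hV, hU, bot_sup_eq] at hxV; exact hxV
  · obtain ⟨z, hz, hz1⟩ := (Subgroup.bot_or_exists_ne_one _).resolve_left h.fixed
    exact ⟨z, hz.1, hz1, (Subgroup.mem_centralizer_singleton_iff.1 hz.2).symm⟩

end Cfsg.Agent.Lib.OddOrder.BG14.SupportRows
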