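import Cfsg.Agent.Lib.OddTau.TauTwoAbelian
import Cfsg.Agent.Lib.OddTau.Regular
import Cfsg.Agent.Lib.OddOrder.MaximalBasics

/-!
# BG 14.1: primes of `M` outside `σ(M) ∪ κ(M)`
-/

set_option autoImplicit false
set_option linter.style.haveILetI false
set_option linter.unusedSectionVars false

namespace Cfsg.Agent.Lib.OddOrder.BG14.NonKappa

open Cfsg.Agent.Lib.OddOrder Cfsg.Agent.Lib.OddOrder.MinSimple

universe u

variable {G : Type u} [Group G] [Finite G] {M : Subgroup G} {p : ℕ}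

theorem dvd_compl {E : Subgroup G} (hE : Cfsg.IsComplIn E (Cfsg.sigmaCore M) M) (hp : p.Prime)
    (hpM : p ∣ Nat.card M) (hσ : p ∉ Cfsg.sigma M) : p ∣ Nat.card E :=
  (hp.dvd_mul.1 (Basic.isComplIn_card hE ▸ hpM)).resolve_right
    fun h => hσ (OddTau.Basic.mem_sigma_of_dvd hp h)

/-- A prime of `M` outside `σ(M)` is in `τ₁`, `τ₃` or `τ₂`. -/
theorem mem_tau_cases (hG : Cfsg.IsMinSimpleOddOrder G) (hM : IsCoatom M) (hp : p.Prime)
    (hpM : p ∣ Nat.card M) (hσ : p ∉ Cfsg.sigma M) :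
    p ∈ Cfsg.tau1 M ∪ Cfsg.tau3 M ∨ p ∈ Cfsg.tau2 M := by
  obtain ⟨E, hE⟩ := MaximalBasics.exists_compl hG hM
  exact OddTau.Regular.mem_tau_of_dvd hG hM hE hp (dvd_compl hE hp hpM hσ)

theorem not_sigma_of_tau13 (h : p ∈ Cfsg.tau1 M ∪ Cfsg.tau3 M) : p ∉ Cfsg.sigma M := by
  rcases h with h | h <;> exact h.2.1

theorem prankLE_one_of_tau13 (h : p ∈ Cfsg.tau1 M ∪ Cfsg.tau3 M) : Cfsg.PRankLE p 1 M := by
  rcases h with h | h
  · exact h.2.2.2.2
  · exact h.2.2.2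

theorem dvd_of_tau13 (h : p ∈ Cfsg.tau1 M ∪ Cfsg.tau3 M) : p ∣ Nat.card M := by
  rcases h with h | h
  · exact h.2.2.1
  · exact h.2.2.1.trans (Subgroup.card_dvd_of_le (MaximalBasics.derived_le_self M))

theorem not_tau2_of_kappa (hκ : p ∈ Cfsg.kappa M) : p ∉ Cfsg.tau2 M := by
  intro hτ
  haveI := Fact.mk hκ.1
  obtain ⟨A, hAM, hA, hAc⟩ := RankTwoPrime.exists_elemAb_sq hτ.2.2.1 hτ.2.2.2
  obtain ⟨P, hP⟩ := ((IsPGroup.of_card (n := 2) hAc).comap_subtype (K := M)).exists_le_sylow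
  haveI := (hκ.2.2.2 P).1
  haveI : IsCyclic ((P : Subgroup M).map M.subtype) :=
    isCyclic_of_surjective ((P : Subgroup M).equivMapOfInjective _ M.subtype_injective).toMonoidHom
      (MulEquiv.surjective _)
  refine Rank.elemAb_not_isCyclic hA (by
    rw [hAc]; exact lt_self_pow₀ hκ.1.one_lt (by norm_num)) ?_
  exact Subgroup.isCyclic_of_le (show A ≤ (P : Subgroup M).map M.subtype from fun x hx =>
    ⟨⟨x, hAM hx⟩, hP (show (⟨x, hAM hx⟩ : M) ∈ A.comap M.subtype from hx), rfl⟩)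

theorem tau13_of_kappa (hG : Cfsg.IsMinSimpleOddOrder G) (hM : IsCoatom M)
    (hκ : p ∈ Cfsg.kappa M) : p ∈ Cfsg.tau1 M ∪ Cfsg.tau3 M :=
  (mem_tau_cases hG hM hκ.1 hκ.2.1 hκ.2.2.1).resolve_right (not_tau2_of_kappa hκ)

/-- An element of order `p ∈ τ₁(M) ∪ τ₃(M)` with a fixed point on `M_σ` puts `p` into `κ(M)`. -/
theorem mem_kappa_of_fixed (hG : Cfsg.IsMinSimpleOddOrder G) (hτ : p ∈ Cfsg.tau1 M ∪ Cfsg.tau3 M)
    {x : G} (hxM : x ∈ M) (hxo : orderOf x = p) {z : G} (hz : z ∈ Cfsg.sigmaCore M) (hz1 : z ≠ 1)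
    (hxz : x * z = z * x) : p ∈ Cfsg.kappa M := by
  have hp : p.Prime := by rcases hτ with h | h <;> exact h.1
  haveI := Fact.mk hp
  refine ⟨hp, dvd_of_tau13 hτ, not_sigma_of_tau13 hτ, fun P => ⟨?_, ?_⟩⟩
  · haveI := SigmaCompl.isCyclic_of_prankLE_one hG
      (Subgroup.map_subtype_le (P : Subgroup M)) (prankLE_one_of_tau13 hτ) (P.2.map M.subtype)
    exact isCyclic_of_surjective
      ((P : Subgroup M).equivMapOfInjective _ M.subtype_injective).symm.toMonoidHom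
      (MulEquiv.surjective _)
  have hx : orderOf (⟨x, hxM⟩ : M) = p := by rw [Subgroup.orderOf_mk, hxo]
  obtain ⟨Q, hQ⟩ := (IsPGroup.of_card (p := p) (n := 1) (G := Subgroup.zpowers (⟨x, hxM⟩ : M))
    (by rw [Nat.card_zpowers, hx, pow_one])).exists_le_sylow
  obtain ⟨m, hm⟩ := MulAction.exists_smul_eq M Q P
  refine ⟨m * ⟨x, hxM⟩ * m⁻¹, ?_, fun e => ?_, (m : G) * z * (m : G)⁻¹, ?_, ?_, ?_⟩
  · rw [← hm, Sylow.coe_subgroup_smul]
    exact ⟨⟨x, hxM⟩, hQ (Subgroup.mem_zpowers _), rfl⟩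
  · rw [conj_eq_one_iff] at e
    exact hp.ne_one (by rw [← hx, e, orderOf_one])
  · exact (Subgroup.mem_normalizer_iff.1 (OddTau.Basic.le_normalizer_sigmaCore M m.2) z).1 hz
  · rwa [Ne, conj_eq_one_iff]
  · simp only [Subgroup.coe_mul, Subgroup.coe_inv]
    rw [show (m : G) * x * (m : G)⁻¹ * ((m : G) * z * (m : G)⁻¹) = m * (x * z) * (m : G)⁻¹ by group,
      hxz]
    group

/-- BG 13.10, trivial direction: primes of `τ₁(M) ∪ τ₃(M)` outside `κ(M)` act regularly. -/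
theorem regular_of_not_kappa (hG : Cfsg.IsMinSimpleOddOrder G)
    (hτ : p ∈ Cfsg.tau1 M ∪ Cfsg.tau3 M) (hκ : p ∉ Cfsg.kappa M) {x : G} (hxM : x ∈ M)
    (hxo : orderOf x = p) : Cfsg.sigmaCore M ⊓ Subgroup.centralizer ({x} : Set G) = ⊥ := by
  rw [Subgroup.eq_bot_iff_forall]
  intro z hz
  by_contra hz1
  exact hκ (mem_kappa_of_fixed hG hτ hxM hxo hz.1 hz1
    (Subgroup.mem_centralizer_singleton_iff.1 hz.2).symm)

/-- BG 14.1. -/
theorem small_sylow_omega (hG : Cfsg.IsMinSimpleOddOrder G) (hM : IsCoatom M) [Fact p.Prime]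
    (hpM : p ∣ Nat.card M) (hp : p ∉ Cfsg.sigma M ∪ Cfsg.kappa M) (S : Sylow p M) :
    Nat.card ↥(Subgroup.closure {x : G | x ∈ (S : Subgroup M).map M.subtype ∧ x ^ p = 1}) ≤ p ^ 2 ∧
      Cfsg.sigmaCore M ⊓ Subgroup.centralizer ((Subgroup.closure {x : G | x ∈ (S : Subgroup M).map M.subtype ∧ x ^ p = 1} : Subgroup G) : Set G) = ⊥ ∧
      Group.IsNilpotent (Cfsg.sigmaCore M) := by
  rw [Set.mem_union, not_or] at hp
  set S₁ := (S : Subgroup M).map M.subtype with hS₁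
  set Ω := Subgroup.closure {x : G | x ∈ S₁ ∧ x ^ p = 1} with hΩ
  have hΩS : Ω ≤ S₁ := (Subgroup.closure_le _).2 fun x hx => hx.1
  rcases mem_tau_cases hG hM Fact.out hpM hp.1 with hτ | hτ
  · haveI : IsCyclic S₁ := SigmaCompl.isCyclic_of_prankLE_one hG (Subgroup.map_subtype_le _)
      (prankLE_one_of_tau13 hτ) (S.2.map M.subtype)
    haveI : Nontrivial S₁ := (Subgroup.nontrivial_iff_ne_bot _).2 (by
      rw [hS₁, Ne, Subgroup.map_eq_bot_iff_of_injective _ M.subtype_injective]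
      exact S.ne_bot_of_dvd_card hpM)
    obtain ⟨n, hn, hnc⟩ := (S.2.map M.subtype).nontrivial_iff_card.1 inferInstance
    obtain ⟨x, hx⟩ := exists_prime_orderOf_dvd_card' (G := S₁) p
      ((dvd_pow_self p hn.ne').trans hnc.symm.dvd)
    rw [← Subgroup.orderOf_coe] at hx
    have hreg := regular_of_not_kappa hG hτ hp.2 (Subgroup.map_subtype_le _ x.2) hx
    have hle : Ω ≤ Subgroup.zpowers (x : G) := by
      refine (Subgroup.closure_le _).2 fun y hy => ?_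
      by_cases hy1 : y = 1
      · subst hy1; exact one_mem _
      have hyo : orderOf y = p := orderOf_eq_prime hy.2 hy1
      exact Cyclic.eq_of_card_eq_of_isCyclic (W := S₁) (Subgroup.zpowers_le.2 hy.1)
        (Subgroup.zpowers_le.2 x.2) (by rw [Nat.card_zpowers, Nat.card_zpowers, hyo, hx])
        ▸ Subgroup.mem_zpowers y
    refine ⟨(Subgroup.card_le_of_le hle).trans ?_, ?_, ?_⟩
    · rw [Nat.card_zpowers, hx]
      exact Nat.le_self_pow two_ne_zero p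
    · refine le_bot_iff.1 ((inf_le_inf_left _ (Subgroup.centralizer_le ?_)).trans hreg.le)
      exact Set.singleton_subset_iff.2 (Subgroup.subset_closure
        ⟨x.2, hx ▸ pow_orderOf_eq_one (x : G)⟩)
    · exact OddTau.Basic.isNilpotent_of_fpf (OddTau.Basic.isSolvable_sigmaCore hG hM)
        (OddTau.Basic.le_normalizer_sigmaCore M (Subgroup.map_subtype_le _ x.2))
        (hx ▸ pow_orderOf_eq_one (x : G)) hreg
  · obtain ⟨E, hE⟩ := MaximalBasics.exists_compl hG hM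
    obtain ⟨A₀, -, h₀⟩ := OddTau.TauTwoAbelian.exists_ctx hG hM hE hτ
    obtain ⟨P, hAP⟩ := OddTau.Exceptional.exists_sylow_p h₀
    obtain ⟨m, rfl⟩ := MulAction.exists_smul_eq M P S
    have hle : A₀.map (MulAut.conj (m : G)).toMonoidHom ≤ S₁ := by
      rintro _ ⟨a, ha, rfl⟩
      obtain ⟨a', ha', rfl⟩ := hAP ha
      refine ⟨m * a' * m⁻¹, ?_, by simp⟩
      rw [Sylow.coe_subgroup_smul]
      exact ⟨a', ha', rfl⟩
    have h : OddTau.Basic.Ctx M p (A₀.map (MulAut.conj (m : G)).toMonoidHom) :=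
      OddTau.Exceptional.ctx_conj h₀ (hle.trans (Subgroup.map_subtype_le _))
    set A := A₀.map (MulAut.conj (m : G)).toMonoidHom
    have hiff := OddTau.Sylow.pow_eq_one_iff h (m • P) hle
    have hΩA : Ω = A := le_antisymm ((Subgroup.closure_le _).2 fun y hy => (hiff y hy.1).1 hy.2)
      fun a ha => Subgroup.subset_closure ⟨hle ha, h.elem.2 a ha⟩
    rw [hΩA]
    exact ⟨h.card.le, OddTau.Context.centralizer_inf_eq_bot h,
      OddTau.Exceptional.isNilpotent_sigmaCore h⟩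

end Cfsg.Agent.Lib.OddOrder.BG14.NonKappa
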