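import Cfsg.Agent.Lib.OddOrder.BG14.KappaHyp
import Cfsg.Agent.Lib.OddOrder.BG14.Decomposition
import Cfsg.Agent.Lib.OddOrder.BG14.TypePFixedProof
import Cfsg.Agent.Lib.OddOrder.BG14.SigmaBeta
import Cfsg.Agent.Lib.OddOrder.Partner.Main
import Cfsg.Agent.S1430
import Cfsg.Agent.S1431
import Cfsg.Agent.S1433
import Cfsg.Agent.S1377

/-!
# The rows of `KappaHyp`, from BG 14.7
-/

set_option autoImplicit false
set_option linter.style.haveILetI false
set_option linter.unusedVariables false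

namespace Cfsg.Agent.Lib.OddOrder.BG14.KappaRows

open Cfsg.Agent.Lib.OddOrder

universe u

variable {G : Type u} [Group G] [Finite G]

/-- The hypotheses of BG 14.7 hold. -/
theorem hyp (hG : Cfsg.IsMinSimpleOddOrder G) : Partner.Hyp G :=
  ⟨hG, Cfsg.Agent.S1430.result hG, Cfsg.Agent.S1431.result hG,
    fun M N hM hN x y hx hy hx1 hy1 hxy =>
      Cfsg.Agent.S1433.result hG M N hM hN x y hx hy hx1 hy1 hxy,
    fun M hM => Cfsg.Agent.S1377.result hG M hM, SigmaBeta.typeP2SigmaBeta hG⟩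

/-- All the rows of `KappaHyp` but the last, given the last. -/
theorem rows (hG : Cfsg.IsMinSimpleOddOrder G) (hS : KappaHyp.SylowNormalizer G) :
    KappaHyp.Rows G where
  fixed := TypePFixedProof.typePFixed hG
  cyclic M hM := ⟨(hyp hG).exists_hall_kappa hM, fun K hK => Partner.isCyclic_hall (hyp hG) hM hK⟩
  decomp M hM K hKc hK := ⟨Decomposition.exists_decomposition hG hM hKc hK,
    fun U hU => Decomposition.le_normalizer_sup hU⟩
  free M hM K U hKU k hk hk1 := Decomposition.regular_U hG hM hKU hk hk1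
  partner M hM K U hKU hK1 := by
    obtain ⟨N, hP, -⟩ := Partner.exists_partner (hyp hG) (Partner.Pair.of hM hKU.hall hK1)
    exact ⟨N, ⟨hP.max, hP.eq, hP.hall⟩, fun N' hN' =>
      hP.unique (hyp hG) (Partner.Pair.of hM hKU.hall hK1) ⟨hN'.1, hN'.2.1, hN'.2.2⟩⟩
  primeCent M hM K U hKU hK1 N hN hKst hKstH := by
    have h := hyp hG
    have P := Partner.Pair.of hM hKU.hall hK1
    have hP : Partner.IsPartner M K N := ⟨hN, hKst, hKstH⟩
    refine ⟨fun X hX hXp => Partner.centralizer_unique h P hX hXp, fun Y hY hYp => ?_⟩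
    exact Partner.centralizer_unique h (hP.pair h P) (hY.trans hP.eq.le) hYp
  inter M hM K U hKU hK1 N hN hKst hKstH :=
    ⟨Partner.IsPartner.inf_eq (hyp hG) (Partner.Pair.of hM hKU.hall hK1) ⟨hN, hKst, hKstH⟩,
      Partner.isCyclic_sup (hyp hG) (Partner.Pair.of hM hKU.hall hK1)⟩
  primeKappa M hM K U hKU hK1 hU1 :=
    Partner.card_prime_of_not_isP1 (hyp hG) (Partner.Pair.of hM hKU.hall hK1)
      fun h1 => hU1 ((Partner.isP1_iff (hyp hG) hM hKU).1 h1)
  starHall M hM K U hKU hK1 N hN hKst hKstH :=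
    Partner.IsPartner.hall_sigma (hyp hG) (Partner.Pair.of hM hKU.hall hK1) ⟨hN, hKst, hKstH⟩
  sylow := hS
  sigmaBeta := SigmaBeta.typeP2SigmaBeta hG

end Cfsg.Agent.Lib.OddOrder.BG14.KappaRows
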