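import Cfsg.Agent.Lib.OddLocal.FrobeniusAmbient

/-!
# A Frobenius group acting with the fixed points of a complement inside those of the kernel
-/

set_option autoImplicit false
set_option linter.style.haveILetI false
set_option linter.unusedSectionVars false

namespace Cfsg.Agent.Lib.OddOrder.BG14.FixedKernel

open Subgroup
open Cfsg.Agent.Lib.OddLocal.FrobeniusAction (fixed mem_fixed quot quot_mk restrict exists_lift)

universe u v

variable {B : Type u} [Group B] [Finite B] {K R : Subgroup B} [K.Normal]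

/-- The abelian case: the kernel of the averaging map of `K` carries no fixed point of `K`. -/
theorem trivial_of_abelian (hcompl : IsComplement' K R)
    (hfpf : ∀ r ∈ R, r ≠ 1 → ∀ k ∈ K, r * k = k * r → k = 1) {M : Type v} [CommGroup M] [Finite M]
    (θ : B →* MulAut M) (hcop : (Nat.card B).Coprime (Nat.card M))
    (hle : fixed θ R ≤ fixed θ K) : ∀ k ∈ K, ∀ v : M, θ k v = v := by
  classical
  haveI := Fintype.ofFinite K
  let ν : M →* M := MonoidHom.mk' (fun v => ∏ k : K, θ (k : B) v) fun a b => by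
    simp only [map_mul, Finset.prod_mul_distrib]
  have hν : ∀ v, ν v = ∏ k : K, θ (k : B) v := fun _ => rfl
  have hequiv : ∀ (b : B) (v : M), ν (θ b v) = θ b (ν v) := by
    intro b v
    rw [hν, hν, map_prod]
    refine Fintype.prod_equiv (MulAut.conjNormal b⁻¹ : MulAut K).toEquiv _ _ fun k => ?_
    show θ k (θ b v) = θ b (θ ((MulAut.conjNormal b⁻¹ k : K) : B) v)
    rw [MulAut.conjNormal_apply, ← MulAut.mul_apply, ← map_mul, ← MulAut.mul_apply, ← map_mul]
    congr 2
    group
  have hνk : ∀ k ∈ K, ∀ v, θ k (ν v) = ν v := by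
    intro k hk v
    rw [hν, map_prod]
    refine Fintype.prod_equiv (Equiv.mulLeft (⟨k, hk⟩ : K)) _ _ fun j => ?_
    show θ k (θ (j : B) v) = θ (((⟨k, hk⟩ : K) * j : K) : B) v
    rw [Subgroup.coe_mul, map_mul, MulAut.mul_apply]
  set W := ν.ker with hW
  have hWinv : ∀ b, ∀ w ∈ W, θ b w ∈ W := fun b w hw => by
    rw [hW, MonoidHom.mem_ker] at hw ⊢
    rw [hequiv, hw, map_one]
  have hfixW : fixed (restrict θ W hWinv) K = ⊥ := by
    rw [eq_bot_iff]
    intro w hw
    have hw' : ∀ k : K, θ (k : B) (w : M) = w := fun k => congrArg Subtype.val (hw k k.2)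
    have h1 : (w : M) ^ Nat.card K = 1 := by
      have h0 : ν w = 1 := w.2
      rw [hν, Finset.prod_congr rfl (fun k _ => hw' k), Finset.prod_const, Finset.card_univ,
        ← Nat.card_eq_fintype_card] at h0
      exact h0
    have h2 : orderOf (w : M) = 1 := Nat.eq_one_of_dvd_coprimes
      (hcop.coprime_dvd_left K.card_subgroup_dvd_card) (orderOf_dvd_of_pow_eq_one h1)
      (orderOf_dvd_natCard _)
    exact mem_bot.2 (Subtype.ext (orderOf_eq_one_iff.1 h2))
  have hfixR : fixed (restrict θ W hWinv) R = ⊥ := by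
    rw [← le_bot_iff, ← hfixW]
    intro w hw k hk
    exact Subtype.ext ((hle (x := (w : M)) fun r hr => congrArg Subtype.val (hw r hr)) k hk)
  have hcard := Cfsg.Agent.Lib.OddLocal.FrobeniusAction.card_eq_pow hcompl hfpf _ W
    (restrict θ W hWinv) rfl (hcop.coprime_dvd_right W.card_subgroup_dvd_card) hfixW
  rw [hfixR, Subgroup.card_bot, one_pow, Subgroup.card_eq_one] at hcard
  intro k hk v
  have hmem : θ k v * v⁻¹ ∈ W := by
    rw [hW, MonoidHom.mem_ker, map_mul, hequiv, hνk k hk v, map_inv, mul_inv_cancel]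
  rwa [hcard, mem_bot, mul_inv_eq_one] at hmem

/-- **A Frobenius group `K R` acting coprimely on a nilpotent group, `C(R) ⊆ C(K)`: `K` acts
trivially.** -/
theorem trivial_of_fixed_le (hcompl : IsComplement' K R)
    (hfpf : ∀ r ∈ R, r ≠ 1 → ∀ k ∈ K, r * k = k * r → k = 1) :
    ∀ (n : ℕ) (M : Type v) [Group M] [Finite M] [Group.IsNilpotent M] (θ : B →* MulAut M),
      Nat.card M = n → (Nat.card B).Coprime (Nat.card M) → fixed θ R ≤ fixed θ K →
      ∀ k ∈ K, ∀ v : M, θ k v = v := by
  intro n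
  induction n using Nat.strong_induction_on with
  | _ n ih =>
  intro M _ _ _ θ hn hcop hle k hk v
  by_cases hM : Subsingleton M
  · exact Subsingleton.elim _ _
  haveI : Nontrivial M := not_subsingleton_iff_nontrivial.mp hM
  set Z := center M with hZ
  haveI hZc : IsMulCommutative Z := ⟨⟨fun a b => Subtype.ext (mem_center_iff.1 b.2 a)⟩⟩
  have hZinv : ∀ b, ∀ z ∈ Z, θ b z ∈ Z := fun b z hz =>
    characteristic_iff_le_comap.mp inferInstance (θ b) hz
  have hZ1 : 1 < Nat.card Z := by
    refine Finite.one_lt_card_iff_nontrivial.2 ((nontrivial_iff_ne_bot _).2 ?_)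
    exact Group.IsNilpotent.center_ne_bot M
  have hlt : Nat.card (M ⧸ Z) < n := by
    rw [← hn, card_eq_card_quotient_mul_card_subgroup Z]
    exact lt_mul_of_one_lt_right Nat.card_pos hZ1
  letI : CommGroup Z := { (inferInstance : Group Z) with mul_comm := hZc.is_comm.comm }
  have hres : ∀ c ∈ K, ∀ z ∈ Z, θ c z = z := fun c hc z hz => congrArg Subtype.val
    (trivial_of_abelian hcompl hfpf (restrict θ Z hZinv)
      (hcop.coprime_dvd_right Z.card_subgroup_dvd_card)
      (fun w hw c' hc' => Subtype.ext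
        ((hle (x := (w : M)) fun r hr => congrArg Subtype.val (hw r hr)) c' hc')) c hc ⟨z, hz⟩)
  have hquot := ih _ hlt (M ⧸ Z) (quot θ Z hZinv) rfl
    (hcop.coprime_dvd_right (card_quotient_dvd_card Z)) (fun x hx c hc => by
      obtain ⟨y, hy, rfl⟩ := exists_lift θ Z hZinv hcop R hx
      rw [quot_mk, hle hy c hc]) k hk (v : M ⧸ Z)
  rw [quot_mk, QuotientGroup.eq] at hquot
  set z := (θ k v)⁻¹ * v with hz
  have hkv : θ k v = v * z⁻¹ := by rw [hz]; group
  have hiter : ∀ m : ℕ, θ (k ^ m) v = v * z⁻¹ ^ m := by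
    intro m
    induction m with
    | zero => simp
    | succ m ihm =>
      rw [pow_succ', map_mul, MulAut.mul_apply, ihm, map_mul, map_pow, map_inv, hkv,
        hres k hk z hquot, mul_assoc, ← pow_succ']
  have h1 : z⁻¹ ^ orderOf k = 1 := by
    have h := hiter (orderOf k)
    rw [pow_orderOf_eq_one, map_one, MulAut.one_apply] at h
    exact mul_eq_left.1 h.symm
  have h2 : z⁻¹ = 1 := orderOf_eq_one_iff.1 (Nat.eq_one_of_dvd_coprimes hcop
    ((orderOf_dvd_of_pow_eq_one h1).trans (orderOf_dvd_natCard k)) (orderOf_dvd_natCard _))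
  rw [hkv, h2, mul_one]

/-- Ambient form. -/
theorem le_centralizer {X : Type u} [Group X] [Finite X] {S T Q : Subgroup X} (hST : S ⊓ T = ⊥)
    (hTS : T ≤ normalizer (S : Set X))
    (hfrob : ∀ t ∈ T, t ≠ 1 → S ⊓ centralizer ({t} : Set X) = ⊥) (hQ : Group.IsNilpotent Q)
    (hSQ : S ≤ normalizer (Q : Set X)) (hTQ : T ≤ normalizer (Q : Set X))
    (hcop : (Nat.card ↥(S ⊔ T)).Coprime (Nat.card Q))
    (h : Q ⊓ centralizer (T : Set X) ≤ centralizer (S : Set X)) :
    Q ≤ centralizer (S : Set X) := by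
  haveI := Cfsg.Agent.Lib.OddLocal.FrobeniusAmbient.normal_subgroupOf_sup hTS
  haveI := hQ
  have htriv := trivial_of_fixed_le
    (Cfsg.Agent.Lib.OddLocal.FrobeniusAmbient.isComplement'_subgroupOf hST hTS)
    (Cfsg.Agent.Lib.OddLocal.FrobeniusAmbient.fpf_subgroupOf hfrob) _ Q
    (Cfsg.Agent.Lib.OddLocal.FrobeniusAmbient.act hSQ hTQ) rfl hcop (fun q hq s hs => by
      have hqT : (q : X) ∈ Q ⊓ centralizer (T : Set X) := by
        rw [← Cfsg.Agent.Lib.OddLocal.FrobeniusAmbient.map_fixed hSQ hTQ le_sup_right]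
        exact ⟨q, hq, rfl⟩
      refine Subtype.ext ?_
      rw [Cfsg.Agent.Lib.OddLocal.FrobeniusAmbient.act_apply]
      exact mul_inv_eq_iff_eq_mul.2 (mem_centralizer_iff.1 (h hqT) _ hs))
  intro q hq
  refine mem_centralizer_iff.2 fun s hs => ?_
  have := congrArg Subtype.val (htriv ⟨s, mem_sup_left hs⟩ hs ⟨q, hq⟩)
  rw [Cfsg.Agent.Lib.OddLocal.FrobeniusAmbient.act_apply] at this
  exact mul_inv_eq_iff_eq_mul.1 this

end Cfsg.Agent.Lib.OddOrder.BG14.FixedKernel
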