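import Cfsg.Agent.Lib.OddOrder.BG14.SupportKappa
import Cfsg.Agent.Lib.OddOrder.BG14.FixedKernel
import Cfsg.Agent.Lib.Hall.Coprime
import Cfsg.Agent.Lib.Frobenius.Basic
import Cfsg.Agent.S1414
import Cfsg.Agent.S1419
import Cfsg.Agent.S1426

/-!
# BG 14.6: `κ(N) ≠ ∅` forces `M` to be a Frobenius group
-/

set_option autoImplicit false
set_option linter.style.haveILetI false
set_option linter.unusedSectionVars false

open scoped Pointwise commutatorElement

namespace Cfsg.Agent.Lib.OddOrder.BG14.SupportFrobenius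

open Cfsg.Agent.Lib.OddOrder Cfsg.Agent.Lib.OddOrder.MinSimple
  Cfsg.Agent.Lib.OddOrder.BG14.SupportKappa Cfsg.Agent.Lib.OddOrder.BG14.KappaHyp
  Cfsg.Agent.Lib.OddTau.Basic

universe u

variable {G : Type u} [Group G] [Finite G] {M N Nstar K U A : Subgroup G} {x : G} {q : ℕ}
  [Fact q.Prime]

theorem K_le (h : Setup M N Nstar K U x q A) : K ≤ M ⊓ Nstar :=
  le_inf (h.inf.2.1.trans inf_le_left)
    (h.partner.2.1.le.trans (inf_le_left.trans (sigmaCore_le Nstar)))

theorem K_le_sigmaCore (h : Setup M N Nstar K U x q A) : K ≤ Cfsg.sigmaCore Nstar :=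
  h.partner.2.1.le.trans inf_le_left

/-- Only `1` in the complement `M ∩ N*` centralizes `A`. -/
theorem inf_centralizer (hr : Rows G) (hM : IsCoatom M) (h : Setup M N Nstar K U x q A) :
    (M ⊓ Nstar) ⊓ Subgroup.centralizer (A : Set G) = ⊥ := by
  rw [Subgroup.eq_bot_iff_forall]
  intro c hc
  obtain ⟨u, hu, k, hk, rfl⟩ := h.inf.2.2.2 c ⟨hc.1.1, h.ctx.centralizer_le hc.2⟩
  have hu1 : u = 1 := Subgroup.mem_bot.1 (h.compl.2.2.1 ▸ ⟨by
    have := (M ⊓ Nstar).mul_mem hc.1 ((M ⊓ Nstar).inv_mem (K_le h hk))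
    rwa [mul_inv_cancel_right] at this, h.Ule hu⟩)
  rw [hu1, one_mul] at hc ⊢
  by_contra hk1
  refine h.ctx.ne_bot (le_bot_iff.1 ((le_inf h.le fun a ha => ?_).trans
    (hr.free N h.spec.max K U h.dec k hk hk1).le))
  exact Subgroup.mem_centralizer_singleton_iff.2 (Subgroup.mem_centralizer_iff.1 hc.2 a ha)

theorem card_K (hr : Rows G) (h : Setup M N Nstar K U x q A) : (Nat.card K).Prime :=
  hr.primeKappa N h.spec.max K U h.dec h.kne h.une

theorem not_sigma (hG : Cfsg.IsMinSimpleOddOrder G) (hM : IsCoatom M)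
    (h : Setup M N Nstar K U x q A) {s : ℕ} (hs : s.Prime)
    (hd : s ∣ Nat.card ↥(M ⊓ Nstar)) : s ∉ Cfsg.sigma M :=
  OddTau.TauTwoAbelian.not_sigma_of_dvd hG hM h.compl hs hd

/-- An element of prime order `∉ τ₂(M)` of `M ∩ N*` acts regularly on `M_σ`. -/
theorem regular (hG : Cfsg.IsMinSimpleOddOrder G) (hM : IsCoatom M)
    (h : Setup M N Nstar K U x q A) {e : G} (he : e ∈ M ⊓ Nstar) {s : ℕ} (hs : s.Prime)
    (heo : orderOf e = s) (hτ : s ∉ Cfsg.tau2 M) :
    Cfsg.sigmaCore M ⊓ Subgroup.centralizer ({e} : Set G) = ⊥ := by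
  have hd : s ∣ Nat.card ↥(M ⊓ Nstar) := heo ▸ (M ⊓ Nstar).orderOf_dvd_natCard he
  have hsM : s ∣ Nat.card M := hd.trans (Subgroup.card_dvd_of_le inf_le_left)
  refine NonKappa.regular_of_not_kappa hG
    ((NonKappa.mem_tau_cases hG hM hs hsM (not_sigma hG hM h hs hd)).resolve_right hτ) ?_ he.1 heo
  rw [h.kappa]
  exact Set.notMem_empty s

theorem isNilpotent_sigmaCore (hr : Rows G) (hG : Cfsg.IsMinSimpleOddOrder G) (hM : IsCoatom M)
    (h : Setup M N Nstar K U x q A) : Group.IsNilpotent (Cfsg.sigmaCore M) := by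
  haveI := Fact.mk (card_K hr h)
  set p := Nat.card K with hp
  obtain ⟨⟨k, hk⟩, hko⟩ := exists_prime_orderOf_dvd_card' (G := K) p hp.symm.dvd
  rw [Subgroup.orderOf_mk] at hko
  by_cases hτ : p ∈ Cfsg.tau2 M
  · obtain ⟨B, -, hB⟩ := OddTau.TauTwoAbelian.exists_ctx hG hM h.compl hτ
    exact OddTau.Exceptional.isNilpotent_sigmaCore hB
  · exact OddTau.Basic.isNilpotent_of_fpf (p := p) (isSolvable_sigmaCore hG hM)
      (le_normalizer_sigmaCore M (h.inf.2.1 hk).1) (hko ▸ pow_orderOf_eq_one k)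
      (regular hG hM h (K_le h hk) (card_K hr h) hko hτ)

/-- The complement `M ∩ N*` is abelian. -/
theorem isMulCommutative_compl (hr : Rows G) (hG : Cfsg.IsMinSimpleOddOrder G) (hM : IsCoatom M)
    (hx : x ∈ Cfsg.sigmaCore M) (h : Setup M N Nstar K U x q A) :
    ⁅M ⊓ Nstar, M ⊓ Nstar⁆ = ⊥ := by
  have hq : q.Prime := Fact.out
  have hqM := Support.mem_sigma hx hq h.dvd
  haveI := isNilpotent_sigmaCore hr hG hM h
  obtain ⟨P⟩ : Nonempty (Sylow q (Cfsg.sigmaCore M)) := inferInstance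
  set Q := (P : Subgroup (Cfsg.sigmaCore M)).map (Cfsg.sigmaCore M).subtype with hQ
  have hQp : IsPGroup q Q := P.2.map _
  have hQσ : Q ≤ Cfsg.sigmaCore M := Subgroup.map_subtype_le _
  have hQM : Q ≤ M := hQσ.trans (sigmaCore_le M)
  haveI hPn : (P : Subgroup (Cfsg.sigmaCore M)).Normal :=
    Sylow.normal_of_normalizerCondition Group.normalizerCondition_of_isNilpotent P
  haveI := Sylow.characteristic_of_normal P hPn
  have hMQ : M ≤ Subgroup.normalizer (Q : Set G) :=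
    (le_normalizer_sigmaCore M).trans (CharP.normalizer_le_normalizer_map_char _)
  have hidx : ¬ q ∣ Q.relIndex M := by
    rw [← Subgroup.relIndex_mul_relIndex Q _ M hQσ (sigmaCore_le M), hQ, Basic.relIndex_map_subtype]
    exact fun h' => (hq.dvd_mul.1 h').elim P.not_dvd_index
      ((SigmaHall.sigmaCore_isPiHallOf hG hM).2.2 q hq hqM)
  obtain ⟨Sq, hSq⟩ := OddFitting.Decomp.exists_sylow_eq hQM hQp hidx
  have hqid : ¬ Cfsg.IsIdealPrime q G := (Cfsg.Agent.S1408.result hG N h.spec.max q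
    h.ctx.tau.2.1 h.ctx.tau.2.2.1 h.ctx.tau.2.2.2).1
  have hQn : Cfsg.IsNarrow q Q := by
    have h1 := BetaCore.isNarrow_sylow hG hM (fun hb => hqid hb.2) Sq
    rw [← hSq]
    exact OddLocal.NarrowStructure.isNarrow_congr
      ((Sq : Subgroup M).equivMapOfInjective M.subtype M.subtype_injective) h1
  have hAQ : A ≤ Q := by
    intro a ha
    have haσ : a ∈ Cfsg.sigmaCore M := h.Ule (h.le ha)
    have hsub : A.subgroupOf (Cfsg.sigmaCore M) ≤ (P : Subgroup (Cfsg.sigmaCore M)) := by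
      obtain ⟨P', hP'⟩ := (h.ctx.isPGroup.comap_subtype (K := Cfsg.sigmaCore M)).exists_le_sylow
      rwa [(Sylow.unique_of_normal P hPn).uniq P', ← (Sylow.unique_of_normal P hPn).uniq P] at hP'
    exact ⟨⟨a, haσ⟩, hsub (show (⟨a, haσ⟩ : Cfsg.sigmaCore M) ∈ A.subgroupOf _ from ha), rfl⟩
  have hEM : M ⊓ Nstar ≤ M := inf_le_left
  haveI := solvable_of_ne_top hG hM.1
  haveI : Group.IsSolvable ↥(M ⊓ Nstar) := Coprime.isSolvable_of_le hEM
  rw [eq_bot_iff, ← inf_centralizer hr hM h]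
  intro c hc
  have hcE : c ∈ M ⊓ Nstar := MaximalBasics.derived_le_self _ hc
  refine ⟨hcE, Subgroup.centralizer_le (SetLike.coe_subset_coe.2 hAQ)
    (OddLocal.NarrowAut.derived_centralizes h.ctx.ne_two hQp hQn (hEM.trans hMQ)
      (odd_card hG _) hc ?_)⟩
  exact ((hq.coprime_iff_not_dvd).2 fun hd => not_sigma hG hM h hq hd hqM).symm.coprime_dvd_left
    ((M ⊓ Nstar).orderOf_dvd_natCard hcE)

/-- A normal subgroup `D` of `W` with an abelian `r`-group complement contains `W'` and every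
`r'`-element. -/
theorem normal_complement_spec {W : Type u} [Group W] [Finite W] {r : ℕ} [Fact r.Prime]
    (P : Sylow r W) (D : Subgroup W) [D.Normal] (hc : D.IsComplement' (P : Subgroup W))
    (hP : IsMulCommutative (P : Subgroup W)) :
    commutator W ≤ D ∧ (Nat.card D).Coprime r ∧
      ∀ w : W, (orderOf w).Coprime r → w ∈ D := by
  have hidx : D.index = Nat.card (P : Subgroup W) := hc.symm.index_eq_card
  have hPD : Nat.card D = (P : Subgroup W).index := hc.index_eq_card.symm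
  refine ⟨?_, ?_, fun w hw => ?_⟩
  · rw [commutator_def, Subgroup.commutator_le]
    intro a _ b _
    obtain ⟨⟨⟨d, hd⟩, ⟨s, hs⟩⟩, rfl⟩ := hc.2 a
    obtain ⟨⟨⟨e, he⟩, ⟨t, ht⟩⟩, rfl⟩ := hc.2 b
    have hst : ⁅s, t⁆ = 1 := commutatorElement_eq_one_iff_mul_comm.2
      (congrArg Subtype.val (hP.is_comm.comm (⟨s, hs⟩ : (P : Subgroup W)) ⟨t, ht⟩))
    have hd' : (QuotientGroup.mk' D) d = 1 := (QuotientGroup.eq_one_iff d).2 hd
    have he' : (QuotientGroup.mk' D) e = 1 := (QuotientGroup.eq_one_iff e).2 he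
    refine (QuotientGroup.eq_one_iff _).1 ?_
    show QuotientGroup.mk' D ⁅d * s, e * t⁆ = 1
    rw [map_commutatorElement, map_mul, map_mul, hd', he', one_mul, one_mul,
      ← map_commutatorElement, hst, map_one]
  · rw [hPD]
    exact ((Fact.out (p := r.Prime)).coprime_iff_not_dvd.2 P.not_dvd_index).symm
  · refine (QuotientGroup.eq_one_iff w).1 (orderOf_eq_one_iff.1 ?_)
    obtain ⟨n, hn⟩ := IsPGroup.iff_card.1 P.2
    refine Nat.eq_one_of_dvd_coprimes ((hw.pow_right n))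
      (orderOf_map_dvd (QuotientGroup.mk' D) w) ?_
    rw [← hn, ← hidx, Subgroup.index]
    exact orderOf_dvd_natCard _

/-- BG 14.6: `τ₂(M)` is empty. -/
theorem tau2_eq_empty (hr : Rows G) (hG : Cfsg.IsMinSimpleOddOrder G) (hM : IsCoatom M)
    (hx : x ∈ Cfsg.sigmaCore M) (h : Setup M N Nstar K U x q A) : Cfsg.tau2 M = ∅ := by
  refine Set.eq_empty_iff_forall_notMem.2 fun r hrτ => ?_
  haveI := Fact.mk hrτ.1
  have hS1 := h.partner.1
  set E := M ⊓ Nstar with hEdef
  set W := Cfsg.sigmaCore Nstar with hWdef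
  have hEab := isMulCommutative_compl hr hG hM hx h
  have hEc : E ≤ Subgroup.centralizer (E : Set G) :=
    Subgroup.commutator_eq_bot_iff_le_centralizer.1 hEab
  have hKE : K ≤ E := K_le h
  have hEK : E ≤ Subgroup.centralizer (K : Set G) :=
    hEc.trans (Subgroup.centralizer_le (SetLike.coe_subset_coe.2 hKE))
  obtain ⟨B, hBE, hB⟩ := OddTau.TauTwoAbelian.exists_ctx hG hM h.compl hrτ
  have hri : ¬ Cfsg.IsIdealPrime r G :=
    (Cfsg.Agent.S1408.result hG M hM r hrτ.2.1 hrτ.2.2.1 hrτ.2.2.2).1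
  have hrS : r ∣ Nat.card Nstar :=
    hB.dvd_card.trans (Subgroup.card_dvd_of_le (hBE.trans inf_le_right))
  have hκne := KappaFacts.partner_kappa_nonempty hr.fixed h.spec.max h.dec.hall h.kne h.partner
  -- `r ∈ σ(N*)`
  have hrσ : r ∈ Cfsg.sigma Nstar := by
    by_contra hn
    refine Rank.not_prankLE_of_elemAb (le_inf hB.le ((hBE.trans hEK).trans
      (Subgroup.centralizer_le_normalizer _))) hB.elem (by
        rw [hB.card, pow_one]; exact lt_self_pow₀ hrτ.1.one_lt (by norm_num))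
      (SigmaSubgroup.bound (TauTwoFacts.tauTwo hG) hG hS1 h.kne
        (fun s hs hsd => mem_sigma_of_dvd hs (hsd.trans (Subgroup.card_dvd_of_le (K_le_sigmaCore h))))
        hM (fun g hg => ?_) (hKE.trans inf_le_left) hrS hn hri).1
    exact hκne.ne_empty (KappaFacts.kappa_eq_of_conj hg ▸ h.kappa)
  -- the Sylow `r`-subgroups are abelian
  obtain ⟨S₀, hS₀⟩ : ∃ S : Sylow r G, IsMulCommutative (S : Subgroup G) := by
    by_contra hna
    push Not at hna
    have h19 := (Cfsg.Agent.S1419.result hG M hM E h.compl r hrτ hna B ⟨hBE, hB.elem, hB.card⟩).2.1.1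
    have hbot : B ⊓ Subgroup.centralizer (Cfsg.sigmaCore M : Set G) = ⊥ := by
      rw [eq_bot_iff, ← inf_centralizer hr hM h]
      exact inf_le_inf hBE (Subgroup.centralizer_le (SetLike.coe_subset_coe.2 (h.le.trans h.Ule)))
    rw [hbot, Subgroup.card_bot] at h19
    exact hrτ.1.ne_one h19.symm
  have hall : ∀ T : Sylow r G, IsMulCommutative (T : Subgroup G) := fun T => by
    haveI := hS₀
    exact ⟨⟨fun a b => (Sylow.equiv T S₀).injective (by
      rw [map_mul, map_mul]; exact mul_comm' _ _)⟩⟩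
  obtain ⟨S, hBS⟩ := hB.isPGroup.exists_le_sylow
  have hSE : (S : Subgroup G) ≤ E := (OddTau.TauTwoAbelian.sylow_compl hB h.compl hBE hBS (hall S)).1
  have hSW : (S : Subgroup G) ≤ W :=
    pgroup_le_sigmaCore hG hS1 hrσ S.2 (hSE.trans inf_le_right)
  have hCS : Subgroup.centralizer ((S : Subgroup G) : Set G) ≤ M :=
    (Subgroup.centralizer_le (SetLike.coe_subset_coe.2 hBS)).trans hB.centralizer_le
  -- `N*` is of type `P₁`
  set Ks := Cfsg.sigmaCore N ⊓ Subgroup.centralizer (K : Set G) with hKs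
  have hKsH : Cfsg.IsPiHallOf (Cfsg.kappa Nstar) Ks Nstar := h.partner.2.2
  have hKs1 : Ks ≠ ⊥ := KappaFacts.star_ne_bot hr.fixed h.spec.max h.dec.hall h.kne
  obtain ⟨⟨Us, hUs⟩, -⟩ := hr.decomp Nstar hS1 Ks ((hr.cyclic Nstar hS1).2 Ks hKsH) hKsH
  have hUs1 : Us = ⊥ := by
    by_contra hne
    exact hri ((hr.sigmaBeta Nstar Ks Us hS1 hUs hKs1 hne) ▸ hrσ : r ∈ Cfsg.beta Nstar).2
  have hKsW : (Nat.card Ks).Coprime (Nat.card W) := Nat.coprime_of_dvd fun s hs h1 h2 =>
    (hKsH.2.1 s hs h1).2.2.1 (mem_sigma_of_dvd hs h2)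
  have hKsN : Ks ≤ Subgroup.normalizer (W : Set G) :=
    hKsH.1.trans (le_normalizer_sigmaCore Nstar)
  have hcompl : Cfsg.IsComplIn Ks W Nstar := by
    refine ⟨hKsH.1, sigmaCore_le Nstar, Basic.inf_eq_bot_of_coprime hKsW, fun n hn => ?_⟩
    obtain ⟨u, hu, t, ht, rfl⟩ := hUs.compl.2.2.2 n hn
    rw [hUs1, Subgroup.mem_bot] at hu
    rw [hu, one_mul]
    exact Coprime.exists_mul_of_mem_sup hKsN ht
  have hKW' : K ≤ ⁅W, W⁆ := h.partner.2.1.le.trans
    (Cfsg.Agent.S1426.result hG Nstar hS1 Ks hcompl).1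
  -- the normal `r`-complement of `W`
  obtain ⟨P, D', hD'n, hD'c⟩ :=
    ((Cfsg.Agent.S1414.result hG Nstar hS1).2.2.2.2 r hrτ.1 hrS (fun hb => hri hb.2)).2.1
  haveI := hD'n
  have hPab : IsMulCommutative (P : Subgroup W) := by
    obtain ⟨T, hT⟩ := (P.2.map W.subtype).exists_le_sylow
    haveI := hall T
    exact ⟨⟨fun a b => Subtype.ext (Subtype.ext
      (congrArg (fun z : (T : Subgroup G) => (z : G))
      (mul_comm' (⟨((a : W) : G), hT ⟨a, a.2, rfl⟩⟩ : (T : Subgroup G))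
        ⟨((b : W) : G), hT ⟨b, b.2, rfl⟩⟩)))⟩⟩
  obtain ⟨hcomm, hcop, hmemD⟩ := normal_complement_spec P D' hD'c hPab
  set D := D'.map W.subtype with hD
  have hDc : Nat.card D = Nat.card D' := Subgroup.card_map_of_injective W.subtype_injective
  have hDW : D ≤ W := Subgroup.map_subtype_le _
  have hKD : K ≤ D := by
    refine hKW'.trans ?_
    rw [← Subgroup.map_subtype_commutator]
    exact Subgroup.map_mono hcomm
  have hpr : (Nat.card K).Coprime r :=
    (hDc ▸ hcop).coprime_dvd_left (Subgroup.card_dvd_of_le hKD)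
  have hDmem : ∀ w ∈ W, (orderOf w).Coprime r → w ∈ D := fun w hw ho =>
    ⟨⟨w, hw⟩, hmemD _ (by rwa [Subgroup.orderOf_mk]), rfl⟩
  -- an element `k₀` of prime order of `K*`
  obtain ⟨o, hoκ, hod⟩ := KappaFacts.exists_kappa_dvd hKsH hKs1
  haveI := Fact.mk hoκ.1
  obtain ⟨⟨k₀, hk₀⟩, hk₀o⟩ := exists_prime_orderOf_dvd_card' (G := Ks) o hod
  rw [Subgroup.orderOf_mk] at hk₀o
  have hk₀1 : k₀ ≠ 1 := fun e => hoκ.1.ne_one (by rw [← hk₀o, e, orderOf_one])
  have hfix : W ⊓ Subgroup.centralizer ({k₀} : Set G) = K :=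
    ((hr.fixed Nstar hS1 Ks hKsH hKs1).1 k₀ hk₀ hk₀1).trans h.partner.2.1.symm
  set T := Subgroup.zpowers k₀ with hTdef
  have hTW : T ≤ Subgroup.normalizer (W : Set G) := (Subgroup.zpowers_le.2 hk₀).trans hKsN
  have hTK : T ≤ Subgroup.centralizer (K : Set G) :=
    (Subgroup.zpowers_le.2 hk₀).trans inf_le_right
  have hTc : Nat.card T = o := by rw [hTdef, Nat.card_zpowers, hk₀o]
  have hoW : ∀ {X : Subgroup G}, X ≤ W → o.Coprime (Nat.card X) := fun {X} hX =>
    (hoκ.1.coprime_iff_not_dvd).2 fun hd => hoκ.2.2.1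
      (mem_sigma_of_dvd hoκ.1 (hd.trans (Subgroup.card_dvd_of_le hX)))
  -- a `k₀`-invariant Sylow `r`-subgroup of `C_W(K)`
  set C := W ⊓ Subgroup.centralizer (K : Set G) with hCdef
  have hSC : (S : Subgroup G) ≤ C := le_inf hSW (hSE.trans hEK)
  haveI hWs : Group.IsSolvable W := isSolvable_sigmaCore hG hS1
  haveI hCs : Group.IsSolvable C := Coprime.isSolvable_of_le inf_le_left
  have hTC : T ≤ Subgroup.normalizer (C : Set G) :=
    Coprime.le_normalizer_inf hTW (hTK.trans Subgroup.le_normalizer)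
  obtain ⟨H, hH, hTH⟩ := Hall.Coprime.exists_invariant hTC
    (hTc ▸ hoW inf_le_left) hCs ({r} : Set ℕ)
  have hSh : Cfsg.IsPiHallOf ({r} : Set ℕ) (S : Subgroup G) C :=
    ⟨hSC, fun s hs hd => Hall.prime_dvd_pgroup hrτ.1 hs S.2 hd, fun s _ hsr hd => by
      rw [Set.mem_singleton_iff.1 hsr] at hd
      exact S.not_dvd_index (hd.trans (Dvd.intro _ (Subgroup.relIndex_mul_index hSC)))⟩
  obtain ⟨c, hcC, hcS⟩ := Hall.Coprime.exists_conj_of_isPiHallOf hCs hH hSh
  have hHp : IsPGroup r H := by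
    have : Nat.card H ∣ Nat.card (S : Subgroup G) := by
      rw [← hcS, Coprime.card_conj_smul]
    obtain ⟨n, hn⟩ := IsPGroup.iff_card.1 S.2
    obtain ⟨m, -, hm⟩ := (Nat.dvd_prime_pow hrτ.1).1 (hn ▸ this)
    exact IsPGroup.of_card hm
  obtain ⟨nH, hnH⟩ := IsPGroup.iff_card.1 hHp
  have hHW : H ≤ W := hH.1.trans inf_le_left
  have hHK : H ≤ Subgroup.centralizer (K : Set G) := hH.1.trans inf_le_right
  have hfrob : ∀ t ∈ T, t ≠ 1 → H ⊓ Subgroup.centralizer ({t} : Set G) = ⊥ := by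
    intro t ht ht1
    have e : Subgroup.zpowers t = T := Subgroup.eq_of_le_of_card_ge (Subgroup.zpowers_le.2 ht) (by
      rw [hTc, Nat.card_zpowers]
      refine (orderOf_eq_prime ?_ ht1).ge
      obtain ⟨i, rfl⟩ := ht
      show (k₀ ^ i) ^ o = 1
      rw [← zpow_natCast, ← zpow_mul, mul_comm, zpow_mul, zpow_natCast, ← hk₀o, pow_orderOf_eq_one,
        one_zpow])
    refine le_bot_iff.1 ((le_inf inf_le_left ?_).trans (Basic.inf_eq_bot_of_coprime
      (hnH ▸ (hpr.symm.pow_left nH) : (Nat.card H).Coprime (Nat.card K))).le)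
    rw [← hfix]
    refine le_inf (inf_le_left.trans hHW) (inf_le_right.trans ?_)
    rw [← SigmaDisjoint.centralizer_zpowers t, e, hTdef, SigmaDisjoint.centralizer_zpowers]
  -- `D` centralizes `H`
  have hWD : W ≤ Subgroup.normalizer (D : Set G) := Basic.le_normalizer_map_subtype W D'
  have hTD : T ≤ Subgroup.normalizer (D : Set G) := by
    rw [hTdef, Subgroup.zpowers_le]
    refine Subgroup.mem_normalizer_iff_map_conj_eq.2 (Subgroup.eq_of_le_of_card_ge ?_ ?_)
    · rintro _ ⟨d, hd, rfl⟩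
      refine hDmem _ ((Subgroup.mem_normalizer_iff.1 (hTW (Subgroup.mem_zpowers k₀)) d).1 (hDW hd)) ?_
      show (orderOf ((MulAut.conj k₀).toMonoidHom d)).Coprime r
      rw [orderOf_injective _ (MulAut.conj k₀).injective]
      exact (hDc ▸ hcop).coprime_dvd_left (D.orderOf_dvd_natCard hd)
    · exact (Nat.card_congr (D.equivMapOfInjective (MulAut.conj k₀).toMonoidHom
        (MulAut.conj k₀).injective).toEquiv).le
  have hHTc : Nat.card ↥(T ⊔ H) = o * r ^ nH := by
    rw [Coprime.card_sup_of_disjoint hTH, hTc, hnH]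
    refine disjoint_iff.2 (Basic.inf_eq_bot_of_coprime ?_)
    rw [hTc]
    exact hoW hHW
  have hAD : (Nat.card ↥(T ⊔ H)).Coprime (Nat.card D) := by
    rw [hHTc]
    exact (hoW hDW).mul_left ((hDc ▸ hcop).symm.pow_left nH)
  haveI hDs : Group.IsSolvable D := Coprime.isSolvable_of_le hDW
  have hDH : D ≤ Subgroup.centralizer (H : Set G) := by
    suffices hone : (D ⊓ Subgroup.centralizer (H : Set G)).relIndex D = 1 from
      (Subgroup.relIndex_eq_one.1 hone).trans inf_le_right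
    refine Nat.eq_one_iff_not_exists_prime_dvd.2 fun s hs hsd => ?_
    haveI := Fact.mk hs
    obtain ⟨Q, hQ, hTHQ⟩ := Hall.Coprime.exists_invariant
      (sup_le hTD (hHW.trans hWD)) hAD hDs ({s} : Set ℕ)
    have hQp : IsPGroup s Q := IsPGroup.of_card (Nat.eq_prime_pow_of_unique_prime_dvd
      Nat.card_pos.ne' fun {d} hd hdd => Set.mem_singleton_iff.1 (hQ.2.1 d hd hdd))
    have hQC : Q ≤ Subgroup.centralizer (H : Set G) := by
      refine FixedKernel.le_centralizer (T := T) ?_ hTH hfrob hQp.isNilpotent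
        (le_sup_right.trans hTHQ) (le_sup_left.trans hTHQ) ?_ ?_
      · exact Basic.inf_eq_bot_of_coprime (hTc.symm ▸ (hoW hHW).symm)
      · rw [sup_comm]
        exact hAD.coprime_dvd_right (Subgroup.card_dvd_of_le hQ.1)
      · intro z hz
        have hzK : z ∈ K := by
          rw [← hfix]
          exact ⟨hDW (hQ.1 hz.1), SigmaDisjoint.centralizer_zpowers k₀ ▸ hz.2⟩
        exact (Subgroup.le_centralizer_iff.1 hHK) hzK
    refine hQ.2.2 s hs rfl (hsd.trans ?_)
    exact Dvd.intro_left _ (Subgroup.relIndex_mul_relIndex Q _ D (le_inf hQ.1 hQC) inf_le_left)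
  -- `W ≤ E`
  have hDS : D ≤ Subgroup.centralizer ((S : Subgroup G) : Set G) := by
    intro d hd
    refine Subgroup.mem_centralizer_iff.2 fun s hs => ?_
    rw [SetLike.mem_coe, ← hcS, Coprime.mem_conj_smul] at hs
    have hd' : c⁻¹ * d * c ∈ D := by
      have := (Subgroup.mem_normalizer_iff.1 (hWD (inv_mem hcC.1)) d).1 hd
      rwa [inv_inv] at this
    have := Subgroup.mem_centralizer_iff.1 (hDH hd') _ hs
    calc s * d = c * ((c⁻¹ * s * c) * (c⁻¹ * d * c)) * c⁻¹ := by group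
      _ = c * ((c⁻¹ * d * c) * (c⁻¹ * s * c)) * c⁻¹ := by rw [this]
      _ = d * s := by group
  have hDE : D ≤ W ⊓ E := le_inf hDW (le_inf (hDS.trans hCS) (hDW.trans (sigmaCore_le Nstar)))
  have hWE : W ≤ E := by
    refine (Subgroup.relIndex_eq_one.1 (?_ : (W ⊓ E).relIndex W = 1)).trans inf_le_right
    obtain ⟨nP, hnP⟩ := IsPGroup.iff_card.1 P.2
    refine Nat.eq_one_of_dvd_coprimes (k := (W ⊓ E).relIndex W)
      (a := r ^ nP) (b := (S : Subgroup G).relIndex W) ?_ ?_ ?_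
    · exact Nat.Coprime.pow_left nP ((hrτ.1.coprime_iff_not_dvd).2 fun hd =>
        S.not_dvd_index (hd.trans (Dvd.intro _ (Subgroup.relIndex_mul_index hSW))))
    · rw [← hnP, ← hD'c.symm.index_eq_card, ← Basic.relIndex_map_subtype W D']
      exact Dvd.intro_left _ (Subgroup.relIndex_mul_relIndex D _ W hDE inf_le_left)
    · exact Dvd.intro_left _
        (Subgroup.relIndex_mul_relIndex (S : Subgroup G) _ W (le_inf hSW hSE) inf_le_left)
  exact h.kne (le_bot_iff.1 (hKW'.trans ((Subgroup.commutator_mono hWE hWE).trans hEab.le)))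

/-- BG 14.6: the complement `M ∩ N*` is cyclic. -/
theorem isCyclic_compl (hr : Rows G) (hG : Cfsg.IsMinSimpleOddOrder G) (hM : IsCoatom M)
    (hx : x ∈ Cfsg.sigmaCore M) (h : Setup M N Nstar K U x q A) : IsCyclic ↥(M ⊓ Nstar) := by
  have hEc := Subgroup.commutator_eq_bot_iff_le_centralizer.1
    (isMulCommutative_compl hr hG hM hx h)
  haveI : IsMulCommutative ↥(M ⊓ Nstar) := ⟨⟨fun a b => Subtype.ext
    (Subgroup.mem_centralizer_iff.1 (hEc b.2) a a.2)⟩⟩
  haveI : Group.IsNilpotent ↥(M ⊓ Nstar) :=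
    (letI : CommGroup ↥(M ⊓ Nstar) :=
      { (inferInstance : Group ↥(M ⊓ Nstar)) with mul_comm := mul_comm' }
     inferInstance)
  haveI : IsZGroup ↥(M ⊓ Nstar) := ⟨fun s hs P => by
    haveI := Fact.mk hs
    by_cases hd : s ∣ Nat.card ↥(M ⊓ Nstar)
    · have hs13 := (NonKappa.mem_tau_cases hG hM hs (hd.trans (Subgroup.card_dvd_of_le inf_le_left))
        (not_sigma hG hM h hs hd)).resolve_right
          (by rw [tau2_eq_empty hr hG hM hx h]; exact Set.notMem_empty s)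
      haveI := SigmaCompl.isCyclic_of_prankLE_one hG
        ((Subgroup.map_subtype_le (P : Subgroup ↥(M ⊓ Nstar))).trans inf_le_left)
        (NonKappa.prankLE_one_of_tau13 hs13) (P.2.map (M ⊓ Nstar).subtype)
      exact isCyclic_of_surjective ((P : Subgroup ↥(M ⊓ Nstar)).equivMapOfInjective _
        (M ⊓ Nstar).subtype_injective).symm.toMonoidHom (MulEquiv.surjective _)
    · obtain ⟨n, hn⟩ := IsPGroup.iff_card.1 P.2
      rcases n with _ | n
      · rw [pow_zero, Subgroup.card_eq_one] at hn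
        rw [hn]
        infer_instance
      · exact absurd ((dvd_pow_self s n.succ_ne_zero).trans
          (hn ▸ (P : Subgroup ↥(M ⊓ Nstar)).card_subgroup_dvd_card)) hd⟩
  infer_instance

/-- BG 14.6. -/
theorem conclusion (hr : Rows G) (hG : Cfsg.IsMinSimpleOddOrder G) (hM : IsCoatom M)
    (hx : x ∈ Cfsg.sigmaCore M) (hx1 : x ≠ 1) (hxM : ¬ Subgroup.centralizer ({x} : Set G) ≤ M)
    (hN : IsCoatom N) (hxN : Subgroup.centralizer ({x} : Set G) ≤ N)
    (hκN : (Cfsg.kappa N).Nonempty) :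
    Cfsg.kappa M = ∅ ∧ (∃ E : Subgroup ↥M, Cfsg.IsFrobeniusComplement E ∧ IsCyclic E) ∧
      ¬ Cfsg.IsTISubset (Cfsg.fittingHallOf M : Set G) := by
  obtain ⟨Nstar, K, U, q, _, A, h⟩ := exists_setup hr hG hM hx hx1
    (Support.spec_of hr.fixed hG hM hx hx1 hxM hN hxN) hκN
  have hσ1 : Cfsg.sigmaCore M ≠ ⊥ := fun e => hx1 (Subgroup.mem_bot.1 (e ▸ hx))
  refine ⟨h.kappa, ⟨(M ⊓ Nstar).subgroupOf M, ?_, ?_⟩, ?_⟩
  · haveI : ((Cfsg.sigmaCore M).subgroupOf M).Normal :=
      (Subgroup.normal_subgroupOf_iff_le_normalizer (sigmaCore_le M)).2 (le_normalizer_sigmaCore M)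
    have hc : Subgroup.IsComplement' ((Cfsg.sigmaCore M).subgroupOf M)
        ((M ⊓ Nstar).subgroupOf M) := by
      refine Hall.isComplement'_of_normal ?_ ?_
      · rw [Subgroup.eq_bot_iff_forall]
        exact fun z hz => Subtype.ext (Subgroup.mem_bot.1 (h.compl.2.2.1 ▸ ⟨hz.2, hz.1⟩))
      · refine eq_top_iff.2 fun m _ => ?_
        obtain ⟨a, ha, b, hb, hab⟩ := h.compl.2.2.2 m m.2
        rw [show m = (⟨a, ha.1⟩ : M) * ⟨b, sigmaCore_le M hb⟩ from Subtype.ext hab]
        exact mul_mem (Subgroup.mem_sup_right ha) (Subgroup.mem_sup_left hb)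
    have hE1 : (M ⊓ Nstar).subgroupOf M ≠ ⊥ := by
      rw [Ne, Subgroup.subgroupOf_eq_bot]
      exact fun hd => h.kne (le_bot_iff.1 ((le_inf (K_le h) ((K_le h).trans inf_le_left)).trans
        hd.le_bot))
    refine (Frobenius.isFrobeniusComplement_iff_centralizer hc (by
      rw [Ne, Subgroup.subgroupOf_eq_bot]
      exact fun hd => hσ1 (le_bot_iff.1 ((le_inf le_rfl (sigmaCore_le M)).trans hd.le_bot))) hE1).2 ?_
    intro e he he1
    rw [Subgroup.eq_bot_iff_forall]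
    intro z hz
    have hreg := OddTau.Regular.regular_of_prime (M := M) (E₀ := M ⊓ Nstar)
      (fun y hy s hs hso => regular hG hM h hy hs hso (by
        rw [tau2_eq_empty hr hG hM hx h]; exact Set.notMem_empty s)) (e := (e : G)) he
      (fun e1 => he1 (Subtype.ext e1))
    exact Subtype.ext (Subgroup.mem_bot.1 (hreg ▸ ⟨hz.1, Subgroup.mem_centralizer_singleton_iff.2
      (congrArg Subtype.val (Subgroup.mem_centralizer_singleton_iff.1 hz.2))⟩))
  · haveI := isCyclic_compl hr hG hM hx h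
    exact isCyclic_of_surjective
      (Subgroup.subgroupOfEquivOfLe (inf_le_left : M ⊓ Nstar ≤ M)).symm.toMonoidHom
      (MulEquiv.surjective _)
  · have hF : Cfsg.fittingHallOf M = Cfsg.sigmaCore M :=
      OddFitting.Decomp.fittingHallOf_eq_of_isNilpotent hG hM (isNilpotent_sigmaCore hr hG hM h)
    intro hTI
    rw [hF] at hTI
    obtain ⟨c, hc, hcM⟩ := SetLike.not_le_iff_exists.1 hxM
    refine hx1 (hTI c ?_ x hx ?_)
    · rw [normalizer_eq_of_coatom hG hM (sigmaCore_le M) hσ1 (le_normalizer_sigmaCore M)]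
      exact hcM
    · rw [Subgroup.mem_centralizer_singleton_iff.1 hc, mul_inv_cancel_right]
      exact hx

end Cfsg.Agent.Lib.OddOrder.BG14.SupportFrobenius
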