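import Cfsg.Agent.Lib.OddOrder.BG14.KappaFacts

/-!
# BG 14.6 and 14.13(a): `κ(M) = ∅`
-/

set_option autoImplicit false
set_option linter.style.haveILetI false
set_option linter.unusedSectionVars false

open scoped Pointwise

namespace Cfsg.Agent.Lib.OddOrder.BG14.SupportKappa

open Cfsg.Agent.Lib.OddOrder Cfsg.Agent.Lib.OddOrder.MinSimple
  Cfsg.Agent.Lib.OddOrder.BG14.Support Cfsg.Agent.Lib.OddOrder.BG14.KappaHyp
  Cfsg.Agent.Lib.OddTau.Basic

universe u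

variable {G : Type u} [Group G] [Finite G] {M N : Subgroup G} {x : G}

/-- The decomposition of `N` inside the complement `M ∩ N`. -/
theorem exists_decomp_inf (h1 : CyclicHall G) (h2 : DecompExists G)
    (hG : Cfsg.IsMinSimpleOddOrder G) (h : Spec M N x) :
    ∃ K U, Cfsg.IsSigmaDecomposition N K U ∧ Cfsg.IsComplIn U K (M ⊓ N) ∧
      M ⊓ N ≤ Subgroup.normalizer (U : Set G) := by
  have hN := h.max
  have hDN : M ⊓ N ≤ N := inf_le_right
  haveI := solvable_of_ne_top hG hN.1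
  haveI : Group.IsSolvable ↥(M ⊓ N) := Coprime.isSolvable_of_le hDN
  obtain ⟨K, hK⟩ := Hall.exists_isPiHallOf (Cfsg.kappa N) (M ⊓ N)
  have hKN : Cfsg.IsPiHallOf (Cfsg.kappa N) K N := by
    refine ⟨hK.1.trans hDN, hK.2.1, fun p hp hκ hd => ?_⟩
    rw [← Subgroup.relIndex_mul_relIndex K (M ⊓ N) N hK.1 hDN,
      Basic.isComplIn_relIndex h.compl] at hd
    rcases hp.dvd_mul.1 hd with hd | hd
    · exact hK.2.2 p hp hκ hd
    · exact hκ.2.2.1 (OddTau.Basic.mem_sigma_of_dvd hp hd)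
  have hKc := (h1 N hN).2 K hKN
  obtain ⟨⟨U₀, hU₀⟩, hnor⟩ := h2 N hN K hKc hKN
  set U := (U₀ ⊔ Cfsg.sigmaCore N) ⊓ (M ⊓ N) with hU
  have hSN := OddTau.Basic.sigmaCore_le N
  have hDnU : M ⊓ N ≤ Subgroup.normalizer (U : Set G) :=
    Coprime.le_normalizer_inf (hDN.trans (hnor U₀ hU₀)) Subgroup.le_normalizer
  have hsplit : ∀ d ∈ M ⊓ N, ∃ u ∈ U, ∃ k ∈ K, d = u * k := by
    intro d hd
    obtain ⟨u₀, hu₀, t, ht, rfl⟩ := hU₀.compl.2.2.2 d (hDN hd)
    obtain ⟨k, hk, s, hs, rfl⟩ := Coprime.exists_mul_of_mem_sup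
      ((hKN.1).trans (OddTau.Basic.le_normalizer_sigmaCore N)) ht
    have hks : k * s * k⁻¹ ∈ Cfsg.sigmaCore N :=
      (Subgroup.mem_normalizer_iff.1
        (OddTau.Basic.le_normalizer_sigmaCore N (hKN.1 hk)) s).1 hs
    refine ⟨u₀ * (k * s * k⁻¹), ⟨mul_mem (Subgroup.mem_sup_left hu₀) (Subgroup.mem_sup_right hks),
      ?_⟩, k, hk, by group⟩
    rw [show u₀ * (k * s * k⁻¹) = u₀ * (k * s) * k⁻¹ by group]
    exact (M ⊓ N).mul_mem hd ((M ⊓ N).inv_mem (hK.1 hk))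
  have hmeet : U ⊓ (K ⊔ Cfsg.sigmaCore N) = ⊥ := by
    rw [Subgroup.eq_bot_iff_forall]
    intro a ha
    obtain ⟨k, hk, s, hs, rfl⟩ := Coprime.exists_mul_of_mem_sup
      ((hKN.1).trans (OddTau.Basic.le_normalizer_sigmaCore N)) ha.2
    have hk' : k ∈ U₀ ⊔ Cfsg.sigmaCore N := by
      have := mul_mem ha.1.1 (Subgroup.mem_sup_right (S := U₀) (inv_mem hs))
      rwa [mul_inv_cancel_right] at this
    obtain ⟨u₀, hu₀, s', hs', hks⟩ := Coprime.exists_mul_of_mem_sup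
      (hU₀.compl.1.trans (OddTau.Basic.le_normalizer_sigmaCore N)) hk'
    have hu1 : u₀ = 1 := Subgroup.mem_bot.1 (hU₀.compl.2.2.1 ▸ ⟨hu₀, by
      rw [show u₀ = k * s'⁻¹ by rw [hks]; group]
      exact mul_mem (Subgroup.mem_sup_left hk) (Subgroup.mem_sup_right (inv_mem hs'))⟩)
    have hk1 : k = 1 := Subgroup.mem_bot.1 (h.compl.2.2.1 ▸ ⟨hK.1 hk, by
      rw [hks, hu1, one_mul]; exact hs'⟩)
    rw [hk1, one_mul] at ha ⊢
    exact Subgroup.mem_bot.1 (h.compl.2.2.1 ▸ ⟨ha.1.2, hs⟩)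
  refine ⟨K, U, ⟨hKc, hKN, ⟨inf_le_right.trans hDN, sup_le hKN.1 hSN, hmeet, fun n hn => ?_⟩,
    hK.1.trans hDnU⟩, ⟨inf_le_right, hK.1, le_bot_iff.1 ((inf_le_inf_left _ le_sup_left).trans
      hmeet.le), hsplit⟩, hDnU⟩
  obtain ⟨d, hd, s, hs, rfl⟩ := h.compl.2.2.2 n hn
  obtain ⟨u, hu, k, hk, rfl⟩ := hsplit d hd
  exact ⟨u, hu, k * s, mul_mem (Subgroup.mem_sup_left hk) (Subgroup.mem_sup_right hs),
    mul_assoc u k s⟩

/-- The configuration of BG 14.6. -/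
structure Setup (M N Nstar K U : Subgroup G) (x : G) (q : ℕ) (A : Subgroup G) : Prop where
  spec : Spec M N x
  dec : Cfsg.IsSigmaDecomposition N K U
  inf : Cfsg.IsComplIn U K (M ⊓ N)
  kne : K ≠ ⊥
  une : U ≠ ⊥
  partner : Partner G N K Nstar
  ctx : Ctx N q A
  dvd : q ∣ orderOf x
  le : A ≤ U
  kappa : Cfsg.kappa M = ∅
  Ule : U ≤ Cfsg.sigmaCore M
  compl : Cfsg.IsComplIn (M ⊓ Nstar) (Cfsg.sigmaCore M) M

/-- BG 14.6, the configuration; in particular `κ(M) = ∅`. -/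
theorem exists_setup (hr : Rows G) (hG : Cfsg.IsMinSimpleOddOrder G) (hM : IsCoatom M)
    (hx : x ∈ Cfsg.sigmaCore M) (hx1 : x ≠ 1) (h : Spec M N x)
    (hκN : (Cfsg.kappa N).Nonempty) :
    ∃ (Nstar K U : Subgroup G) (q : ℕ) (_ : Fact q.Prime) (A : Subgroup G),
      Setup M N Nstar K U x q A := by
  obtain ⟨K, U, hd, hUK, hnU⟩ := exists_decomp_inf hr.cyclic hr.decomp hG h
  have hK1 := KappaFacts.ne_bot_of_kappa hd.hall hκN
  obtain ⟨Nstar, hP, -⟩ := hr.partner N h.max K U hd hK1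
  obtain ⟨q, hq, hqd⟩ := Nat.exists_prime_and_dvd fun e => hx1 (orderOf_eq_one_iff.1 e)
  haveI := Fact.mk hq
  obtain ⟨A, hA, hAe, hAc, hy⟩ := h.ctx q hq hqd
  have hc : Ctx N q A := ⟨hG, h.max, h.tau2 q hq hqd, hA.trans inf_le_right, hAe, hAc⟩
  have hqK : ¬ q ∣ Nat.card K := fun hd' =>
    NonKappa.not_tau2_of_kappa (hd.hall.2.1 q hq hd') hc.tau
  have hAU : A ≤ U := by
    intro a ha
    obtain ⟨u, hu, k, hk, rfl⟩ := hUK.2.2.2 a (hA ha)
    have hkU : k ^ q = 1 := Subgroup.mem_bot.1 (hUK.2.2.1 ▸ ⟨by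
      have := OddTau.Regular.pow_mul_inv_mem hu (hd.normal hk) q
      rw [hAe.2 _ ha, one_mul] at this
      exact U.inv_mem_iff.1 this, pow_mem hk q⟩)
    have hk1 : orderOf k = 1 := Nat.eq_one_of_dvd_coprimes ((hq.coprime_iff_not_dvd).2 hqK)
      (orderOf_dvd_of_pow_eq_one hkU) (K.orderOf_dvd_natCard hk)
    rwa [orderOf_eq_one_iff.1 hk1, mul_one]
  obtain ⟨hyo, -⟩ := ElementDichotomy.pow_prime_mem hqd
  set y := x ^ (orderOf x / q) with hydef
  have hy1 : y ≠ 1 := fun e => hq.ne_one (by rw [← hyo, e, orderOf_one])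
  obtain ⟨R₀, hR₀⟩ := (hc.isPGroup.comap_subtype (K := U)).exists_le_sylow
  set R := (R₀ : Subgroup U).map U.subtype with hR
  have hAR : A ≤ R := fun a ha =>
    ⟨⟨a, hAU ha⟩, hR₀ (show (⟨a, hAU ha⟩ : U) ∈ A.comap U.subtype from ha), rfl⟩
  have hRU : R ≤ U := Subgroup.map_subtype_le _
  have hidx : ¬ q ∣ R.relIndex (M ⊓ N) := by
    rw [← Subgroup.relIndex_mul_relIndex R U (M ⊓ N) hRU hUK.1, hR, Basic.relIndex_map_subtype,
      Basic.isComplIn_relIndex hUK]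
    exact fun h' => (hq.dvd_mul.1 h').elim R₀.not_dvd_index hqK
  have hNR : Subgroup.normalizer (R : Set G) ≤ M := by
    refine (SigmaEmbedding.sylow_inf hG hM (mem_sigma hx hq hqd) (X := Subgroup.zpowers y) (L := N)
      (by rwa [Ne, Subgroup.zpowers_eq_bot]) (Subgroup.zpowers_le.2 (hAR hy))
      (SupportSigma.normalizer_pow_le hG h hy1) (R₀.2.map _) (hRU.trans hUK.1) ?_).1
    intro R' hR' hle hR'D
    refine le_antisymm (Subgroup.relIndex_eq_one.1 ?_) hle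
    have h1 : R.relIndex R' ∣ R.relIndex (M ⊓ N) :=
      Dvd.intro _ (Subgroup.relIndex_mul_relIndex R R' (M ⊓ N) hle hR'D)
    obtain ⟨n, hn⟩ := IsPGroup.iff_card.1 hR'
    obtain ⟨i, -, hi⟩ := (Nat.dvd_prime_pow hq).1
      (hn ▸ (R.subgroupOf R').index_dvd_card : (R.subgroupOf R').index ∣ q ^ n)
    rcases i with _ | i
    · rw [Subgroup.relIndex, hi, pow_zero]
    · exact absurd ((dvd_pow_self q i.succ_ne_zero).trans (hi.symm.dvd.trans h1)) hidx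
  have hU1 : U ≠ ⊥ := ne_bot_of_le_ne_bot hc.ne_bot hAU
  obtain ⟨h1, h2, -, -, -, h6⟩ := hr.sylow N h.max K U hd hK1 hU1 Nstar hP.1 hP.2.1 hP.2.2 q
    (hc.dvd_card.trans (Subgroup.card_dvd_of_le hAU)) R₀ M hM hNR
  exact ⟨Nstar, K, U, q, ⟨hq⟩, A, h, hd, hUK, hK1, hU1, hP, hc, hqd, hAU, h1, h2, h6⟩

/-- BG 14.13(a), the `κ` part. -/
theorem kappa_eq_empty (hr : Rows G) (hG : Cfsg.IsMinSimpleOddOrder G) (hM : IsCoatom M)
    (hx : x ∈ Cfsg.sigmaCore M) (hx1 : x ≠ 1) (h : Spec M N x) {p : ℕ}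
    (hpN : p ∈ Cfsg.sigma N) (hpM : p ∣ Nat.card M) : Cfsg.kappa M = ∅ := by
  by_contra hne
  have hne' := Set.nonempty_iff_ne_empty.2 hne
  have hN := h.max
  have hp : p.Prime := hpN.1
  haveI := Fact.mk hp
  have hpσ : p ∉ Cfsg.sigma M := fun hpσ =>
    NormalizerCompl.not_mem_sigma hG hM hN h.nc hpσ hpN
  obtain ⟨K, U, hd⟩ := KappaFacts.exists_decomposition hr.cyclic hr.decomp hM
  have hK1 := KappaFacts.ne_bot_of_kappa hd.hall hne'
  obtain ⟨Mstar, hP, -⟩ := hr.partner M hM K U hd hK1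
  have hκN : ∀ L : Subgroup G, IsCoatom L → p ∈ Cfsg.sigma L → Cfsg.kappa L = Cfsg.kappa N := by
    intro L hL hpL
    obtain ⟨g, hg⟩ := SigmaDisjoint.conj_of_sigma_inter (TauTwoFacts.tauTwo hG)
      (NonabelianFacts.nonabelianUnique hG) hG hN hL hpN hpL
    exact KappaFacts.kappa_eq_of_conj hg
  by_cases hκp : p ∈ Cfsg.kappa M
  · -- `p ∈ κ(M)` puts `p` into `σ(M*)`
    have hpK : p ∣ Nat.card K := by
      have := OddFitting.Decomp.card_mul_relIndex hd.hall.1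
      exact (hp.dvd_mul.1 (this.symm ▸ hpM)).resolve_right (hd.hall.2.2 p hp hκp)
    have hps : p ∈ Cfsg.sigma Mstar := OddTau.Basic.mem_sigma_of_dvd hp
      (hpK.trans (Subgroup.card_dvd_of_le (hP.2.1.le.trans inf_le_left)))
    have hκN' : (Cfsg.kappa N).Nonempty := hκN Mstar hP.1 hps ▸
      KappaFacts.partner_kappa_nonempty hr.fixed hM hd.hall hK1 hP
    obtain ⟨_, _, _, _, _, _, hs⟩ := exists_setup hr hG hM hx hx1 h hκN'
    exact hne hs.kappa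
  · have hpU := KappaFacts.dvd_U hd hp hpM hpσ hκp
    have hU1 : U ≠ ⊥ := fun e => hp.not_dvd_one (by rwa [e, Subgroup.card_bot] at hpU)
    obtain ⟨R⟩ : Nonempty (Sylow p U) := inferInstance
    set R₁ := (R : Subgroup U).map U.subtype with hR₁
    have hR₁1 : R₁ ≠ ⊥ := by
      rw [hR₁, Ne, Subgroup.map_eq_bot_iff_of_injective _ U.subtype_injective]
      exact R.ne_bot_of_dvd_card hpU
    obtain ⟨H, hH, hNR⟩ := exists_coatom_ge hG (normalizer_ne_top hG hR₁1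
      (pgroup_ne_top hG (R.2.map U.subtype)))
    obtain ⟨-, hUH, -, -, -, hcompl⟩ := hr.sylow M hM K U hd hK1 hU1 Mstar hP.1 hP.2.1 hP.2.2 p
      hpU R H hH hNR
    have hpH : p ∈ Cfsg.sigma H :=
      OddTau.Basic.mem_sigma_of_dvd hp (hpU.trans (Subgroup.card_dvd_of_le hUH))
    obtain ⟨q, hq, hqd⟩ := Nat.exists_prime_and_dvd fun e => hx1 (orderOf_eq_one_iff.1 e)
    haveI := Fact.mk hq
    have hqH : q ∈ Cfsg.tau2 H := by
      obtain ⟨g, hg⟩ := SigmaDisjoint.conj_of_sigma_inter (TauTwoFacts.tauTwo hG)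
        (NonabelianFacts.nonabelianUnique hG) hG hN hH hpN hpH
      rw [hg, ← PF8.Conj.im, Conj.tau2_im]
      exact h.tau2 q hq hqd
    obtain ⟨B, hB, hBc⟩ := OddTau.TauTwoAbelian.exists_ctx hG hH hcompl hqH
    set Ks := Cfsg.sigmaCore M ⊓ Subgroup.centralizer (K : Set G) with hKs
    have hS := hr.starHall M hM K U hd hK1 Mstar hP.1 hP.2.1 hP.2.2
    haveI := solvable_of_ne_top hG hP.1.1
    have hBM : B ≤ Mstar := hB.trans inf_le_right
    obtain ⟨g, hg⟩ := Hall.exists_conj_le (G := Mstar) (π := Cfsg.sigma M)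
      (H := Ks.subgroupOf Mstar) (Hall.Coprime.isPiHallOf_iff.1 hS).2 (K := B.subgroupOf Mstar)
      (fun s hs hsd => by
        rw [Nat.card_congr (Subgroup.subgroupOfEquivOfLe hBM).toEquiv] at hsd
        exact Hall.prime_dvd_pgroup hq hs hBc.isPGroup hsd ▸ mem_sigma hx hq hqd)
    haveI : IsCyclic Ks := by
      haveI := (hr.inter M hM K U hd hK1 Mstar hP.1 hP.2.1 hP.2.2).2
      exact Subgroup.isCyclic_of_le (show Ks ≤ K ⊔ Ks from le_sup_right)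
    haveI : IsCyclic (Ks.subgroupOf Mstar) :=
      isCyclic_of_injective (Subgroup.subgroupOfEquivOfLe hS.1).toMonoidHom
        (MulEquiv.injective _)
    haveI : IsCyclic ↥(MulAut.conj g • Ks.subgroupOf Mstar) :=
      isCyclic_of_surjective (Subgroup.equivSMul (MulAut.conj g) (Ks.subgroupOf Mstar)).toMonoidHom
        (MulEquiv.surjective _)
    haveI : IsCyclic (B.subgroupOf Mstar) := Subgroup.isCyclic_of_le hg
    exact hBc.not_isCyclic (isCyclic_of_surjective (Subgroup.subgroupOfEquivOfLe hBM).toMonoidHom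
      (MulEquiv.surjective _))

end Cfsg.Agent.Lib.OddOrder.BG14.SupportKappa
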