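import Cfsg.Agent.Lib.OddOrder.BG14.Cosets
import Cfsg.Agent.Lib.OddLocal.NarrowAut
import Cfsg.Agent.S1408
import Cfsg.Agent.S1423
import Cfsg.Agent.Lib.OddTau.NonabelianSylow

/-!
# BG 14.13: the primes of `σ(N)` in `π(M)`, and the conjugates of `N`
-/

set_option autoImplicit false
set_option linter.style.haveILetI false
set_option linter.unusedSectionVars false

open scoped Pointwise commutatorElement

namespace Cfsg.Agent.Lib.OddOrder.BG14.SupportSigma

open Cfsg.Agent.Lib.OddOrder Cfsg.Agent.Lib.OddOrder.MinSimple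
  Cfsg.Agent.Lib.OddOrder.BG14.ElementDichotomy Cfsg.Agent.Lib.OddOrder.BG14.Support
  Cfsg.Agent.Lib.OddTau.Basic

universe u

variable {G : Type u} [Group G] [Finite G] {M N : Subgroup G} {x : G}

/-- `A` of type `(q, q)` in `M ∩ N` for `q ∣ o(x)`. -/
theorem exists_ctx_of_spec (hG : Cfsg.IsMinSimpleOddOrder G) (h : Spec M N x) {q : ℕ}
    (hq : q.Prime) (hd : q ∣ orderOf x) :
    ∃ A : Subgroup G, A ≤ M ∧ x ^ (orderOf x / q) ∈ A ∧ Ctx N q A := by
  obtain ⟨A, hA, he, hc, hy⟩ := h.ctx q hq hd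
  exact ⟨A, hA.trans inf_le_left, hy, hG, h.max, h.tau2 q hq hd, hA.trans inf_le_right, he, hc⟩

/-- `N(⟨y⟩) ≤ N` for a power `y` of `x`. -/
theorem normalizer_pow_le (hG : Cfsg.IsMinSimpleOddOrder G) (h : Spec M N x) {n : ℕ}
    (hy : x ^ n ≠ 1) : Subgroup.normalizer (Subgroup.zpowers (x ^ n) : Set G) ≤ N := by
  obtain ⟨L, hL, hCL⟩ := exists_coatom_ge hG (centralizer_singleton_ne_top hG hy)
  obtain rfl := h.uniq L hL ((centralizer_le_pow x n).trans hCL)
  intro g hg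
  refine SupportRows.mem_of_map_eq hG hL (h.uniq _ (PF8.Conj.im_isCoatom (MulAut.conj g) hL) ?_)
  refine le_trans ?_ (Subgroup.map_mono hCL)
  refine (centralizer_le_pow x n).trans ?_
  rw [← SigmaDisjoint.centralizer_zpowers (x ^ n)]
  refine le_of_eq ?_
  show _ = PF8.Conj.im (MulAut.conj g) _
  rw [PF8.Conj.im_centralizer_coe]
  congr 1
  exact congrArg _ (Subgroup.mem_normalizer_iff_map_conj_eq.1 hg).symm

/-- A prime of `σ(N)` dividing `|M|` lies in `β(N)`. -/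
theorem mem_beta_of_sigma (hG : Cfsg.IsMinSimpleOddOrder G) (hM : IsCoatom M)
    (hx : x ∈ Cfsg.sigmaCore M) (hx1 : x ≠ 1) (hxM : ¬ Subgroup.centralizer ({x} : Set G) ≤ M)
    (h : Spec M N x) {p : ℕ} (hpN : p ∈ Cfsg.sigma N) (hpM : p ∣ Nat.card M) :
    p ∈ Cfsg.beta N := by
  have hp : p.Prime := hpN.1
  obtain ⟨q, hq, hd⟩ := Nat.exists_prime_and_dvd fun e => hx1 (orderOf_eq_one_iff.1 e)
  haveI := Fact.mk hq
  obtain ⟨hyo, hy⟩ := pow_prime_mem hd
  have hy1 : x ^ (orderOf x / q) ≠ 1 := fun e => hq.ne_one (by rw [← hyo, e, orderOf_one])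
  have hne : N ≠ M := fun e => hxM (e ▸ h.le)
  obtain ⟨Z, hZN, hNZ, hsup, hZ⟩ := SigmaSubgroup.exists_factor (TauTwoFacts.tauTwo hG) hG hM
    (mem_sigma hx hq hd) (SigmaDisjoint.zpowers_isPGroup hyo)
    (by rwa [Ne, Subgroup.zpowers_eq_bot])
    (Subgroup.zpowers_le.2 (Subgroup.zpowers_le.2 (sigmaCore_le M hx) hy)) h.max hne
    (normalizer_pow_le hG h hy1)
  have hdN : p ∣ Nat.card ↥(Z ⊔ (M ⊓ N)) := by rw [hsup]; exact hpN.2.1
  rcases SigmaSubgroup.relIndex_sup_right_le p hp hdN (inf_le_right.trans hNZ) with hd' | hd'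
  · exact (hZ p hp hd').resolve_right (not_not.2 hpM)
  · refine absurd (SupportRows.coprime_of_spec hG h le_rfl) fun hco => ?_
    have h1 : p ∣ Nat.card (Cfsg.sigmaCore N) := by
      have h3 := OddFitting.Decomp.card_mul_relIndex (sigmaCore_le N)
      exact (hp.dvd_mul.1 (h3.symm ▸ hpN.2.1)).resolve_right
        ((SigmaHall.sigmaCore_isPiHallOf hG h.max).2.2 p hp hpN)
    exact hp.ne_one (Nat.eq_one_of_dvd_coprimes hco hd' h1)

/-- BG 14.13(b). -/
theorem exists_conj_partner (h2 : TypePFixed G) (hG : Cfsg.IsMinSimpleOddOrder G) (hM : IsCoatom M)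
    (hx : x ∈ Cfsg.sigmaCore M) (hx1 : x ≠ 1) (hxM : ¬ Subgroup.centralizer ({x} : Set G) ≤ M)
    (h : Spec M N x) {y : G} {N' : Subgroup G} {g : G} (hy : y ∈ Cfsg.sigmaCore M) (hy1 : y ≠ 1)
    (hyM : ¬ Subgroup.centralizer ({y} : Set G) ≤ M) (hN' : IsCoatom N')
    (hyN : Subgroup.centralizer ({y} : Set G) ≤ N')
    (hg : N'.map (MulAut.conj g).toMonoidHom = N) :
    ∃ m ∈ M, N'.map (MulAut.conj m).toMonoidHom = N := by
  have h' := spec_of h2 hG hM hy hy1 hyM hN' hyN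
  obtain ⟨q, hq, hd⟩ := Nat.exists_prime_and_dvd fun e => hy1 (orderOf_eq_one_iff.1 e)
  haveI := Fact.mk hq
  obtain ⟨B, hBM, -, hB⟩ := exists_ctx_of_spec hG h' hq hd
  have hqM := mem_sigma hy hq hd
  have hBN : B.map (MulAut.conj g).toMonoidHom ≤ N := hg ▸ Subgroup.map_mono hB.le
  have hτ : q ∈ Cfsg.tau2 N := by
    rw [← hg, ← PF8.Conj.im, Conj.tau2_im]; exact hB.tau
  set B' := B.map (MulAut.conj g).toMonoidHom with hB'
  have hcB : Ctx N q B' := ⟨hG, h.max, hτ, hBN, PGroups.elemAb_conj g hB.elem, by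
    rw [hB', Subgroup.card_map_of_injective (MulAut.conj g).injective, hB.card]⟩
  -- a complement over `B'` is conjugate to `M ∩ N`
  obtain ⟨k, hk, hkE⟩ := SigmaSubgroup.exists_conj_le_of_sup (solvable_of_ne_top hG h.max.1)
    (sigmaCore_le N) (le_normalizer_sigmaCore N) h.compl.1
    (by rw [sup_comm]; exact Basic.isComplIn_sup h.compl) hBN
    (π := {s | s ∉ Cfsg.sigma N}) (fun s hs hsd => TauTwoSigma.elemAb_sigma' hcB s hs hsd)
    (fun s hs hsd hn => hn (mem_sigma_of_dvd hs hsd))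
  have hkB : B.map (MulAut.conj (k * g)).toMonoidHom ≤ M := by
    rw [TauTwoSigma.map_conj_mul]; exact hkE.trans inf_le_left
  obtain ⟨m, hm, c, hc, hmc⟩ :=
    (Sigma.fusion_and_normalizer hG hM hqM hB.isPGroup hB.ne_bot hBM).1 (k * g) hkB
  refine ⟨m, hm, ?_⟩
  have h1 : N'.map (MulAut.conj (k * g)).toMonoidHom = N := by
    rw [TauTwoSigma.map_conj_mul, hg, TauTwoSigma.map_conj_self hk]
  rwa [hmc, TauTwoSigma.map_conj_mul, TauTwoSigma.map_conj_self (hB.centralizer_le hc)] at h1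

/-- For a hom `f` into a cyclic group of order `r` that is nontrivial on `⟨a₀⟩`, every coset of
`⟨a₀⟩` meets the kernel. -/
theorem exists_fixed_outside {r : ℕ} [Fact r.Prime] {c a₀ a : G} {A : Subgroup G}
    [IsMulCommutative A] (hcA : ∀ b ∈ A, ⁅c, b⁆ ∈ A)
    (hz : ∀ b ∈ A, ⁅c, b⁆ ∈ Subgroup.zpowers a₀) (ha₀ : a₀ ∈ A) (ha : a ∈ A)
    (ha₀r : orderOf a₀ = r) (hne : ¬ Commute c a₀) (haz : a ∉ Subgroup.zpowers a₀) :
    ∃ a₁ ∈ A, a₁ ∉ Subgroup.zpowers a₀ ∧ Commute c a₁ := by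
  let f : A →* A := MonoidHom.mk' (fun b => ⟨⁅c, (b : G)⁆, hcA b b.2⟩) fun b b' => by
    have hcom : (b : G) * ⁅c, (b' : G)⁆ = ⁅c, (b' : G)⁆ * b :=
      congrArg Subtype.val (mul_comm' b (⟨_, hcA b' b'.2⟩ : A))
    refine Subtype.ext ?_
    simp only [Subgroup.coe_mul]
    calc ⁅c, (b : G) * b'⁆ = ⁅c, (b : G)⁆ * ((b : G) * ⁅c, (b' : G)⁆) * (b : G)⁻¹ := by
          simp only [commutatorElement_def]; group
      _ = ⁅c, (b : G)⁆ * ⁅c, (b' : G)⁆ := by rw [hcom]; group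
  set z := f ⟨a₀, ha₀⟩ with hzdef
  have hz1 : (z : G) ≠ 1 := fun e => hne (commutatorElement_eq_one_iff_mul_comm.1 e)
  have hgen : Subgroup.zpowers (z : G) = Subgroup.zpowers a₀ := by
    refine Subgroup.eq_of_le_of_card_ge (Subgroup.zpowers_le.2 (hz a₀ ha₀)) ?_
    rw [Nat.card_zpowers, Nat.card_zpowers, ha₀r]
    refine le_of_eq (Eq.symm (orderOf_eq_prime ?_ hz1))
    obtain ⟨i, hi⟩ := hz a₀ ha₀
    rw [show (z : G) = ⁅c, a₀⁆ from rfl, ← hi, ← zpow_natCast, ← zpow_mul, mul_comm, zpow_mul,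
      zpow_natCast, ← ha₀r, pow_orderOf_eq_one, one_zpow]
  obtain ⟨i, hi⟩ : ⁅c, a⁆ ∈ Subgroup.zpowers (z : G) := hgen ▸ hz a ha
  set a₁ : A := ⟨a, ha⟩ * (⟨a₀, ha₀⟩ : A) ^ (-i) with ha₁
  refine ⟨a₁, a₁.2, fun hm => haz ?_, commutatorElement_eq_one_iff_mul_comm.1 ?_⟩
  · have : a = (a₁ : G) * a₀ ^ i := by simp [ha₁]
    rw [this]
    exact (Subgroup.zpowers a₀).mul_mem hm (Subgroup.zpow_mem _ (Subgroup.mem_zpowers a₀) i)
  · show ((f a₁ : A) : G) = 1
    rw [ha₁, map_mul, map_zpow, Subgroup.coe_mul, SubgroupClass.coe_zpow]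
    show ⁅c, a⁆ * (z : G) ^ (-i) = 1
    rw [← hi]
    show (z : G) ^ i * (z : G) ^ (-i) = 1
    rw [zpow_neg, mul_inv_cancel]

/-- BG 14.13(a), the `τ₂` part. -/
theorem tau2_eq_empty (hG : Cfsg.IsMinSimpleOddOrder G) (hM : IsCoatom M)
    (hx : x ∈ Cfsg.sigmaCore M) (hx1 : x ≠ 1) (hxM : ¬ Subgroup.centralizer ({x} : Set G) ≤ M)
    (h : Spec M N x) {p : ℕ} (hpN : p ∈ Cfsg.sigma N) (hpM : p ∣ Nat.card M) :
    Cfsg.tau2 M = ∅ := by
  have hN := h.max
  have hp : p.Prime := hpN.1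
  haveI := Fact.mk hp
  have hbeta := mem_beta_of_sigma hG hM hx hx1 hxM h hpN hpM
  have hpσ : p ∉ Cfsg.sigma M := fun hpσ =>
    NormalizerCompl.not_mem_sigma hG hM hN h.nc hpσ hpN
  obtain ⟨q, hq, hd⟩ := Nat.exists_prime_and_dvd fun e => hx1 (orderOf_eq_one_iff.1 e)
  haveI := Fact.mk hq
  obtain ⟨A, hAM, -, hA⟩ := exists_ctx_of_spec hG h hq hd
  have hqM := mem_sigma hx hq hd
  refine Set.eq_empty_iff_forall_notMem.2 fun r hr => ?_
  haveI := Fact.mk hr.1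
  have hrM : r ∣ Nat.card M := by
    obtain ⟨E₀, hE₀⟩ := MaximalBasics.exists_compl hG hM
    obtain ⟨B, -, hB⟩ := OddTau.TauTwoAbelian.exists_ctx hG hM hE₀ hr
    exact hB.dvd_card.trans (Subgroup.card_dvd_of_le hB.le)
  have hrN : r ∉ Cfsg.sigma N := fun hrN =>
    (Cfsg.Agent.S1408.result hG M hM r hr.2.1 hr.2.2.1 hr.2.2.2).1
      (mem_beta_of_sigma hG hM hx hx1 hxM h hrN hrM).2
  have hrq : r ≠ q := fun e => hr.2.1 (e ▸ hqM)
  -- the normal Sylow `q`-subgroup of `M`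
  obtain ⟨E₁, hE₁⟩ := MaximalBasics.exists_compl hG hM
  obtain ⟨B₁, -, hB₁⟩ := OddTau.TauTwoAbelian.exists_ctx hG hM hE₁ hr
  haveI hnil := OddTau.Exceptional.isNilpotent_sigmaCore hB₁
  obtain ⟨P⟩ : Nonempty (Sylow q (Cfsg.sigmaCore M)) := inferInstance
  set Q := (P : Subgroup (Cfsg.sigmaCore M)).map (Cfsg.sigmaCore M).subtype with hQ
  have hQp : IsPGroup q Q := P.2.map _
  have hQσ : Q ≤ Cfsg.sigmaCore M := Subgroup.map_subtype_le _
  have hQM : Q ≤ M := hQσ.trans (sigmaCore_le M)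
  haveI hPn : (P : Subgroup (Cfsg.sigmaCore M)).Normal :=
    Sylow.normal_of_normalizerCondition Group.normalizerCondition_of_isNilpotent P
  haveI := Sylow.characteristic_of_normal P hPn
  have hMQ : M ≤ Subgroup.normalizer (Q : Set G) :=
    (le_normalizer_sigmaCore M).trans (CharP.normalizer_le_normalizer_map_char _)
  have hidx : ¬ q ∣ Q.relIndex M := by
    rw [← Subgroup.relIndex_mul_relIndex Q _ M hQσ (sigmaCore_le M), hQ, Basic.relIndex_map_subtype]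
    exact fun h' => (hq.dvd_mul.1 h').elim P.not_dvd_index
      ((SigmaHall.sigmaCore_isPiHallOf hG hM).2.2 q hq hqM)
  obtain ⟨Sq, hSq⟩ := OddFitting.Decomp.exists_sylow_eq hQM hQp hidx
  have hqid : ¬ Cfsg.IsIdealPrime q G :=
    (Cfsg.Agent.S1408.result hG N hN q hA.tau.2.1 hA.tau.2.2.1 hA.tau.2.2.2).1
  have hQn : Cfsg.IsNarrow q Q := by
    have h1 := BetaCore.isNarrow_sylow hG hM (fun hb => hqid hb.2) Sq
    rw [← hSq]
    exact OddLocal.NarrowStructure.isNarrow_congr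
      ((Sq : Subgroup M).equivMapOfInjective M.subtype M.subtype_injective) h1
  have hAQ : A ≤ Q := by
    intro a ha
    have haσ : a ∈ Cfsg.sigmaCore M := SigmaSubgroup.le_sigmaCore hG hM hAM (fun s hs hsd =>
      Hall.prime_dvd_pgroup hq hs hA.isPGroup hsd ▸ hqM) ha
    have hsub : A.subgroupOf (Cfsg.sigmaCore M) ≤ (P : Subgroup (Cfsg.sigmaCore M)) := by
      obtain ⟨P', hP'⟩ := (hA.isPGroup.comap_subtype (K := Cfsg.sigmaCore M)).exists_le_sylow
      rwa [(Sylow.unique_of_normal P hPn).uniq P', ← (Sylow.unique_of_normal P hPn).uniq P] at hP'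
    exact ⟨⟨a, haσ⟩, hsub (show (⟨a, haσ⟩ : Cfsg.sigmaCore M) ∈ A.subgroupOf _ from ha), rfl⟩
  have hQ1 : Q ≠ ⊥ := ne_bot_of_le_ne_bot hA.ne_bot hAQ
  have hCQ : Subgroup.centralizer (Q : Set G) ≤ M ⊓ N :=
    (Subgroup.centralizer_le (SetLike.coe_subset_coe.2 hAQ)).trans
      (le_inf (Cfsg.Agent.S1416.result hG M hM q A ⟨hAM, hA.elem, hA.card⟩).1 hA.centralizer_le)
  -- no conjugate of `N` contains a group of type `(r, r)`
  have no_rr : ∀ (g : G) (B : Subgroup G), B ≤ N.map (MulAut.conj g).toMonoidHom →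
      Cfsg.IsElementaryAbelian r B → Nat.card B = r ^ 2 → False := by
    intro g B hBN hBe hBc
    have hN' : IsCoatom (N.map (MulAut.conj g).toMonoidHom) := PF8.Conj.im_isCoatom _ hN
    have hσ := Cosets.sigma_eq_of_conj (M := N) (g := g) rfl
    have hr2 : Cfsg.PRankLE r 2 ↥(N.map (MulAut.conj g).toMonoidHom) := by
      by_contra hn
      exact hrN (hσ ▸ AlphaCore.alpha_subset_sigma hG hN' ⟨hr.1, hn⟩)
    have hr1 : ¬ Cfsg.PRankLE r 1 ↥(N.map (MulAut.conj g).toMonoidHom) :=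
      Rank.not_prankLE_of_elemAb hBN hBe (by rw [hBc, pow_one]; exact lt_self_pow₀ hr.1.one_lt (by norm_num))
    have hτ : r ∈ Cfsg.tau2 N := by
      rw [← Conj.tau2_im (MulAut.conj g) N]
      exact ⟨hr.1, hσ.symm ▸ hrN, hr2, hr1⟩
    obtain ⟨L, hL, hLσ⟩ := TauTwoSigma.exists_sigma_tau2 hG hN ⟨r, hτ⟩
    obtain ⟨k, hk⟩ := SigmaDisjoint.conj_of_sigma_inter (TauTwoFacts.tauTwo hG)
      (NonabelianFacts.nonabelianUnique hG) hG hM hL hqM (hLσ hA.tau)
    exact hr.2.1 (Cosets.sigma_eq_of_conj hk ▸ hLσ hτ)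
  -- elements of order `p` of `M`
  have hcN : ∀ c : G, orderOf c = p →
      ∃ g : G, Subgroup.centralizer ({c} : Set G) ≤ N.map (MulAut.conj g).toMonoidHom := by
    intro c hco
    obtain ⟨g, hg⟩ := SigmaSubgroup.exists_conj_le_sigmaCore (TauTwoFacts.tauTwo hG) hG hN
      (Y := Subgroup.zpowers c) (by
        rw [Ne, Subgroup.zpowers_eq_bot]; exact fun e => hp.ne_one (by rw [← hco, e, orderOf_one]))
      (fun s hs hsd => by
        rw [Nat.card_zpowers, hco] at hsd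
        exact (Nat.prime_dvd_prime_iff_eq hs hp).1 hsd ▸ hpN)
    obtain ⟨PN⟩ : Nonempty (Sylow p (Cfsg.sigmaCore N)) := inferInstance
    have h1 := (Cfsg.Agent.S1423.result hG N hN p hpN
      ((Subgroup.zpowers c).map (MulAut.conj g).toMonoidHom) (hg.trans (sigmaCore_le N))
      (by rw [Subgroup.card_map_of_injective (MulAut.conj g).injective, Nat.card_zpowers, hco])
      PN (Or.inl hbeta)).1.1
    refine ⟨g⁻¹, ?_⟩
    rw [← SigmaDisjoint.centralizer_zpowers c, ← TauTwoSigma.map_conj_inv_map g (Subgroup.centralizer _)]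
    refine Subgroup.map_mono (le_trans (le_of_eq ?_) h1)
    exact PF8.Conj.im_centralizer_coe (MulAut.conj g) _
  have no_cent : ∀ c : G, c ∈ M → orderOf c = p → ∀ B : Subgroup G, Ctx M r B →
      ¬ B ≤ Subgroup.centralizer ({c} : Set G) := by
    intro c _ hco B hB hle
    obtain ⟨g, hg⟩ := hcN c hco
    exact no_rr g B (hle.trans hg) hB.elem hB.card
  -- commutators of a complement with its `A_r` centralize `Q`
  have hcomm : ∀ (E B : Subgroup G), Cfsg.IsComplIn E (Cfsg.sigmaCore M) M → Ctx M r B → B ≤ E →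
      ∀ c ∈ E, ∀ b ∈ B, ⁅c, b⁆ ∈ B ∧ ⁅c, b⁆ ∈ Subgroup.centralizer (Q : Set G) := by
    intro E B hE hB hBE c hc b hb
    have h1 : ⁅c, b⁆ ∈ B := by
      rw [commutatorElement_def]
      exact B.mul_mem ((Subgroup.mem_normalizer_iff.1
        (OddTau.Context.le_normalizer_of_compl hB hE hBE hc) b).1 hb) (B.inv_mem hb)
    refine ⟨h1, ?_⟩
    haveI := solvable_of_ne_top hG hM.1
    haveI : Group.IsSolvable E := Coprime.isSolvable_of_le hE.1
    refine OddLocal.NarrowAut.derived_centralizes hA.ne_two hQp hQn (hE.1.trans hMQ)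
      (odd_card hG E) (Subgroup.commutator_mem_commutator hc (hBE hb)) ?_
    exact ((Nat.coprime_primes hr.1 hq).2 hrq).coprime_dvd_left
      (orderOf_dvd_of_pow_eq_one (hB.elem.2 _ h1))
  -- an order `p` element of `M` and an element of order `r` of `C(Q)` do not commute
  have claim : ∀ c : G, c ∈ M → orderOf c = p → ∀ a : G, a ∈ Subgroup.centralizer (Q : Set G) →
      orderOf a = r → ¬ Commute c a := by
    intro c hcM hco a haQ hao hca
    have haM : a ∈ M := (hCQ haQ).1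
    have hpr : p ≠ r := fun e => hrN (e ▸ hpN)
    have hco' : orderOf (c * a) = p * r := by
      rw [hca.orderOf_mul_eq_mul_orderOf_of_coprime (by rw [hco, hao]; exact (Nat.coprime_primes hp hr.1).2 hpr),
        hco, hao]
    obtain ⟨E, hE, hYE⟩ := TauTwoSigma.exists_compl_ge hG hM
      (Subgroup.zpowers_le.2 (M.mul_mem hcM haM)) (Y := Subgroup.zpowers (c * a)) fun s hs hsd => by
        rw [Nat.card_zpowers, hco'] at hsd
        rcases hs.dvd_mul.1 hsd with h' | h'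
        · exact (Nat.prime_dvd_prime_iff_eq hs hp).1 h' ▸ hpσ
        · exact (Nat.prime_dvd_prime_iff_eq hs hr.1).1 h' ▸ hr.2.1
    have hc1 : c ^ p = 1 := hco ▸ pow_orderOf_eq_one c
    have ha1 : a ^ r = 1 := hao ▸ pow_orderOf_eq_one a
    have hcE : c ∈ E := by
      obtain ⟨k, hk1, hk0⟩ := Nat.chineseRemainder ((Nat.coprime_primes hp hr.1).2 hpr) 1 0
      have : (c * a) ^ k = c := by
        have e1 : c ^ k = c ^ 1 := pow_eq_pow_iff_modEq.2 (hco.symm ▸ hk1)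
        have e0 : a ^ k = a ^ 0 := pow_eq_pow_iff_modEq.2 (hao.symm ▸ hk0)
        rw [hca.mul_pow, e1, e0, pow_one, pow_zero, mul_one]
      exact this ▸ E.pow_mem (hYE (Subgroup.mem_zpowers _)) k
    have haE : a ∈ E := by
      rw [show a = c⁻¹ * (c * a) by group]
      exact E.mul_mem (E.inv_mem hcE) (hYE (Subgroup.mem_zpowers _))
    obtain ⟨B, hBE, hB⟩ := OddTau.TauTwoAbelian.exists_ctx hG hM hE hr
    have haB : a ∈ B := OddTau.Context.le_of_card_prime hB (Subgroup.zpowers_le.2 haM)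
      (Subgroup.zpowers_le.2 (OddTau.Context.le_normalizer_of_compl hB hE hBE haE))
      (by rw [Nat.card_zpowers, hao]) (Subgroup.mem_zpowers a)
    have hBQ : ∀ b ∈ B, ⁅c, b⁆ ∈ Subgroup.zpowers a := by
      intro b hb
      obtain ⟨h1, h2⟩ := hcomm E B hE hB hBE c hcE b hb
      by_contra hne
      refine hQ1 (le_bot_iff.1 ((le_inf hQσ ?_).trans
        (OddTau.Context.centralizer_inf_eq_bot hB).le))
      refine Subgroup.le_centralizer_iff.1 fun d hd => ?_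
      obtain ⟨i, j, rfl⟩ := OddTau.NonabelianSylow.exists_eq_zpow_mul hB haB
        (fun e => hr.1.ne_one (by rw [← hao, e, orderOf_one])) h1 hne hd
      exact Subgroup.mul_mem _ (Subgroup.zpow_mem _ haQ i) (Subgroup.zpow_mem _ h2 j)
    refine no_cent c hcM hco B hB fun b hb => Subgroup.mem_centralizer_singleton_iff.2
      (Commute.symm ?_).eq
    obtain ⟨i, hi⟩ := hBQ b hb
    have hz : Commute c ⁅c, b⁆ := hi ▸ hca.zpow_right i
    have hpow : ∀ n : ℕ, c ^ n * b * (c ^ n)⁻¹ = ⁅c, b⁆ ^ n * b := by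
      intro n
      induction n with
      | zero => simp
      | succ n ih =>
        calc c ^ (n + 1) * b * (c ^ (n + 1))⁻¹ = c * (c ^ n * b * (c ^ n)⁻¹) * c⁻¹ := by
              rw [pow_succ']; group
          _ = (c * ⁅c, b⁆ ^ n * c⁻¹) * (c * b * c⁻¹) := by rw [ih]; group
          _ = ⁅c, b⁆ ^ n * (⁅c, b⁆ * b) := by
              rw [(hz.pow_right n).eq, mul_inv_cancel_right, commutatorElement_def c b]; group
          _ = _ := by rw [← mul_assoc, ← pow_succ]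
    have h0 := hpow p
    rw [hc1, inv_one, mul_one, one_mul] at h0
    have hzp : ⁅c, b⁆ ^ p = 1 := mul_eq_right.1 h0.symm
    have hzr : ⁅c, b⁆ ^ r = 1 := by
      rw [← hi]; show (a ^ i) ^ r = 1
      rw [← zpow_natCast, ← zpow_mul, mul_comm, zpow_mul, zpow_natCast, ha1, one_zpow]
    exact commutatorElement_eq_one_iff_mul_comm.1 (orderOf_eq_one_iff.1
      (Nat.eq_one_of_dvd_coprimes ((Nat.coprime_primes hp hr.1).2 hpr)
        (orderOf_dvd_of_pow_eq_one hzp) (orderOf_dvd_of_pow_eq_one hzr)))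
  -- conclusion
  obtain ⟨⟨c, hcM⟩, hco⟩ := exists_prime_orderOf_dvd_card' (G := M) p hpM
  rw [Subgroup.orderOf_mk] at hco
  obtain ⟨E, hE, hcE⟩ := TauTwoSigma.exists_compl_ge hG hM
    (Subgroup.zpowers_le.2 hcM) fun s hs hsd => by
      rw [Nat.card_zpowers, hco] at hsd
      exact (Nat.prime_dvd_prime_iff_eq hs hp).1 hsd ▸ hpσ
  obtain ⟨B, hBE, hB⟩ := OddTau.TauTwoAbelian.exists_ctx hG hM hE hr
  haveI := hB.elem.1
  have hcBQ := hcomm E B hE hB hBE c (hcE (Subgroup.mem_zpowers c))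
  obtain ⟨b, hb, hbc⟩ : ∃ b ∈ B, ⁅c, b⁆ ≠ 1 := by
    by_contra hcon
    push Not at hcon
    exact no_cent c hcM hco B hB fun b hb => Subgroup.mem_centralizer_singleton_iff.2
      (commutatorElement_eq_one_iff_mul_comm.1 (hcon b hb)).symm
  obtain ⟨haB, haQ⟩ := hcBQ b hb
  set a₀ := ⁅c, b⁆ with ha₀
  have hao : orderOf a₀ = r := hB.orderOf_eq haB hbc
  have hsmall : ∀ d ∈ B, d ∈ Subgroup.centralizer (Q : Set G) → d ∈ Subgroup.zpowers a₀ := by
    intro d hd hdQ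
    by_contra hne
    refine hQ1 (le_bot_iff.1 ((le_inf hQσ ?_).trans (OddTau.Context.centralizer_inf_eq_bot hB).le))
    refine Subgroup.le_centralizer_iff.1 fun e he => ?_
    obtain ⟨i, j, rfl⟩ := OddTau.NonabelianSylow.exists_eq_zpow_mul hB haB hbc hd hne he
    exact Subgroup.mul_mem _ (Subgroup.zpow_mem _ haQ i) (Subgroup.zpow_mem _ hdQ j)
  obtain ⟨e, he, hez⟩ : ∃ e ∈ B, e ∉ Subgroup.zpowers a₀ := by
    by_contra hcon
    push Not at hcon
    exact hB.not_isCyclic (Subgroup.isCyclic_of_le (fun d hd => hcon d hd))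
  obtain ⟨a₁, ha₁, ha₁z, hca₁⟩ := exists_fixed_outside (r := r) (fun d hd => (hcBQ d hd).1)
    (fun d hd => hsmall _ (hcBQ d hd).1 (hcBQ d hd).2) haB he hao
    (fun hc' => claim c hcM hco a₀ haQ hao hc') hez
  obtain ⟨g, hg⟩ := hcN c hco
  set N₁ := N.map (MulAut.conj g).toMonoidHom with hN₁
  have hN₁max : IsCoatom N₁ := PF8.Conj.im_isCoatom _ hN
  have ha₁N : a₁ ∈ N₁ := hg (Subgroup.mem_centralizer_singleton_iff.2 hca₁.eq.symm)
  have ha₀N : g * a₀ * g⁻¹ ∈ N₁ := ⟨a₀, (hCQ haQ).2, rfl⟩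
  have ha₁o : orderOf a₁ = r := hB.orderOf_eq ha₁ fun e' => ha₁z (e' ▸ one_mem _)
  have hrank : Cfsg.PRankLE r 1 N₁ := by
    by_contra hn
    have hr2 : Cfsg.PRankLE r 2 N₁ := by
      by_contra hn2
      exact hrN (Cosets.sigma_eq_of_conj (M := N) (g := g) rfl ▸
        AlphaCore.alpha_subset_sigma hG hN₁max ⟨hr.1, hn2⟩)
    obtain ⟨D, hDN, hDe, hDc⟩ := RankTwoPrime.exists_elemAb_sq hr2 hn
    exact no_rr g D hDN hDe hDc
  obtain ⟨n, hn, hnmap⟩ := SigmaDisjoint.exists_conj_zpowers hG hrank ha₁N ha₀N ha₁o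
    ((orderOf_injective (MulAut.conj g).toMonoidHom (MulAut.conj g).injective a₀).trans hao)
  obtain ⟨i, hi⟩ : n * (g * a₀ * g⁻¹) * n⁻¹ ∈ Subgroup.zpowers a₁ :=
    hnmap ▸ ⟨_, Subgroup.mem_zpowers _, rfl⟩
  set k := n * g with hk
  have hck : Commute c (k * a₀ * k⁻¹) := by
    rw [show k * a₀ * k⁻¹ = a₁ ^ i by
      show _ = _
      rw [show a₁ ^ i = (fun j : ℤ => a₁ ^ j) i from rfl, hi, hk]; group]
    exact hca₁.zpow_right i
  have hc' : Commute (k⁻¹ * c * k) a₀ := by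
    have := hck.map (MulAut.conj k⁻¹).toMonoidHom
    simpa [mul_assoc] using this
  have hCa₀ : Subgroup.centralizer (Subgroup.zpowers a₀ : Set G) ≤ M := by
    refine (OddTau.Context.unique_of_fixed hB (Subgroup.zpowers_le.2 haB)
      (by rw [Nat.card_zpowers, hao]) (ne_bot_of_le_ne_bot hQ1 (le_inf hQσ ?_))).1
    refine Subgroup.le_centralizer_iff.1 (Subgroup.zpowers_le.2 haQ)
  refine claim (k⁻¹ * c * k) (hCa₀ ?_) ?_ a₀ haQ hao hc'
  · rw [SigmaDisjoint.centralizer_zpowers]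
    exact Subgroup.mem_centralizer_singleton_iff.2 hc'.eq
  · rw [show k⁻¹ * c * k = (MulAut.conj k⁻¹).toMonoidHom c by simp]
    exact (orderOf_injective (MulAut.conj k⁻¹).toMonoidHom (MulAut.conj k⁻¹).injective c).trans hco

end Cfsg.Agent.Lib.OddOrder.BG14.SupportSigma
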