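import Cfsg.Agent.Lib.OddOrder.PF8.Conj

/-!
# BG 14: invariance of `σ, τ₂, κ, M_σ` under isomorphisms
-/

set_option autoImplicit false

open scoped Pointwise

namespace Cfsg.Agent.Lib.OddOrder.BG14.Conj

open Cfsg.Agent.Lib.OddOrder.PF8.Conj

universe u

variable {G G' : Type u} [Group G] [Group G'] [Finite G] [Finite G'] (φ : G ≃* G')
set_option linter.unusedSectionVars false

theorem sigma_le {M : Subgroup G} {p : ℕ} (h : p ∈ Cfsg.sigma M) : p ∈ Cfsg.sigma (im φ M) := by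
  obtain ⟨hp, hd, P, hP⟩ := h
  haveI := Fact.mk hp
  refine ⟨hp, by rwa [im_card], P.mapSurjective (f := (imEquiv φ M).toMonoidHom)
    (show Function.Surjective (imEquiv φ M).toMonoidHom from (imEquiv φ M).surjective), ?_⟩
  rw [Sylow.coe_mapSurjective, map_map_imEquiv, ← im_normalizer_coe, im_le]
  exact hP

theorem sigma_im (M : Subgroup G) : Cfsg.sigma (im φ M) = Cfsg.sigma M :=
  Set.Subset.antisymm (fun p h => by have := sigma_le φ.symm h; rwa [im_symm_im] at this)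
    fun _ h => sigma_le φ h

theorem map_piCore_equiv {A B : Type u} [Group A] [Group B] (π : Set ℕ) (e : A ≃* B) :
    (Cfsg.piCore π A).map e.toMonoidHom = Cfsg.piCore π B := by
  have key : ∀ {A B : Type u} [Group A] [Group B] (e : A ≃* B),
      (Cfsg.piCore π A).map e.toMonoidHom ≤ Cfsg.piCore π B := by
    intro A B _ _ e
    rw [Subgroup.map_le_iff_le_comap]
    refine sSup_le ?_
    rintro N ⟨hN, hπ⟩
    rw [← Subgroup.map_le_iff_le_comap]
    exact le_sSup ⟨hN.map _ e.surjective, fun p hp hd =>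
      hπ p hp (by rwa [Subgroup.card_map_of_injective e.injective] at hd)⟩
  exact le_antisymm (key e) fun b hb =>
    ⟨e.symm b, key e.symm ⟨b, hb, rfl⟩, e.apply_symm_apply b⟩

theorem im_sigmaCore (M : Subgroup G) : im φ (Cfsg.sigmaCore M) = Cfsg.sigmaCore (im φ M) := by
  rw [Cfsg.sigmaCore, Cfsg.sigmaCore, ← map_map_imEquiv, map_piCore_equiv, sigma_im]

theorem prankLE_im {M : Subgroup G} {p k : ℕ} : Cfsg.PRankLE p k ↥(im φ M) ↔ Cfsg.PRankLE p k M :=
  ⟨fun h => prankLE_equiv (imEquiv φ M).symm h, fun h => prankLE_equiv (imEquiv φ M) h⟩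

theorem tau2_im (M : Subgroup G) : Cfsg.tau2 (im φ M) = Cfsg.tau2 M := by
  ext p
  simp only [Cfsg.tau2, Set.mem_ofPred_eq, sigma_im, prankLE_im]

theorem tau1_im (M : Subgroup G) : Cfsg.tau1 (im φ M) = Cfsg.tau1 M := by
  ext p
  simp only [Cfsg.tau1, Set.mem_ofPred_eq, sigma_im, prankLE_im, im_card, ← im_commutator]

theorem tau3_im (M : Subgroup G) : Cfsg.tau3 (im φ M) = Cfsg.tau3 M := by
  ext p
  simp only [Cfsg.tau3, Set.mem_ofPred_eq, sigma_im, prankLE_im, im_card, ← im_commutator]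

theorem kappa_le {M : Subgroup G} {p : ℕ} (h : p ∈ Cfsg.kappa M) : p ∈ Cfsg.kappa (im φ M) := by
  obtain ⟨hp, hd, hσ, hP⟩ := h
  haveI := Fact.mk hp
  refine ⟨hp, by rwa [im_card], by rwa [sigma_im], fun P => ?_⟩
  obtain ⟨hc, x, hx, hx1, y, hy, hy1, hxy⟩ :=
    hP (P.mapSurjective (f := (imEquiv φ M).symm.toMonoidHom)
      (show Function.Surjective (imEquiv φ M).symm.toMonoidHom from (imEquiv φ M).symm.surjective))
  rw [Sylow.coe_mapSurjective] at hx hc
  refine ⟨(im_isCyclic_iff (imEquiv φ M).symm).1 hc, imEquiv φ M x, ?_, ?_, φ y, ?_, ?_, ?_⟩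
  · obtain ⟨z, hz, rfl⟩ := hx
    show (imEquiv φ M) ((imEquiv φ M).symm z) ∈ (P : Subgroup ↥(im φ M))
    rwa [MulEquiv.apply_symm_apply]
  · simpa using hx1
  · rw [← im_sigmaCore, mem_im]; exact hy
  · simpa using hy1
  · change φ (x : G) * φ y = φ y * φ (x : G)
    rw [← map_mul, ← map_mul, hxy]

theorem kappa_im (M : Subgroup G) : Cfsg.kappa (im φ M) = Cfsg.kappa M :=
  Set.Subset.antisymm (fun p h => by have := kappa_le φ.symm h; rwa [im_symm_im] at this)
    fun _ h => kappa_le φ h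

end Cfsg.Agent.Lib.OddOrder.BG14.Conj
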