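import Cfsg.Agent.Lib.OddOrder.PrimeAction
import Cfsg.Agent.Lib.OddOrder.BG14.NonKappa
import Cfsg.Agent.Lib.OddOrder.Interface.BG14

/-!
# BG 13.11, 14.2: the Hall `κ(M)`-subgroups
-/

set_option autoImplicit false
set_option linter.style.haveILetI false
set_option linter.unusedSectionVars false

open scoped Pointwise commutatorElement

namespace Cfsg.Agent.Lib.OddOrder.BG14.KappaHall

open Cfsg.Agent.Lib.OddOrder Cfsg.Agent.Lib.OddOrder.MinSimple

universe u

variable {G : Type u} [Group G] [Finite G] {M : Subgroup G} {p : ℕ} [hp : Fact p.Prime]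

/-- A subgroup of order `p ∈ κ(M)` fixes a point of `M_σ`. -/
theorem fixed_of_kappa (hκ : p ∈ Cfsg.kappa M) {P : Subgroup G} (hPc : Nat.card P = p)
    (hPM : P ≤ M) : Cfsg.sigmaCore M ⊓ Subgroup.centralizer (P : Set G) ≠ ⊥ := by
  obtain ⟨S, hS⟩ :=
    ((ComplementLines.isPGroup_of_card hPc).comap_subtype (K := M)).exists_le_sylow
  obtain ⟨hScyc, x, hxS, hx1, z, hz, hz1, hxz⟩ := hκ.2.2.2 S
  haveI := hScyc
  obtain ⟨a, ha, ha1⟩ := P.bot_or_exists_ne_one.resolve_left (ComplementLines.ne_bot_of_card hPc)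
  obtain ⟨k, hk⟩ := S.2 ⟨x, hxS⟩
  have hd : p ∣ orderOf x := by
    have h1 : orderOf x ∣ p ^ k :=
      orderOf_dvd_of_pow_eq_one (by simpa using congrArg Subtype.val hk)
    obtain ⟨i, -, hi⟩ := (Nat.dvd_prime_pow hp.out).1 h1
    rcases i with _ | i
    · exact absurd (orderOf_eq_one_iff.1 (by rwa [pow_zero] at hi)) hx1
    · exact hi ▸ dvd_pow_self p i.succ_ne_zero
  have hao : orderOf (⟨a, hPM ha⟩ : M) = p := by
    rw [Subgroup.orderOf_mk, ← Nat.card_zpowers,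
      ComplementLines.zpowers_eq_of_card hPc ha ha1, hPc]
  have heq : Subgroup.zpowers (⟨a, hPM ha⟩ : M) = Subgroup.zpowers (x ^ (orderOf x / p)) :=
    Cyclic.eq_of_card_eq_of_isCyclic (W := (S : Subgroup M))
      (Subgroup.zpowers_le.2 (hS ha)) (Subgroup.zpowers_le.2 (pow_mem hxS _))
      (by rw [Nat.card_zpowers, Nat.card_zpowers, hao, OddTau.Regular.exists_pow_prime_order hd])
  intro e
  refine hz1 (Subgroup.mem_bot.1 (e ▸ Subgroup.mem_inf.2 ⟨hz, ?_⟩))
  rw [← ComplementLines.zpowers_eq_of_card hPc ha ha1, SigmaDisjoint.centralizer_zpowers,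
    Subgroup.mem_centralizer_singleton_iff]
  obtain ⟨i, hi⟩ : (⟨a, hPM ha⟩ : M) ∈ Subgroup.zpowers (x ^ (orderOf x / p)) :=
    heq ▸ Subgroup.mem_zpowers _
  rw [show a = ((x : G) ^ (orderOf x / p)) ^ i by simpa using congrArg Subtype.val hi.symm]
  exact (((show Commute (x : G) z from hxz).pow_left _).zpow_left i).eq.symm

omit hp in
/-- Facts about a prime of `κ(M)`. -/
theorem kappa_facts (hG : Cfsg.IsMinSimpleOddOrder G) (hM : IsCoatom M) (hκ : p ∈ Cfsg.kappa M) :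
    p ∉ Cfsg.sigma M ∧ Cfsg.PRankLE p 1 M :=
  ⟨hκ.2.2.1, NonKappa.prankLE_one_of_tau13 (NonKappa.tau13_of_kappa hG hM hκ)⟩

/-- The elements of prime order `q ∉ σ(M) ∪ κ(M)` do not centralize a subgroup of order `p` with a
fixed point on `M_σ`. -/
theorem false_of_commute (hG : Cfsg.IsMinSimpleOddOrder G) (hM : IsCoatom M)
    (hκ : p ∈ Cfsg.kappa M) {P : Subgroup G} (hPc : Nat.card P = p) (hPM : P ≤ M) {q : ℕ}
    [hq : Fact q.Prime] (hqσ : q ∉ Cfsg.sigma M) (hqκ : q ∉ Cfsg.kappa M) {f : G} (hfM : f ∈ M)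
    (hfo : orderOf f = q) (hfP : f ∈ Subgroup.centralizer (P : Set G)) : False := by
  obtain ⟨hps, hr1⟩ := kappa_facts hG hM hκ
  have hfix := fixed_of_kappa hκ hPc hPM
  have hPp := ComplementLines.isPGroup_of_card hPc
  have hP1 := ComplementLines.ne_bot_of_card hPc
  have hle := PrimeAction.fixed_le hG hM hps hr1 hPc hPM hfix hfo hfM hfP hqσ
  have hfixf : Cfsg.sigmaCore M ⊓ Subgroup.centralizer ({f} : Set G) ≠ ⊥ :=
    ne_bot_of_le_ne_bot hfix (le_inf inf_le_left hle)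
  rcases NonKappa.mem_tau_cases hG hM hq.out (hfo ▸ Subgroup.orderOf_dvd_natCard M hfM) hqσ with
    hτ | hτ
  · obtain ⟨z, hz, hz1⟩ := (Subgroup.bot_or_exists_ne_one _).resolve_left hfixf
    exact hqκ (NonKappa.mem_kappa_of_fixed hG hτ hfM hfo hz.1 hz1
      (Subgroup.mem_centralizer_singleton_iff.1 hz.2).symm)
  obtain ⟨H, hH, hNH⟩ := exists_coatom_ge hG (normalizer_ne_top hG hP1 (pgroup_ne_top hG hPp))
  have hnc := MaximalBasics.not_conj_of_normalizer hG hM hps (fun h => h.2.2.2 hr1) hPp hP1 hNH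
  have hCH : Subgroup.centralizer (P : Set G) ≤ H :=
    (Subgroup.centralizer_le_normalizer _).trans hNH
  have hfH : f ∈ H := hCH hfP
  have hPH : P ≤ H := Subgroup.le_normalizer.trans hNH
  have hPσ := OddTau.Basic.pgroup_le_sigmaCore hG hH
    (NormalizerSigma.sigma_of_fixed hG hM hps hr1 hPc hPM hfix hH hNH) hPp hPH
  have hqH : q ∉ Cfsg.sigma H := fun h => hfix (le_bot_iff.1 (by
    rw [← TauTwoMeet.fixed_inf_eq_bot hG hH hM h hτ hfH hfM hfo]
    exact le_inf (le_inf inf_le_left hle) (inf_le_right.trans hCH)))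
  have hfixH : Cfsg.sigmaCore H ⊓ Subgroup.centralizer ({f} : Set G) ≠ ⊥ :=
    ne_bot_of_le_ne_bot hP1 (le_inf hPσ fun a ha =>
      Subgroup.mem_centralizer_singleton_iff.2 (Subgroup.mem_centralizer_iff.1 hfP a ha))
  -- `C(f)` lies only in `M`
  have huniq : ∀ L : Subgroup G, IsCoatom L → q ∈ Cfsg.tau2 L → f ∈ L →
      Cfsg.sigmaCore L ⊓ Subgroup.centralizer ({f} : Set G) ≠ ⊥ →
      Subgroup.centralizer ({f} : Set G) ≤ L ∧ ∀ L' : Subgroup G, IsCoatom L' →
        Subgroup.centralizer ({f} : Set G) ≤ L' → L' = L := by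
    intro L hL hτL hfL hfL1
    obtain ⟨E, hE, hfE⟩ := BetaDerived.exists_compl_ge hG hL (Subgroup.zpowers_le.2 hfL)
      fun s hs hd => by
        rw [Nat.card_zpowers, hfo] at hd
        exact (Nat.prime_dvd_prime_iff_eq hs hq.out).1 hd ▸ hτL.2.1
    obtain ⟨A, hAE, hA⟩ := OddTau.TauTwoAbelian.exists_ctx hG hL hE hτL
    have hfA := OddTau.Context.le_of_card_prime hA (Subgroup.zpowers_le.2 hfL)
      (hfE.trans (OddTau.Context.le_normalizer_of_compl hA hE hAE))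
      (by rw [Nat.card_zpowers, hfo])
    have := OddTau.Context.unique_of_fixed hA hfA (by rw [Nat.card_zpowers, hfo])
      (by rwa [SigmaDisjoint.centralizer_zpowers])
    rwa [SigmaDisjoint.centralizer_zpowers] at this
  obtain ⟨hCfM, hCfU⟩ := huniq M hM hτ hfM hfixf
  have hqrH : Cfsg.PRankLE q 1 H := by
    by_contra h
    have h2 : Cfsg.PRankLE q 2 H := by
      by_contra h3
      exact hqH (AlphaCore.alpha_subset_sigma hG hH ⟨hq.out, h3⟩)
    exact hnc 1 (by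
      rw [hCfU H hH (huniq H hH ⟨hq.out, hqH, h2, h⟩ hfH hfixH).1]
      ext y; simp)
  refine hτ.2.1 (NormalizerSigma.sigma_of_fixed hG hH hqH hqrH
    (P := Subgroup.zpowers f) (by rw [Nat.card_zpowers, hfo]) (Subgroup.zpowers_le.2 hfH)
    (by rwa [SigmaDisjoint.centralizer_zpowers]) hM fun n hn => ?_)
  have h1 := Fitting.normalizer_le_normalizer_centralizer _ hn
  rw [SigmaDisjoint.centralizer_zpowers] at h1
  rw [← normalizer_coatom hG hM]
  refine Coprime.mem_normalizer_of_conj_smul_eq (hCfU _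
    ((OrderIso.isCoatom_iff (MulEquiv.mapSubgroup (MulAut.conj n)) M).2 hM) ?_)
  rw [← Coprime.conj_smul_eq_self_of_mem_normalizer h1]
  exact Subgroup.pointwise_smul_le_pointwise_smul_iff.2 hCfM

/-- BG 13.11: if `p ∈ τ₃(M)` lies in `κ(M)` then every prime of `M` outside `σ(M)` does. -/
theorem all_kappa (hG : Cfsg.IsMinSimpleOddOrder G) (hM : IsCoatom M) (hτ : p ∈ Cfsg.tau3 M)
    (hκ : p ∈ Cfsg.kappa M) {q : ℕ} (hq : q.Prime) (hqM : q ∣ Nat.card M)
    (hqσ : q ∉ Cfsg.sigma M) : q ∈ Cfsg.kappa M := by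
  haveI := Fact.mk hq
  by_contra hqκ
  obtain ⟨E, hE⟩ := MaximalBasics.exists_compl hG hM
  have hpE : p ∣ Nat.card E := NonKappa.dvd_compl hE hp.out hκ.2.1 hτ.2.1
  obtain ⟨a, hao⟩ := exists_prime_orderOf_dvd_card' (G := E) p hpE
  have hPc : Nat.card (Subgroup.zpowers (a : G)) = p := by
    rw [Nat.card_zpowers, Subgroup.orderOf_coe, hao]
  have hPE : Subgroup.zpowers (a : G) ≤ E := Subgroup.zpowers_le.2 a.2
  have hfix := fixed_of_kappa hκ hPc (hPE.trans hE.1)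
  obtain ⟨f, hfo⟩ := exists_prime_orderOf_dvd_card' (G := E) q (NonKappa.dvd_compl hE hq hqM hqσ)
  have hfo' : orderOf (f : G) = q := by rw [Subgroup.orderOf_coe, hfo]
  exact false_of_commute hG hM hκ hPc (hPE.trans hE.1) hqσ hqκ (hE.1 f.2) hfo'
    (TauThreeMover.centralizes_of_prime hG hM hτ.2.1 hτ.2.2.2 hPc (hPE.trans hE.1) hfix hfo'
      (hE.1 f.2) ((ComplementLines.compl_le_normalizer hG hM hE hτ hPc hPE).1 f.2))

omit hp in
/-- `KappaTauThreeP1`. -/
theorem kappaTauThreeP1 (hG : Cfsg.IsMinSimpleOddOrder G) :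
    Interface.BG14.KappaTauThreeP1 G := by
  intro M hM hsub q hq hqM hqσ
  obtain ⟨p, hpκ, hpτ⟩ := Set.not_subset.1 hsub
  haveI := Fact.mk hpκ.1
  exact all_kappa hG hM ((NonKappa.tau13_of_kappa hG hM hpκ).resolve_left hpτ) hpκ hq hqM hqσ

omit hp in
/-- `NonKappaRegular`. -/
theorem nonKappaRegular (hG : Cfsg.IsMinSimpleOddOrder G) : Interface.BG14.NonKappaRegular G := by
  intro M hM p hτ x hxM hxo
  refine ⟨fun hκ => NonKappa.regular_of_not_kappa hG hτ hκ hxM hxo, fun hbot hκ => ?_⟩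
  haveI := Fact.mk hκ.1
  refine fixed_of_kappa hκ (P := Subgroup.zpowers x) (by rw [Nat.card_zpowers, hxo])
    (Subgroup.zpowers_le.2 hxM) ?_
  rwa [SigmaDisjoint.centralizer_zpowers]

omit hp in
/-- An element of order `q ∈ τ₁(M)` of a complement is central in it when all primes outside `σ(M)`
lie in `κ(M)`. -/
theorem central_of_tau1 (hG : Cfsg.IsMinSimpleOddOrder G) (hM : IsCoatom M)
    (hall : ∀ q : ℕ, q.Prime → q ∣ Nat.card M → q ∉ Cfsg.sigma M → q ∈ Cfsg.kappa M)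
    {E : Subgroup G} (hE : Cfsg.IsComplIn E (Cfsg.sigmaCore M) M) {q : ℕ} [hq : Fact q.Prime]
    (hqτ : q ∈ Cfsg.tau1 M) {f : G} (hfE : f ∈ E) (hfo : orderOf f = q) {e : G} (he : e ∈ E) :
    Commute e f := by
  haveI := SigmaCompl.isNilpotent_derived hG hM hE
  have hab : IsMulCommutative ↥⁅E, E⁆ := (Cfsg.Agent.S1420.result hG M hM E hE).2.1
  have hEE : ⁅E, E⁆ ≤ E := MaximalBasics.derived_le_self E
  -- the primes of `E'`
  have hprime : ∀ s : ℕ, s.Prime → s ∣ Nat.card ↥⁅E, E⁆ → s ∈ Cfsg.tau3 M ∧ s ∈ Cfsg.kappa M := by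
    intro s hs hd
    have hsσ := OddTau.TauTwoAbelian.not_sigma_of_dvd hG hM hE hs
      (hd.trans (Subgroup.card_dvd_of_le hEE))
    have hsκ := hall s hs (hd.trans (Subgroup.card_dvd_of_le (hEE.trans hE.1))) hsσ
    refine ⟨(NonKappa.tau13_of_kappa hG hM hsκ).resolve_left fun h1 => h1.2.2.2.1 ?_, hsκ⟩
    exact hd.trans (Subgroup.card_dvd_of_le (Subgroup.commutator_mono hE.1 hE.1))
  haveI : IsCyclic ↥⁅E, E⁆ := CyclicSylow.isCyclic_of_sylow_cyclic fun s hs S => by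
    haveI := Fact.mk hs
    by_cases hd : s ∣ Nat.card ↥⁅E, E⁆
    · haveI := SigmaCompl.isCyclic_of_prankLE_one hG
        ((Subgroup.map_subtype_le (S : Subgroup ↥⁅E, E⁆)).trans (hEE.trans hE.1))
        (hprime s hs hd).1.2.2.2 (S.2.map _)
      exact ((S : Subgroup ↥⁅E, E⁆).equivMapOfInjective _
        (Subgroup.subtype_injective _)).isCyclic.2 inferInstance
    · obtain ⟨n, hn⟩ := S.2.exists_card_eq
      have hbot : (S : Subgroup ↥⁅E, E⁆) = ⊥ := by
        rcases n with _ | n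
        · exact Subgroup.card_eq_one.1 (by rw [hn, pow_zero])
        · exact absurd (((dvd_pow_self s n.succ_ne_zero).trans hn.symm.dvd).trans
            (Subgroup.card_subgroup_dvd_card _)) hd
      show IsCyclic (S : Subgroup ↥⁅E, E⁆)
      rw [hbot]
      infer_instance
  have hfn : f ∈ Subgroup.normalizer ((⁅E, E⁆ : Subgroup G) : Set G) :=
    (Subgroup.map_subtype_commutator E ▸ Basic.le_normalizer_map_subtype E _) hfE
  have hnd : ¬ q ∣ Nat.card ↥⁅E, E⁆ := fun hd =>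
    hqτ.2.2.2.1 (hd.trans (Subgroup.card_dvd_of_le (Subgroup.commutator_mono hE.1 hE.1)))
  have hfC : f ∈ Subgroup.centralizer ((⁅E, E⁆ : Subgroup G) : Set G) := by
    refine Subgroup.mem_centralizer_iff.2 fun c hc => ?_
    suffices h : c ∈ Subgroup.centralizer ({f} : Set G) from
      Subgroup.mem_centralizer_singleton_iff.1 h
    refine OddLocal.DerivedFitting.mem_of_primePow_parts fun s hs y hy ⟨j, hj⟩ => ?_
    haveI := Fact.mk hs
    rcases j with _ | j
    · rw [pow_zero, orderOf_eq_one_iff] at hj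
      exact hj ▸ one_mem _
    have hyD : y ∈ ⁅E, E⁆ := Subgroup.zpowers_le.2 hc hy
    have hsd : s ∣ Nat.card ↥⁅E, E⁆ :=
      ((dvd_pow_self s j.succ_ne_zero).trans hj.symm.dvd).trans (Subgroup.orderOf_dvd_natCard _ hyD)
    obtain ⟨hsτ, hsκ⟩ := hprime s hs hsd
    have h0o := ComplementLines.orderOf_pow_prime hs hj
    have hSc : Nat.card (Subgroup.zpowers (y ^ s ^ j)) = s := by rw [Nat.card_zpowers, h0o]
    have hSM : Subgroup.zpowers (y ^ s ^ j) ≤ E := Subgroup.zpowers_le.2 (hEE (pow_mem hyD _))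
    have h := TauThreeMover.centralizes_of_prime hG hM hsτ.2.1 hsτ.2.2.2 hSc (hSM.trans hE.1)
      (fixed_of_kappa hsκ hSc (hSM.trans hE.1)) hfo (hE.1 hfE)
      ((ComplementLines.compl_le_normalizer hG hM hE hsτ hSc hSM).1 hfE)
    have hfy : f ∈ Subgroup.normalizer (Subgroup.zpowers y : Set G) := by
      refine Subgroup.mem_normalizer_iff_map_conj_eq.2 (Cyclic.eq_of_card_eq_of_isCyclic
        (W := (⁅E, E⁆ : Subgroup G)) ?_ (Subgroup.zpowers_le.2 hyD)
        (Subgroup.card_map_of_injective (MulAut.conj f).injective))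
      rintro _ ⟨b, hb, rfl⟩
      exact (Subgroup.mem_normalizer_iff.1 hfn b).1 (Subgroup.zpowers_le.2 hyD hb)
    refine Subgroup.mem_centralizer_singleton_iff.2 (Eq.symm ?_)
    refine (UniqueAux.centralizes_cyclic_of_fixed (ne_two_of_dvd hG
      (hsd.trans (Subgroup.card_subgroup_dvd_card _))) (inferInstance : IsCyclic (Subgroup.zpowers y))
      (IsPGroup.of_card (n := j + 1) (by rw [Nat.card_zpowers, hj])) hfy ?_
      (c := y ^ s ^ j) (pow_mem (Subgroup.mem_zpowers y) _) (fun e1 => hs.ne_one (by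
        rw [← h0o, e1, orderOf_one])) ?_ y (Subgroup.mem_zpowers y)).eq
    · rw [hfo]
      exact (Nat.coprime_primes hq.out hs).2 fun e1 => hnd (e1 ▸ hsd)
    · exact (Subgroup.mem_centralizer_iff.1 h _ (Subgroup.mem_zpowers _)).symm
  refine commutatorElement_eq_one_iff_mul_comm.1 (orderOf_eq_one_iff.1 ?_)
  have hcD : ⁅e, f⁆ ∈ ⁅E, E⁆ := Subgroup.commutator_mem_commutator he hfE
  have hcf : Commute ⁅e, f⁆ f := Subgroup.mem_centralizer_iff.1 hfC _ hcD
  have h1 : orderOf ⁅e, f⁆ ∣ q := by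
    refine orderOf_dvd_of_pow_eq_one ?_
    have h2 : (⁅e, f⁆ * f) ^ q = (e * f * e⁻¹) ^ q := by
      rw [commutatorElement_def]
      group
    rwa [hcf.mul_pow, conj_pow, show f ^ q = 1 from hfo ▸ pow_orderOf_eq_one f, mul_one, mul_one,
      mul_inv_cancel] at h2
  refine ((Nat.dvd_prime hq.out).1 h1).resolve_right fun h3 => hnd ?_
  exact h3 ▸ Subgroup.orderOf_dvd_natCard _ hcD

omit hp in
/-- A Hall `κ(M)`-subgroup lies in a complement of `M_σ`, and equals it if all primes outside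
`σ(M)` are in `κ(M)`. -/
theorem exists_compl_of_hall (hG : Cfsg.IsMinSimpleOddOrder G) (hM : IsCoatom M) {K : Subgroup G}
    (hK : Cfsg.IsPiHallOf (Cfsg.kappa M) K M) :
    ∃ E : Subgroup G, Cfsg.IsComplIn E (Cfsg.sigmaCore M) M ∧ K ≤ E :=
  BetaDerived.exists_compl_ge hG hM hK.1 fun r hr hd => (hK.2.1 r hr hd).2.2.1

omit hp in
/-- A subgroup of `M` over a Hall `κ(M)`-subgroup `K` with all primes in `κ(M)` equals `K`. -/
theorem eq_of_le {K D : Subgroup G} (hK : Cfsg.IsPiHallOf (Cfsg.kappa M) K M) (hKD : K ≤ D)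
    (hDM : D ≤ M) (hD : ∀ q : ℕ, q.Prime → q ∣ Nat.card D → q ∈ Cfsg.kappa M) : D = K := by
  refine le_antisymm (Subgroup.relIndex_eq_one.1 ?_) hKD
  by_contra h1
  obtain ⟨q, hq, hd⟩ := Nat.exists_prime_and_dvd h1
  exact hK.2.2 q hq (hD q hq (hd.trans (Subgroup.relIndex_dvd_card _ _)))
    (hd.trans (Dvd.intro _ (Subgroup.relIndex_mul_relIndex K D M hKD hDM)))

omit hp in
/-- Either `κ(M) ⊆ τ₁(M)` or every prime outside `σ(M)` is in `κ(M)`. -/
theorem kappa_cases (hG : Cfsg.IsMinSimpleOddOrder G) (hM : IsCoatom M) :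
    Cfsg.kappa M ⊆ Cfsg.tau1 M ∨
      ∀ q : ℕ, q.Prime → q ∣ Nat.card M → q ∉ Cfsg.sigma M → q ∈ Cfsg.kappa M :=
  (em _).imp_right fun h => kappaTauThreeP1 hG M hM h

omit hp in
/-- For `κ(M) ⊆ τ₁(M)` a Hall `κ(M)`-subgroup is abelian. -/
theorem isMulCommutative_of_tau1 {K : Subgroup G}
    (hK : Cfsg.IsPiHallOf (Cfsg.kappa M) K M) (hsub : Cfsg.kappa M ⊆ Cfsg.tau1 M) :
    IsMulCommutative K := by
  refine ⟨⟨fun a b => Subtype.ext (commutatorElement_eq_one_iff_mul_comm.1 (Subgroup.mem_bot.1 ?_))⟩⟩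
  rw [← Basic.inf_eq_bot_of_coprime (A := K) (B := ⁅M, M⁆) (Nat.coprime_of_dvd fun r hr h1 h2 =>
    (hsub (hK.2.1 r hr h1)).2.2.2.1 h2)]
  refine Subgroup.mem_inf.2 ⟨?_, Subgroup.commutator_mem_commutator (hK.1 a.2) (hK.1 b.2)⟩
  rw [commutatorElement_def]
  exact mul_mem (mul_mem (mul_mem a.2 b.2) (inv_mem a.2)) (inv_mem b.2)

/-- The subgroups of prime order of a Hall `κ(M)`-subgroup are normal in it. -/
theorem le_normalizer_of_hall (hG : Cfsg.IsMinSimpleOddOrder G) (hM : IsCoatom M) {K : Subgroup G}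
    (hK : Cfsg.IsPiHallOf (Cfsg.kappa M) K M) {X : Subgroup G} (hXc : Nat.card X = p)
    (hXK : X ≤ K) : K ≤ Subgroup.normalizer (X : Set G) := by
  rcases kappa_cases hG hM with hsub | hall
  · haveI := isMulCommutative_of_tau1 hK hsub
    exact ((Subgroup.le_centralizer_iff_isMulCommutative.2 inferInstance).trans
      (Subgroup.centralizer_le (SetLike.coe_subset_coe.2 hXK))).trans
      (Subgroup.centralizer_le_normalizer _)
  obtain ⟨E, hE, hKE⟩ := exists_compl_of_hall hG hM hK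
  have hpκ := hK.2.1 p hp.out (hXc ▸ Subgroup.card_dvd_of_le hXK)
  rcases NonKappa.tau13_of_kappa hG hM hpκ with h1 | h3
  · intro e he
    refine Subgroup.centralizer_le_normalizer _ (Subgroup.mem_centralizer_iff.2 fun a ha => ?_)
    by_cases ha1 : a = 1
    · rw [ha1, one_mul, mul_one]
    refine (central_of_tau1 hG hM hall hE h1 (hKE (hXK ha)) ?_ (hKE he)).eq.symm
    rw [← Nat.card_zpowers, ComplementLines.zpowers_eq_of_card hXc ha ha1, hXc]
  · exact hKE.trans (ComplementLines.compl_le_normalizer hG hM hE h3 hXc (hXK.trans hKE)).1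

/-- `N_E(X) = K` for `X ≤ K` of prime order. -/
theorem inf_normalizer (hG : Cfsg.IsMinSimpleOddOrder G) (hM : IsCoatom M) {K E : Subgroup G}
    (hK : Cfsg.IsPiHallOf (Cfsg.kappa M) K M) (hE : Cfsg.IsComplIn E (Cfsg.sigmaCore M) M)
    (hKE : K ≤ E) {X : Subgroup G} (hXc : Nat.card X = p) (hXK : X ≤ K) :
    E ⊓ Subgroup.normalizer (X : Set G) = K := by
  have hKN := le_normalizer_of_hall hG hM hK hXc hXK
  have hpκ := hK.2.1 p hp.out (hXc ▸ Subgroup.card_dvd_of_le hXK)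
  refine eq_of_le hK (le_inf hKE hKN) (inf_le_left.trans hE.1) fun q hq hd => ?_
  haveI := Fact.mk hq
  by_contra hqκ
  have hqσ := OddTau.TauTwoAbelian.not_sigma_of_dvd hG hM hE hq
    (hd.trans (Subgroup.card_dvd_of_le inf_le_left))
  obtain ⟨⟨f, hfE, hfN⟩, hfo⟩ := exists_prime_orderOf_dvd_card'
    (G := ↥(E ⊓ Subgroup.normalizer (X : Set G))) q hd
  rw [← Subgroup.orderOf_coe] at hfo
  rcases kappa_cases hG hM with hsub | hall
  swap
  · exact hqκ (hall q hq (hfo ▸ Subgroup.orderOf_dvd_natCard M (hE.1 hfE)) hqσ)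
  refine false_of_commute hG hM hpκ hXc (hXK.trans hK.1) hqσ hqκ (hE.1 hfE) hfo
    (Subgroup.mem_centralizer_iff.2 fun a ha =>
      commutatorElement_eq_one_iff_mul_comm.1 (Subgroup.mem_bot.1 ?_))
  rw [← Basic.inf_eq_bot_of_coprime (A := X) (B := ⁅M, M⁆) (by
    rw [hXc]; exact hp.out.coprime_iff_not_dvd.2 (hsub hpκ).2.2.2.1)]
  refine Subgroup.mem_inf.2
    ⟨?_, Subgroup.commutator_mem_commutator (hK.1 (hXK ha)) (hE.1 hfE)⟩
  rw [commutatorElement_def, show a * f * a⁻¹ * f⁻¹ = a * (f * a⁻¹ * f⁻¹) by group]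
  exact mul_mem ha ((Subgroup.mem_normalizer_iff.1 hfN _).1 (inv_mem ha))

end Cfsg.Agent.Lib.OddOrder.BG14.KappaHall
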