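import Cfsg.Agent.Lib.OddOrder.BG14.TauTwoSigma
import Cfsg.Agent.Lib.OddOrder.SigmaDisjoint
import Cfsg.Agent.Lib.OddOrder.TauTwoFacts
import Cfsg.Agent.Lib.OddOrder.NonabelianFacts
import Cfsg.Agent.S1416
import Cfsg.Agent.Lib.OddFitting.Decomp

/-!
# BG 12.17: a maximal `L` over `N(⟨y⟩)`, `y` of order `q ∈ σ(M)`, `L ≠ M`
-/

set_option autoImplicit false
set_option linter.style.haveILetI false
set_option linter.unusedSectionVars false

open scoped Pointwise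

namespace Cfsg.Agent.Lib.OddOrder.BG14.NormalizerCompl

open Cfsg.Agent.Lib.OddOrder Cfsg.Agent.Lib.OddOrder.MinSimple

universe u

variable {G : Type u} [Group G] [Finite G] {M L : Subgroup G}

/-- `σ(M)` and `σ(L)` are disjoint for nonconjugate `M, L`. -/
theorem not_mem_sigma (hG : Cfsg.IsMinSimpleOddOrder G) (hM : IsCoatom M) (hL : IsCoatom L)
    (hnc : ∀ g : G, L ≠ M.map (MulAut.conj g).toMonoidHom) {q : ℕ} (hqM : q ∈ Cfsg.sigma M) :
    q ∉ Cfsg.sigma L := fun hqL => by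
  obtain ⟨g, hg⟩ := SigmaDisjoint.conj_of_sigma_inter (TauTwoFacts.tauTwo hG)
    (NonabelianFacts.nonabelianUnique hG) hG hM hL hqM hqL
  exact hnc g hg

/-- The facts 14.4 takes from BG 12.15-12.17. -/
structure Data (M L : Subgroup G) (q : ℕ) (y : G) : Prop where
  nc : ∀ g : G, L ≠ M.map (MulAut.conj g).toMonoidHom
  compl : Cfsg.IsComplIn (M ⊓ L) (Cfsg.sigmaCore L) L
  ctx : ∃ A : Subgroup G, OddTau.Basic.Ctx L q A ∧ A ≤ M ∧ y ∈ A

theorem spec (hG : Cfsg.IsMinSimpleOddOrder G) (hM : IsCoatom M) {q : ℕ} [hq : Fact q.Prime]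
    (hqσ : q ∈ Cfsg.sigma M) {y : G} (hyM : y ∈ M) (hyo : orderOf y = q) (hL : IsCoatom L)
    (hne : L ≠ M) (hNL : Subgroup.normalizer (Subgroup.zpowers y : Set G) ≤ L) : Data M L q y := by
  have h5 := TauTwoFacts.tauTwo hG
  set X := Subgroup.zpowers y with hX
  have hXq : IsPGroup q X := SigmaDisjoint.zpowers_isPGroup hyo
  have hy1 : y ≠ 1 := fun e => hq.out.ne_one (by rw [← hyo, e, orderOf_one])
  have hX1 : X ≠ ⊥ := by rwa [hX, Ne, Subgroup.zpowers_eq_bot]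
  have hXM : X ≤ M := Subgroup.zpowers_le.2 hyM
  have hXL : X ≤ L := Subgroup.le_normalizer.trans hNL
  have hnc := SigmaEmbedding.not_conj hG hM hqσ hXq hX1 hXM hXL
    ((Subgroup.centralizer_le_normalizer _).trans hNL) hne
  have hτ : q ∈ Cfsg.tau2 L :=
    (SigmaEmbedding.mem_sigma_or_tau2 hG hL hXq hX1 hNL).resolve_left (not_mem_sigma hG hM hL hnc hqσ)
  -- the Sylow subgroup of `M ∩ L` over `y` is Sylow in `L`
  obtain ⟨S₀, hS₀⟩ := (hXq.comap_subtype (K := M ⊓ L)).exists_le_sylow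
  set S := (S₀ : Subgroup ↥(M ⊓ L)).map (M ⊓ L).subtype with hS
  have hXS : X ≤ S := fun x hx => ⟨⟨x, hXM hx, hXL hx⟩,
    hS₀ (show (⟨x, hXM hx, hXL hx⟩ : ↥(M ⊓ L)) ∈ X.comap (M ⊓ L).subtype from hx), rfl⟩
  have hSp : IsPGroup q S := S₀.2.map _
  have hSD : S ≤ M ⊓ L := Subgroup.map_subtype_le _
  obtain ⟨-, hidx⟩ := SigmaEmbedding.sylow_inf hG hM hqσ hX1 hXS hNL hSp hSD
    fun R hR h hle => SigmaEmbedding.eq_of_sylow_of_le S₀ hR h hle
  have hSL : S ≤ L := hSD.trans inf_le_right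
  obtain ⟨P, hPS⟩ := OddFitting.Decomp.exists_sylow_eq hSL hSp hidx
  obtain ⟨E₀, hE₀⟩ := MaximalBasics.exists_compl hG hL
  obtain ⟨A₀, -, h₀⟩ := OddTau.TauTwoAbelian.exists_ctx hG hL hE₀ hτ
  obtain ⟨P', hAP⟩ := OddTau.Exceptional.exists_sylow_p h₀
  obtain ⟨m, hm⟩ := MulAction.exists_smul_eq L P' P
  set A := A₀.map (MulAut.conj (m : G)).toMonoidHom with hA
  have hAS : A ≤ S := by
    rw [← hPS]
    rintro _ ⟨a, ha, rfl⟩
    obtain ⟨a', ha', rfl⟩ := hAP ha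
    refine ⟨m * a' * m⁻¹, ?_, by simp⟩
    rw [← hm, Sylow.coe_subgroup_smul]
    exact ⟨a', ha', rfl⟩
  have h : OddTau.Basic.Ctx L q A := OddTau.Exceptional.ctx_conj h₀ (hAS.trans hSL)
  have hAM : A ≤ M := hAS.trans (hSD.trans inf_le_left)
  have hyA : y ∈ A := (OddTau.Sylow.pow_eq_one_iff h P (by rw [hPS]; exact hAS) y
    (by rw [hPS]; exact hXS (Subgroup.mem_zpowers y))).1 (hyo ▸ pow_orderOf_eq_one y)
  have hLσM : Cfsg.sigmaCore L ⊓ M = ⊥ := (h5 L hL q hτ A h.le h.elem h.card).2.2 M hM hne.symm hAM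
  have hCA : Subgroup.centralizer (A : Set G) ≤ M :=
    (Cfsg.Agent.S1416.result hG M hM q A ⟨hAM, h.elem, h.card⟩).1
  obtain ⟨Z, hZL, hLZ, hsup, hZ⟩ :=
    SigmaSubgroup.exists_factor h5 hG hM hqσ hXq hX1 hXM hL hne hNL
  have hqZ : ¬ q ∣ Nat.card Z := fun hd => not_mem_sigma hG hM hL hnc hqσ
    (AlphaCore.alpha_subset_sigma hG hL ((hZ q hq.out hd).resolve_right (not_not.2 hqσ.2.1)).1)
  have hZA : A ⊓ Z = ⊥ := Basic.inf_eq_bot_of_coprime (by
    rw [h.card]; exact ((hq.out.coprime_iff_not_dvd).2 hqZ).pow_left 2)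
  obtain ⟨F, hF, hAF⟩ := TauTwoSigma.exists_compl_ge hG hL h.le (TauTwoSigma.elemAb_sigma' h)
  have hZσ : Z ≤ Cfsg.sigmaCore L := SigmaSubgroup.le_sigmaCore hG hL hZL fun r hr hd => by
    by_contra hrσ
    haveI := Fact.mk hr
    have hrM : ¬ r ∣ Nat.card M := (hZ r hr hd).resolve_left fun hb =>
      hrσ (AlphaCore.alpha_subset_sigma hG hL hb.1)
    obtain ⟨z, hz⟩ := exists_prime_orderOf_dvd_card' (G := Z) r hd
    rw [← Subgroup.orderOf_coe] at hz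
    obtain ⟨g, hg, hgF⟩ := SigmaSubgroup.exists_conj_le_of_sup (solvable_of_ne_top hG hL.1)
      (OddTau.Basic.sigmaCore_le L) (OddTau.Basic.le_normalizer_sigmaCore L) hF.1
      (by rw [sup_comm]; exact Basic.isComplIn_sup hF) (Subgroup.zpowers_le.2 (hZL z.2))
      (π := {s | s ∉ Cfsg.sigma L}) (fun s hs hsd => by
        rw [Nat.card_zpowers, hz] at hsd
        exact (Nat.prime_dvd_prime_iff_eq hs hr).1 hsd ▸ hrσ)
      (fun s hs hsd hn => hn (OddTau.Basic.mem_sigma_of_dvd hs hsd))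
    set w := g * (z : G) * g⁻¹ with hw
    have hwF : w ∈ F := hgF ⟨z, Subgroup.mem_zpowers _, rfl⟩
    have hwZ : w ∈ Z := (Subgroup.mem_normalizer_iff.1 (hLZ hg) _).1 z.2
    have hwo : orderOf w = r := by
      rw [← hz]; exact orderOf_injective (MulAut.conj g).toMonoidHom (MulAut.conj g).injective _
    refine hrM ?_
    have hwM : w ∈ M := hCA (Subgroup.mem_centralizer_iff.2 fun a ha => by
      refine commutatorElement_eq_one_iff_mul_comm.1 (Subgroup.mem_bot.1 (hZA ▸ ⟨?_, ?_⟩))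
      · rw [commutatorElement_def, show a * w * a⁻¹ * w⁻¹ = a * (w * a⁻¹ * w⁻¹) by group]
        exact mul_mem ha ((Subgroup.mem_normalizer_iff.1
          (OddTau.Context.le_normalizer_of_compl h hF hAF hwF) _).1 (inv_mem ha))
      · rw [commutatorElement_def]
        exact Z.mul_mem ((Subgroup.mem_normalizer_iff.1 (hLZ (h.le ha)) _).1 hwZ) (Z.inv_mem hwZ))
    rw [← hwo, show w = ((⟨w, hwM⟩ : M) : G) from rfl, Subgroup.orderOf_coe]
    exact orderOf_dvd_natCard _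
  refine ⟨hnc, ⟨inf_le_right, OddTau.Basic.sigmaCore_le L, ?_, fun l hl => ?_⟩, A, h, hAM, hyA⟩
  · exact le_bot_iff.1 ((le_inf inf_le_right (inf_le_left.trans inf_le_left)).trans hLσM.le)
  · have hl' : l ∈ (M ⊓ L) ⊔ Cfsg.sigmaCore L := by
      refine (sup_le ?_ le_sup_left : Z ⊔ (M ⊓ L) ≤ (M ⊓ L) ⊔ Cfsg.sigmaCore L) (hsup.symm ▸ hl)
      exact hZσ.trans le_sup_right
    obtain ⟨a, ha, b, hb, e⟩ := Set.mem_mul.1 (by
      rw [← Subgroup.coe_mul_of_left_le_normalizer_right _ _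
        ((inf_le_right : M ⊓ L ≤ L).trans (OddTau.Basic.le_normalizer_sigmaCore L))]
      exact hl' : l ∈ ((M ⊓ L : Subgroup G) : Set G) * (Cfsg.sigmaCore L : Set G))
    exact ⟨a, ha, b, hb, e.symm⟩

end Cfsg.Agent.Lib.OddOrder.BG14.NormalizerCompl
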