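import Cfsg.Agent.Lib.OddOrder.BG14.NonKappa
import Cfsg.Agent.Lib.OddOrder.BG14.Conj

/-!
# BG 14: the primes of `τ₂(M)` lie in `σ(L)` for a maximal `L` over `N(A)`
-/

set_option autoImplicit false
set_option linter.style.haveILetI false
set_option linter.unusedSectionVars false

open scoped Pointwise

namespace Cfsg.Agent.Lib.OddOrder.BG14.TauTwoSigma

open Cfsg.Agent.Lib.OddOrder Cfsg.Agent.Lib.OddOrder.MinSimple

universe u

variable {G : Type u} [Group G] [Finite G] {M : Subgroup G}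

theorem map_conj_self {m : G} (hm : m ∈ M) : M.map (MulAut.conj m).toMonoidHom = M :=
  Subgroup.mem_normalizer_iff_map_conj_eq.1 (Subgroup.le_normalizer hm)

theorem map_conj_inv_map (g : G) (X : Subgroup G) :
    (X.map (MulAut.conj g).toMonoidHom).map (MulAut.conj g⁻¹).toMonoidHom = X := by
  rw [Subgroup.map_map]
  convert Subgroup.map_id X
  ext x
  simp [mul_assoc]

theorem map_conj_map_inv (g : G) (X : Subgroup G) :
    (X.map (MulAut.conj g⁻¹).toMonoidHom).map (MulAut.conj g).toMonoidHom = X := by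
  simpa using map_conj_inv_map g⁻¹ X

theorem map_conj_mul (a b : G) (X : Subgroup G) :
    X.map (MulAut.conj (a * b)).toMonoidHom =
      (X.map (MulAut.conj b).toMonoidHom).map (MulAut.conj a).toMonoidHom := by
  rw [Subgroup.map_map]
  congr 1
  ext x; simp [mul_assoc]

theorem compl_conj {E : Subgroup G} (hE : Cfsg.IsComplIn E (Cfsg.sigmaCore M) M) {m : G}
    (hm : m ∈ M) :
    Cfsg.IsComplIn (E.map (MulAut.conj m).toMonoidHom) (Cfsg.sigmaCore M) M := by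
  have h := PF8.Conj.isComplIn_im (MulAut.conj m) hE
  rwa [Conj.im_sigmaCore, PF8.Conj.im, PF8.Conj.im, map_conj_self hm] at h

/-- A `σ(M)'`-subgroup of `M` lies in a complement of `M_σ`. -/
theorem exists_compl_ge (hG : Cfsg.IsMinSimpleOddOrder G) (hM : IsCoatom M) {Y : Subgroup G}
    (hYM : Y ≤ M) (hY : ∀ q : ℕ, q.Prime → q ∣ Nat.card Y → q ∉ Cfsg.sigma M) :
    ∃ E : Subgroup G, Cfsg.IsComplIn E (Cfsg.sigmaCore M) M ∧ Y ≤ E := by
  obtain ⟨E, hE⟩ := MaximalBasics.exists_compl hG hM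
  obtain ⟨g, hg, hgE⟩ := SigmaSubgroup.exists_conj_le_of_sup (solvable_of_ne_top hG hM.1)
    (OddTau.Basic.sigmaCore_le M) (OddTau.Basic.le_normalizer_sigmaCore M) hE.1
    (by rw [sup_comm]; exact Basic.isComplIn_sup hE) hYM
    (π := {q | q ∉ Cfsg.sigma M}) (fun q hq hd => hY q hq hd)
    (fun q hq hd hn => hn (OddTau.Basic.mem_sigma_of_dvd hq hd))
  refine ⟨_, compl_conj hE (inv_mem hg), ?_⟩
  rw [← map_conj_inv_map g Y]
  exact Subgroup.map_mono hgE

theorem elemAb_sigma' {p : ℕ} [Fact p.Prime] {A : Subgroup G} (h : OddTau.Basic.Ctx M p A)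
    (q : ℕ) (hq : q.Prime) (hd : q ∣ Nat.card A) : q ∉ Cfsg.sigma M := by
  by_cases hqp : q = p
  · exact hqp ▸ h.not_sigma
  · exact absurd hd (h.not_dvd hq hqp)

/-- `τ₂(M) ⊆ σ(L)` for every maximal `L` over `N(A)`, `A` of type `(p, p)` with `p ∈ τ₂(M)`. -/
theorem tau2_subset_sigma {p : ℕ} [Fact p.Prime] {A : Subgroup G} (h : OddTau.Basic.Ctx M p A)
    {L : Subgroup G} (hL : IsCoatom L) (hNL : Subgroup.normalizer (A : Set G) ≤ L) :
    Cfsg.tau2 M ⊆ Cfsg.sigma L := by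
  have hG := h.min
  have hM := h.max
  have hAL : A ≤ L := Subgroup.le_normalizer.trans hNL
  have hpL : p ∈ Cfsg.sigma L := by
    refine (SigmaEmbedding.mem_sigma_or_tau2 hG hL h.isPGroup h.ne_bot hNL).resolve_right fun hτ => ?_
    obtain ⟨g, hg, hgL, -⟩ := OddTau.Unique.exists_moving
      (⟨hG, hL, hτ, hAL, h.elem, h.card⟩ : OddTau.Basic.Ctx L p A)
    exact hgL (hNL hg)
  intro q hqτ
  haveI := Fact.mk hqτ.1
  by_contra hqL
  obtain ⟨E, hE, hAE⟩ := exists_compl_ge hG hM h.le (elemAb_sigma' h)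
  obtain ⟨B, hBE, hB⟩ := OddTau.TauTwoAbelian.exists_ctx hG hM hE hqτ
  have hEL : E ≤ L := (OddTau.Context.le_normalizer_of_compl h hE hAE).trans hNL
  have hBL : B ≤ L := hBE.trans hEL
  have hr2 : Cfsg.PRankLE q 2 L := by
    by_contra hn
    exact hqL (AlphaCore.alpha_subset_sigma hG hL ⟨hqτ.1, hn⟩)
  have hr1 : ¬ Cfsg.PRankLE q 1 L := Rank.not_prankLE_of_elemAb hBL hB.elem (by
    rw [hB.card, pow_one]; exact lt_self_pow₀ hqτ.1.one_lt (by norm_num))
  have hB' : OddTau.Basic.Ctx L q B :=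
    ⟨hG, hL, ⟨hqτ.1, hqL, hr2, hr1⟩, hBL, hB.elem, hB.card⟩
  obtain ⟨F, hF, hBF⟩ := exists_compl_ge hG hL hBL (elemAb_sigma' hB')
  have hAF : A ≤ F := by
    rw [← OddTau.Context.inf_normalizer_eq hB' hF hBF]
    exact le_inf hAL (hAE.trans (OddTau.Context.le_normalizer_of_compl hB hE hBE))
  have hAσ : A ≤ Cfsg.sigmaCore L := SigmaSubgroup.le_sigmaCore hG hL hAL fun s hs hd => by
    rwa [Hall.prime_dvd_pgroup Fact.out hs h.isPGroup hd]
  exact h.ne_bot (le_bot_iff.1 (hF.2.2.1 ▸ le_inf hAF hAσ))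

/-- All of `τ₂(M)` lies in a single `σ(L)`. -/
theorem exists_sigma_tau2 (hG : Cfsg.IsMinSimpleOddOrder G) (hM : IsCoatom M)
    (hne : (Cfsg.tau2 M).Nonempty) :
    ∃ L : Subgroup G, IsCoatom L ∧ Cfsg.tau2 M ⊆ Cfsg.sigma L := by
  obtain ⟨p, hp⟩ := hne
  haveI := Fact.mk hp.1
  obtain ⟨E, hE⟩ := MaximalBasics.exists_compl hG hM
  obtain ⟨A, -, h⟩ := OddTau.TauTwoAbelian.exists_ctx hG hM hE hp
  obtain ⟨L, hL, hNL⟩ := exists_coatom_ge hG (normalizer_ne_top hG h.ne_bot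
    (pgroup_ne_top hG h.isPGroup))
  exact ⟨L, hL, tau2_subset_sigma h hL hNL⟩

end Cfsg.Agent.Lib.OddOrder.BG14.TauTwoSigma
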