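import Cfsg.Agent.Lib.OddTau.Regular
import Cfsg.Agent.Lib.OddOrder.SigmaDisjoint
import Cfsg.Agent.Lib.OddOrder.BG14.TauTwoSigma

/-!
# A regular cyclic subgroup of full exponent in a Sylow `p`-subgroup, `p ∈ τ₂(M)`
-/

set_option autoImplicit false
set_option linter.style.haveILetI false
set_option linter.unusedSectionVars false

open scoped Pointwise

namespace Cfsg.Agent.Lib.OddOrder.BG14.RegularCyclic

open Cfsg.Agent.Lib.OddOrder Cfsg.Agent.Lib.OddOrder.MinSimple Cfsg.Agent.Lib.OddTau.Basic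
  Cfsg.Agent.Lib.OddTau.TauTwoAbelian

universe u

variable {G : Type u} [Group G] [Finite G] {M A : Subgroup G} {p : ℕ} [hp : Fact p.Prime]

theorem orderOf_pow_top {u : G} {j : ℕ} (h : orderOf u = p ^ (j + 1)) :
    orderOf (u ^ p ^ j) = p := by
  rw [orderOf_pow_of_dvd (pow_ne_zero _ hp.out.ne_zero) (h ▸ pow_dvd_pow p j.le_succ), h, pow_succ,
    Nat.mul_div_cancel_left _ (Nat.pow_pos hp.out.pos)]

/-- The Sylow subgroup from the nonabelian data: the socle of an element of order `> p` avoids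
`⟨a⟩`. -/
theorem socle_notMem {S : _root_.Sylow p G} {z a g : G}
    (d : OddTau.NonabelianSylow.Data M p A S z a g) (P : _root_.Sylow p M)
    (hAP : A ≤ (P : Subgroup M).map M.subtype) (hPS : (P : Subgroup M).map M.subtype ≤ S)
    {y : G} (hy : y ∈ (P : Subgroup M).map M.subtype) (hya : y ^ p ∈ Subgroup.zpowers a) :
    y ^ p = 1 := by
  have h := d.ctx
  obtain ⟨j, hj⟩ := hya
  have hj' : a ^ j = y ^ p ^ (0 + 1) := by rw [zero_add, pow_one]; exact hj
  have huC := OddTau.NonabelianSylow.socle_mem_centralizer h P hAP S hPS hy (j := 0) (by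
    rw [← hj']; exact h.elem.2 _ (zpow_mem d.amem j))
  rw [← hj', Subgroup.mem_centralizer_iff] at huC
  obtain ⟨i, hi0, hi'⟩ := d.step
  have hju : g * a ^ j * g⁻¹ = a ^ j := by
    rw [huC g d.gmem, mul_inv_cancel_right]
  rw [← conj_zpow, hi', ((h.comm d.zmem d.amem).zpow_left i).mul_zpow, mul_eq_right,
    ← zpow_mul, ← orderOf_dvd_iff_zpow_eq_one, h.orderOf_eq d.zmem d.zne,
    ← ZMod.intCast_zmod_eq_zero_iff_dvd] at hju
  push_cast at hju
  have hj0 := (mul_eq_zero.1 hju).resolve_left hi0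
  rw [ZMod.intCast_zmod_eq_zero_iff_dvd] at hj0
  obtain ⟨c, rfl⟩ := hj0
  rw [zero_add, pow_one] at hj'
  rw [← hj', zpow_mul, zpow_natCast, h.elem.2 a d.amem, one_zpow]

/-- The property that is transported between the Sylow subgroups. -/
def Good (M : Subgroup G) (p : ℕ) (P : Subgroup G) : Prop :=
  ∃ w ∈ P, (∀ y ∈ P, y ^ orderOf w = 1) ∧ ∀ y ∈ Subgroup.zpowers w, orderOf y = p →
    Cfsg.sigmaCore M ⊓ Subgroup.centralizer ({y} : Set G) = ⊥

theorem good_conj {P : Subgroup G} (hP : Good M p P) {m : G} (hm : m ∈ M) :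
    Good M p (MulAut.conj m • P) := by
  obtain ⟨w, hw, hexp, hreg⟩ := hP
  have ho : orderOf (m * w * m⁻¹) = orderOf w :=
    orderOf_injective (MulAut.conj m).toMonoidHom (MulAut.conj m).injective w
  refine ⟨m * w * m⁻¹, Subgroup.smul_mem_pointwise_smul w (MulAut.conj m) _ hw, fun y hy => ?_,
    fun y hy hyo => ?_⟩
  · rw [Coprime.mem_conj_smul] at hy
    have h2 := hexp _ hy
    rw [ho]
    rw [show y = m * (m⁻¹ * y * m) * m⁻¹ by group, conj_pow, h2, mul_one, mul_inv_cancel]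
  · obtain ⟨i, rfl⟩ := hy
    simp only [conj_zpow] at hyo ⊢
    rw [Subgroup.eq_bot_iff_forall]
    rintro z ⟨hz, hzc⟩
    have hz' : m⁻¹ * z * m ∈ Cfsg.sigmaCore M ⊓ Subgroup.centralizer ({w ^ i} : Set G) := by
      refine ⟨?_, ?_⟩
      · have := (Subgroup.mem_normalizer_iff.1 (le_normalizer_sigmaCore M (inv_mem hm)) z).1 hz
        rwa [inv_inv] at this
      · refine Subgroup.mem_centralizer_singleton_iff.2 ?_
        replace hzc : z * (m * w ^ i * m⁻¹) = m * w ^ i * m⁻¹ * z :=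
          Subgroup.mem_centralizer_singleton_iff.1 hzc
        calc m⁻¹ * z * m * w ^ i = m⁻¹ * (z * (m * w ^ i * m⁻¹)) * m := by group
          _ = m⁻¹ * (m * w ^ i * m⁻¹ * z) * m := by rw [hzc]
          _ = w ^ i * (m⁻¹ * z * m) := by group
    rw [hreg _ ⟨i, rfl⟩ ((orderOf_injective (MulAut.conj m).toMonoidHom (MulAut.conj m).injective
      (w ^ i)).symm.trans hyo), Subgroup.mem_bot] at hz'
    rw [show z = m * (m⁻¹ * z * m) * m⁻¹ by group, hz', mul_one, mul_inv_cancel]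

/-- Every Sylow `p`-subgroup of `M` over some `A` has a regular cyclic subgroup of full exponent. -/
theorem good_of_sylow (h : Ctx M p A) (P : _root_.Sylow p M)
    (hAP : A ≤ (P : Subgroup M).map M.subtype)
    (hS : (∃ S : _root_.Sylow p G, IsMulCommutative (S : Subgroup G)) ∨
      ∃ (S : _root_.Sylow p G) (z a g : G), OddTau.NonabelianSylow.Data M p A S z a g ∧
        (P : Subgroup M).map M.subtype ≤ S) :
    Good M p ((P : Subgroup M).map M.subtype) := by
  set P₀ := (P : Subgroup M).map M.subtype with hP₀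
  haveI hPc : IsMulCommutative P₀ := OddTau.Abelian.sylow_comm h P hAP
  have hPp : IsPGroup p P₀ := P.2.map _
  have hPC : P₀ ≤ Subgroup.centralizer (A : Set G) :=
    (Subgroup.le_centralizer_iff_isMulCommutative.2 hPc).trans
      (Subgroup.centralizer_le (SetLike.coe_subset_coe.2 hAP))
  letI : CommGroup P₀ := { (inferInstance : Group P₀) with mul_comm := mul_comm' }
  obtain ⟨u₀, hu₀⟩ := Monoid.exists_orderOf_eq_exponent (G := P₀) Monoid.ExponentExists.of_finite
  obtain ⟨N, hN⟩ := IsPGroup.iff_card.1 hPp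
  obtain ⟨k, -, hk⟩ := (Nat.dvd_prime_pow hp.out).1
    ((orderOf_dvd_natCard u₀).trans (dvd_of_eq hN))
  have hexp : ∀ y ∈ P₀, y ^ p ^ k = 1 := fun y hy => by
    have h1 := Monoid.pow_exponent_eq_one (⟨y, hy⟩ : P₀)
    rw [← hu₀, hk] at h1
    simpa using congrArg Subtype.val h1
  obtain ⟨a₀, ha₀, ha₀1⟩ := A.bot_or_exists_ne_one.resolve_left h.ne_bot
  rcases k with _ | j
  · exact absurd (by simpa using hexp a₀ (hAP ha₀)) ha₀1
  have hu₀o : orderOf (u₀ : G) = p ^ (j + 1) := by rw [Subgroup.orderOf_coe, hk]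
  have htopA : ∀ v ∈ P₀, v ^ p ^ j ∈ A := fun v hv =>
    OddTau.Sylow.mem_of_centralizes h (hPC (pow_mem hv _)) (by
      rw [← pow_mul, ← pow_succ]; exact hexp v hv)
  -- an element whose socle is regular
  suffices hw : ∃ w ∈ P₀, w ^ p ^ j ≠ 1 ∧
      Cfsg.sigmaCore M ⊓ Subgroup.centralizer ({w ^ p ^ j} : Set G) = ⊥ by
    obtain ⟨w, hw, hw1, hreg⟩ := hw
    have hwo : orderOf w = p ^ (j + 1) := orderOf_eq_prime_pow hw1 (hexp w hw)
    refine ⟨w, hw, fun y hy => hwo ▸ hexp y hy, fun y hy hyo => ?_⟩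
    have heq : Subgroup.zpowers y = Subgroup.zpowers (w ^ p ^ j) :=
      Cyclic.eq_of_card_eq_of_isCyclic (W := Subgroup.zpowers w) (Subgroup.zpowers_le.2 hy)
        (Subgroup.zpowers_le.2 (pow_mem (Subgroup.mem_zpowers w) _))
        (by rw [Nat.card_zpowers, Nat.card_zpowers, hyo, orderOf_pow_top hwo])
    rwa [← SigmaDisjoint.centralizer_zpowers y, heq, SigmaDisjoint.centralizer_zpowers]
  set z := (u₀ : G) ^ p ^ j with hz
  have hz1 : z ≠ 1 := fun e => hp.out.ne_one (by rw [← orderOf_pow_top hu₀o, ← hz, e, orderOf_one])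
  by_cases htop : ∀ v ∈ P₀, v ^ p ^ j ∈ Subgroup.zpowers z
  · refine ⟨u₀, u₀.2, hz1, ?_⟩
    rcases hS with ⟨S₀, hS₀⟩ | ⟨S, z', a, g, d, hPS⟩
    · obtain ⟨S, hPS⟩ := hPp.exists_le_sylow
      have hab : IsMulCommutative (S : Subgroup G) :=
        ⟨⟨fun x y => (S.equiv S₀).injective (by rw [map_mul, map_mul]; exact hS₀.is_comm.comm _ _)⟩⟩
      obtain ⟨E, hE, hAE⟩ := TauTwoSigma.exists_compl_ge h.min h.max h.le
        (TauTwoSigma.elemAb_sigma' h)
      have hSE := (sylow_compl h hE hAE (hAP.trans hPS) hab).1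
      have hSP : (S : Subgroup G) = P₀ :=
        SigmaEmbedding.eq_of_sylow_of_le P S.2 hPS (hSE.trans hE.1)
      refine OddTau.PlaneLines.fixed_eq_bot_of_invariant h (htopA _ u₀.2) hz1 fun c hc => ?_
      rw [normalizer_eq h (hAP.trans hPS) hab, hSP] at hc
      show c * (u₀ : G) ^ p ^ j * c⁻¹ ∈ _
      rw [← conj_pow]
      exact htop _ ((Subgroup.mem_normalizer_iff.1 hc _).1 u₀.2)
    · rcases j with _ | i
      · exfalso
        refine h.not_isCyclic (Subgroup.isCyclic_of_le (H' := Subgroup.zpowers z) fun v hv => ?_)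
        simpa using htop v (hAP hv)
      · refine (d.outside (htopA _ u₀.2) fun hza => hz1 ?_).1
        have h2 : (u₀ : G) ^ p ^ (i + 1) = ((u₀ : G) ^ p ^ i) ^ p := by
          rw [← pow_mul, ← pow_succ]
        show (u₀ : G) ^ p ^ (i + 1) = 1
        rw [h2]
        exact socle_notMem d P hAP hPS (pow_mem u₀.2 _) (h2 ▸ hza)
  · push Not at htop
    obtain ⟨v, hv, hvz⟩ := htop
    obtain ⟨A₁, hA₁, hA₁c, hA₁f⟩ := OddTau.Context.exists_fixed_point_free h
    obtain ⟨b, hb, hb1⟩ := A₁.bot_or_exists_ne_one.resolve_left fun e' => hp.out.ne_one (by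
      rw [← hA₁c, e', Subgroup.card_bot])
    have hA₁eq : Subgroup.zpowers b = A₁ := Subgroup.eq_of_le_of_card_ge
      (Subgroup.zpowers_le.2 hb) (by rw [Nat.card_zpowers, h.orderOf_eq (hA₁ hb) hb1, hA₁c])
    obtain ⟨s, t, hst⟩ :=
      OddTau.NonabelianSylow.exists_eq_zpow_mul h (htopA _ u₀.2) hz1 (htopA v hv) hvz (hA₁ hb)
    have hlift : ((u₀ : G) ^ s * v ^ t) ^ p ^ j = b := by
      rw [hst, (show Commute (u₀ : G) v from
        setLike_mul_comm (s := P₀) u₀.2 hv).zpow_zpow s t |>.mul_pow,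
        ← zpow_natCast ((u₀ : G) ^ s), ← zpow_natCast (v ^ t), ← zpow_mul, ← zpow_mul,
        mul_comm s, mul_comm t, zpow_mul, zpow_mul, zpow_natCast, zpow_natCast]
    refine ⟨(u₀ : G) ^ s * v ^ t, mul_mem (zpow_mem u₀.2 s) (zpow_mem hv t), hlift ▸ hb1, ?_⟩
    rw [hlift, ← SigmaDisjoint.centralizer_zpowers b, hA₁eq]
    exact hA₁f

/-- Every Sylow `p`-subgroup of `M`, `p ∈ τ₂(M)`, has a regular cyclic subgroup of full exponent. -/
theorem good (hG : Cfsg.IsMinSimpleOddOrder G) (hM : IsCoatom M) (hτ : p ∈ Cfsg.tau2 M)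
    (Q : _root_.Sylow p M) : Good M p ((Q : Subgroup M).map M.subtype) := by
  obtain ⟨E, hE⟩ := MaximalBasics.exists_compl hG hM
  obtain ⟨A, -, h⟩ := exists_ctx hG hM hE hτ
  suffices hP : ∃ P : _root_.Sylow p M, Good M p ((P : Subgroup M).map M.subtype) by
    obtain ⟨P, hP⟩ := hP
    obtain ⟨m, hm, hmQ⟩ := Coprime.exists_conj_sylow_map P Q
    exact hmQ ▸ good_conj hP hm
  by_cases hS : ∃ S : _root_.Sylow p G, IsMulCommutative (S : Subgroup G)
  · obtain ⟨P, hAP⟩ := OddTau.Exceptional.exists_sylow_p h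
    exact ⟨P, good_of_sylow h P hAP (Or.inl hS)⟩
  · push Not at hS
    obtain ⟨S, z, a, g, d⟩ := OddTau.NonabelianSylow.exists_data h hS
    obtain ⟨P, hAP, hPS⟩ := d.sylow
    exact ⟨P, good_of_sylow h P hAP (Or.inr ⟨S, z, a, g, d, hPS⟩)⟩

end Cfsg.Agent.Lib.OddOrder.BG14.RegularCyclic
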