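import Cfsg.Agent.Lib.OddOrder.BG14.ElementDichotomy
import Cfsg.Agent.Lib.OddOrder.BG14.NormalizerCompl

/-!
# BG 14.4: the normal complement `R(x)` of `C_M(x)` in `C_G(x)`
-/

set_option autoImplicit false
set_option linter.style.haveILetI false
set_option linter.unusedSectionVars false

open scoped Pointwise

namespace Cfsg.Agent.Lib.OddOrder.BG14.Support

open Cfsg.Agent.Lib.OddOrder Cfsg.Agent.Lib.OddOrder.MinSimple
  Cfsg.Agent.Lib.OddOrder.BG14.ElementDichotomy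

universe u

variable {G : Type u} [Group G] [Finite G] {M N : Subgroup G} {x : G}

/-- The conclusions of BG 14.4 for `x ∈ M_σ` with `C(x) ⊄ M` and the maximal `N ≥ C(x)`. -/
structure Spec (M N : Subgroup G) (x : G) : Prop where
  max : IsCoatom N
  le : Subgroup.centralizer ({x} : Set G) ≤ N
  uniq : ∀ L : Subgroup G, IsCoatom L → Subgroup.centralizer ({x} : Set G) ≤ L → L = N
  nc : ∀ g : G, N ≠ M.map (MulAut.conj g).toMonoidHom
  tau2 : ∀ p : ℕ, p.Prime → p ∣ orderOf x → p ∈ Cfsg.tau2 N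
  notMem : x ∉ Cfsg.sigmaCore N
  nilp : Group.IsNilpotent (Cfsg.sigmaCore N)
  core_eq : Cfsg.sigmaCore N = Cfsg.fittingHallOf N
  compl : Cfsg.IsComplIn (M ⊓ N) (Cfsg.sigmaCore N) N
  complC : Cfsg.IsComplIn (M ⊓ Subgroup.centralizer ({x} : Set G))
    (Cfsg.sigmaCore N ⊓ Subgroup.centralizer ({x} : Set G)) (Subgroup.centralizer ({x} : Set G))
  fixed : Cfsg.sigmaCore N ⊓ Subgroup.centralizer ({x} : Set G) ≠ ⊥
  ctx : ∀ q : ℕ, q.Prime → q ∣ orderOf x → ∃ A : Subgroup G, A ≤ M ⊓ N ∧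
    Cfsg.IsElementaryAbelian q A ∧ Nat.card A = q ^ 2 ∧ x ^ (orderOf x / q) ∈ A

theorem centralizer_le_pow (x : G) (n : ℕ) :
    Subgroup.centralizer ({x} : Set G) ≤ Subgroup.centralizer ({x ^ n} : Set G) := fun c hc =>
  Subgroup.mem_centralizer_singleton_iff.2
    ((show Commute c x from Subgroup.mem_centralizer_singleton_iff.1 hc).pow_right n).eq

theorem centralizer_le_normalizer_zpowers (x : G) :
    Subgroup.centralizer ({x} : Set G) ≤ Subgroup.normalizer (Subgroup.zpowers x : Set G) :=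
  (SigmaDisjoint.centralizer_zpowers x).ge.trans (Subgroup.centralizer_le_normalizer _)

/-- An element of `M_σ` of order divisible by `q` has `q ∈ σ(M)`. -/
theorem mem_sigma {q : ℕ} (hx : x ∈ Cfsg.sigmaCore M) (hq : q.Prime) (hd : q ∣ orderOf x) :
    q ∈ Cfsg.sigma M := OddTau.Basic.mem_sigma_of_dvd hq (hd.trans (by
  rw [show x = ((⟨x, hx⟩ : Cfsg.sigmaCore M) : G) from rfl, Subgroup.orderOf_coe]
  exact orderOf_dvd_natCard _))

/-- A maximal subgroup over `N(⟨y⟩)`, `y` of prime order in `⟨x⟩`. -/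
theorem exists_over (hG : Cfsg.IsMinSimpleOddOrder G) (hM : IsCoatom M)
    (hx : x ∈ Cfsg.sigmaCore M) (hxM : ¬ Subgroup.centralizer ({x} : Set G) ≤ M) {q : ℕ}
    (hq : q.Prime) (hd : q ∣ orderOf x) :
    ∃ L : Subgroup G, IsCoatom L ∧ Subgroup.centralizer ({x ^ (orderOf x / q)} : Set G) ≤ L ∧
      NormalizerCompl.Data M L q (x ^ (orderOf x / q)) := by
  haveI := Fact.mk hq
  obtain ⟨hyo, hy⟩ := pow_prime_mem hd
  set y := x ^ (orderOf x / q) with hydef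
  have hy1 : Subgroup.zpowers y ≠ ⊥ := by
    rw [Ne, Subgroup.zpowers_eq_bot]
    exact fun e => hq.ne_one (by rw [← hyo, e, orderOf_one])
  obtain ⟨L, hL, hNL⟩ := exists_coatom_ge hG (normalizer_ne_top hG hy1
    (pgroup_ne_top hG (SigmaDisjoint.zpowers_isPGroup hyo)))
  have hCL := (centralizer_le_normalizer_zpowers y).trans hNL
  refine ⟨L, hL, hCL, NormalizerCompl.spec hG hM (mem_sigma hx hq hd)
    (Subgroup.zpowers_le.2 (OddTau.Basic.sigmaCore_le M hx) hy) hyo hL (fun e => hxM ?_) hNL⟩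
  exact (centralizer_le_pow x _).trans (e ▸ hCL)

/-- In a complement decomposition, the centralizer of an element of `A` factorizes. -/
theorem factor_centralizer {A B : Subgroup G} (h : Cfsg.IsComplIn A B N)
    (hBn : N ≤ Subgroup.normalizer (B : Set G)) (hxA : x ∈ A) {c : G} (hc : c ∈ N)
    (hcx : Commute c x) : ∃ a ∈ A, ∃ b ∈ B, c = a * b ∧ Commute a x ∧ Commute b x := by
  obtain ⟨a, ha, b, hb, rfl⟩ := h.2.2.2 c hc
  have hxb : x * b * x⁻¹ ∈ B := (Subgroup.mem_normalizer_iff.1 (hBn (h.1 hxA)) b).1 hb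
  have heq : a⁻¹ * (x * a * x⁻¹) = b * (x * b * x⁻¹)⁻¹ := by
    rw [inv_mul_eq_iff_eq_mul]
    calc x * a * x⁻¹ = x * (a * b) * x⁻¹ * (x * b * x⁻¹)⁻¹ := by group
      _ = a * b * (x * b * x⁻¹)⁻¹ := by rw [← hcx.eq, mul_inv_cancel_right]
      _ = a * (b * (x * b * x⁻¹)⁻¹) := by rw [mul_assoc]
  have h1 : b * (x * b * x⁻¹)⁻¹ = 1 := Subgroup.mem_bot.1 (h.2.2.1 ▸
    ⟨heq ▸ A.mul_mem (A.inv_mem ha) (A.mul_mem (A.mul_mem hxA ha) (A.inv_mem hxA)),
      B.mul_mem hb (B.inv_mem hxb)⟩)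
  have hb' : Commute b x := (mul_inv_eq_iff_eq_mul.1 (mul_inv_eq_one.1 h1).symm).symm
  refine ⟨a, ha, b, hb, rfl, ?_, hb'⟩
  have := hcx.mul_left hb'.inv_left
  rwa [mul_inv_cancel_right] at this

/-- BG 14.4. -/
theorem exists_spec (h2 : TypePFixed G) (hG : Cfsg.IsMinSimpleOddOrder G) (hM : IsCoatom M)
    (hx : x ∈ Cfsg.sigmaCore M) (hx1 : x ≠ 1) (hxM : ¬ Subgroup.centralizer ({x} : Set G) ≤ M) :
    ∃ N, Spec M N x := by
  obtain ⟨q, hq, hd⟩ := Nat.exists_prime_and_dvd fun e => hx1 (orderOf_eq_one_iff.1 e)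
  haveI := Fact.mk hq
  obtain ⟨L, hL, hCyL, hdata⟩ := exists_over hG hM hx hxM hq hd
  obtain ⟨A₀, hA₀, -, -⟩ := hdata.ctx
  have hCL : Subgroup.centralizer ({x} : Set G) ≤ L := (centralizer_le_pow x _).trans hCyL
  have hxL : x ∈ L := hCL (Subgroup.mem_centralizer_singleton_iff.2 rfl)
  have hxMM : x ∈ M := OddTau.Basic.sigmaCore_le M hx
  have hxA : x ∈ M ⊓ L := ⟨hxMM, hxL⟩
  have hσ : ∀ p : ℕ, p.Prime → p ∣ orderOf x → p ∉ Cfsg.sigma L := fun p hp hpd =>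
    NormalizerCompl.not_mem_sigma hG hM hL hdata.nc (mem_sigma hx hp hpd)
  have hfac : ∀ c ∈ Subgroup.centralizer ({x} : Set G),
      ∃ a ∈ M ⊓ Subgroup.centralizer ({x} : Set G),
      ∃ b ∈ Cfsg.sigmaCore L ⊓ Subgroup.centralizer ({x} : Set G), c = a * b := fun c hc => by
    obtain ⟨a, ha, b, hb, e, hax, hbx⟩ := factor_centralizer hdata.compl
      (OddTau.Basic.le_normalizer_sigmaCore L) hxA (hCL hc)
      (Subgroup.mem_centralizer_singleton_iff.1 hc)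
    exact ⟨a, ⟨ha.1, Subgroup.mem_centralizer_singleton_iff.2 hax.eq⟩,
      b, ⟨hb, Subgroup.mem_centralizer_singleton_iff.2 hbx.eq⟩, e⟩
  have hfixed : Cfsg.sigmaCore L ⊓ Subgroup.centralizer ({x} : Set G) ≠ ⊥ := fun e => hxM fun c hc => by
    obtain ⟨a, ha, b, hb, rfl⟩ := hfac c hc
    rw [e, Subgroup.mem_bot] at hb
    rw [hb, mul_one]
    exact ha.1
  obtain ⟨z, hz, hz1⟩ := (Subgroup.bot_or_exists_ne_one _).resolve_left hfixed
  rcases dichotomy h2 hG hL hz.1 hz1 (x' := x) ⟨hxL, Subgroup.mem_centralizer_singleton_iff.2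
      (Subgroup.mem_centralizer_singleton_iff.1 hz.2).symm⟩ hx1 hσ with
    ⟨hκ, -⟩ | ⟨hτ, -, -, huniq⟩
  · exact absurd hA₀.tau (NonKappa.not_tau2_of_kappa (hκ q hq hd))
  have hnil := OddTau.Exceptional.isNilpotent_sigmaCore hA₀
  refine ⟨L, hL, hCL, huniq, hdata.nc, hτ, fun hxσ => hσ q hq hd (mem_sigma hxσ hq hd), hnil,
    (OddFitting.Decomp.fittingHallOf_eq_of_isNilpotent hG hL hnil).symm, hdata.compl,
    ⟨inf_le_right, inf_le_right, ?_, hfac⟩, hfixed, fun p hp hpd => ?_⟩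
  · refine le_bot_iff.1 (le_trans ?_ hdata.compl.2.2.1.le)
    exact le_inf (le_inf (inf_le_left.trans inf_le_left) ((inf_le_left.trans inf_le_right).trans hCL))
      (inf_le_right.trans inf_le_left)
  · obtain ⟨L', hL', hC', hdata'⟩ := exists_over hG hM hx hxM hp hpd
    obtain rfl := huniq L' hL' ((centralizer_le_pow x _).trans hC')
    obtain ⟨A, hA, hAM, hyA⟩ := hdata'.ctx
    exact ⟨A, le_inf hAM hA.le, hA.elem, hA.card, hyA⟩

theorem spec_of (h2 : TypePFixed G) (hG : Cfsg.IsMinSimpleOddOrder G) (hM : IsCoatom M)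
    (hx : x ∈ Cfsg.sigmaCore M) (hx1 : x ≠ 1) (hxM : ¬ Subgroup.centralizer ({x} : Set G) ≤ M)
    (hN : IsCoatom N) (hxN : Subgroup.centralizer ({x} : Set G) ≤ N) : Spec M N x := by
  obtain ⟨N₀, h⟩ := exists_spec h2 hG hM hx hx1 hxM
  exact h.uniq N hN hxN ▸ h

theorem Spec.le_normalizer (h : Spec M N x) : Subgroup.centralizer ({x} : Set G) ≤
    Subgroup.normalizer ((Cfsg.sigmaCore N ⊓ Subgroup.centralizer ({x} : Set G) : Subgroup G) : Set G) :=
  Coprime.le_normalizer_inf (h.le.trans (OddTau.Basic.le_normalizer_sigmaCore N)) Subgroup.le_normalizer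

/-- `supportR` is `C_{N_σ}(x)`. -/
theorem Spec.supportR_eq (h : Spec M N x) (hxM : ¬ Subgroup.centralizer ({x} : Set G) ≤ M) :
    Cfsg.supportR M x = Cfsg.sigmaCore N ⊓ Subgroup.centralizer ({x} : Set G) := by
  classical
  have hex : ¬ Subgroup.centralizer ({x} : Set G) ≤ M ∧
      ∃! L : Subgroup G, IsCoatom L ∧ Subgroup.centralizer ({x} : Set G) ≤ L :=
    ⟨hxM, N, ⟨h.max, h.le⟩, fun L hL => h.uniq L hL.1 hL.2⟩
  rw [Cfsg.supportR, dif_pos hex]
  obtain ⟨h1, h2⟩ := Classical.choose_spec hex.2.exists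
  rw [h.uniq _ h1 h2, ← h.core_eq]

theorem supportR_of_le (hxM : Subgroup.centralizer ({x} : Set G) ≤ M) : Cfsg.supportR M x = ⊥ := by
  classical
  rw [Cfsg.supportR, dif_neg fun h => h.1 hxM]

/-- `C(x)` is transitive on the conjugates of `M` through `x ∈ M_σ` (BG 14.4(a)). -/
theorem exists_centralizer_conj (hG : Cfsg.IsMinSimpleOddOrder G) (hM : IsCoatom M)
    (hx : x ∈ Cfsg.sigmaCore M) (hx1 : x ≠ 1) {g : G} (hg : x ∈ M.map (MulAut.conj g).toMonoidHom) :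
    ∃ c ∈ Subgroup.centralizer ({x} : Set G),
      M.map (MulAut.conj c).toMonoidHom = M.map (MulAut.conj g).toMonoidHom := by
  obtain ⟨q, hq, hd⟩ := Nat.exists_prime_and_dvd fun e => hx1 (orderOf_eq_one_iff.1 e)
  haveI := Fact.mk hq
  obtain ⟨hyo, hy⟩ := pow_prime_mem hd
  set y := x ^ (orderOf x / q) with hydef
  have hxg : g⁻¹ * x * g ∈ M := by
    obtain ⟨m, hm, he⟩ := hg
    rw [← show g * m * g⁻¹ = x from he]
    simpa [mul_assoc] using hm
  have hyM : (Subgroup.zpowers y).map (MulAut.conj g⁻¹).toMonoidHom ≤ M := by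
    rw [Subgroup.map_le_iff_le_comap, Subgroup.zpowers_le]
    refine Subgroup.zpowers_le.2 ?_ hy
    simpa using hxg
  obtain ⟨m, hm, c, hc, hgmc⟩ := (Sigma.fusion_and_normalizer hG hM (mem_sigma hx hq hd)
    (SigmaDisjoint.zpowers_isPGroup hyo) (by
      rw [Ne, Subgroup.zpowers_eq_bot]
      exact fun e => hq.ne_one (by rw [← hyo, e, orderOf_one]))
    (Subgroup.zpowers_le.2 (Subgroup.zpowers_le.2 (OddTau.Basic.sigmaCore_le M hx) hy))).1 g⁻¹ hyM
  rw [SigmaDisjoint.centralizer_zpowers] at hc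
  have hMg : M.map (MulAut.conj g).toMonoidHom = M.map (MulAut.conj c⁻¹).toMonoidHom := by
    have e : g = c⁻¹ * m⁻¹ := by rw [← mul_inv_rev, ← hgmc, inv_inv]
    conv_lhs => rw [e]
    rw [TauTwoSigma.map_conj_mul, TauTwoSigma.map_conj_self (inv_mem hm)]
  by_cases hxM : Subgroup.centralizer ({y} : Set G) ≤ M
  · refine ⟨1, one_mem _, ?_⟩
    rw [hMg, TauTwoSigma.map_conj_self (inv_mem (hxM hc))]
    exact TauTwoSigma.map_conj_self (one_mem M)
  have hy1 : Subgroup.zpowers y ≠ ⊥ := by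
    rw [Ne, Subgroup.zpowers_eq_bot]
    exact fun e => hq.ne_one (by rw [← hyo, e, orderOf_one])
  obtain ⟨L, hL, hNL⟩ := exists_coatom_ge hG (normalizer_ne_top hG hy1
    (pgroup_ne_top hG (SigmaDisjoint.zpowers_isPGroup hyo)))
  have hCL := (centralizer_le_normalizer_zpowers y).trans hNL
  have hdata := NormalizerCompl.spec hG hM (mem_sigma hx hq hd)
    (Subgroup.zpowers_le.2 (OddTau.Basic.sigmaCore_le M hx) hy) hyo hL (fun e => hxM (e ▸ hCL)) hNL
  obtain ⟨z, hz, e, he, hce⟩ := (Basic.isComplIn_symm hdata.compl).2.2.2 c⁻¹ (hCL (inv_mem hc))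
  refine ⟨z, Subgroup.mem_centralizer_singleton_iff.2 ?_, ?_⟩
  · have hxL : x ∈ L := hCL (centralizer_le_pow x _ (Subgroup.mem_centralizer_singleton_iff.2 rfl))
    have hxz : z⁻¹ * x * z ∈ M := by
      have h1 : c * x * c⁻¹ ∈ M := by
        have h2 : c * x * c⁻¹ = m⁻¹ * (g⁻¹ * x * g) * m := by
          rw [hgmc, show g = c⁻¹ * m⁻¹ by rw [← mul_inv_rev, ← hgmc, inv_inv]]; group
        rw [h2]; exact mul_mem (mul_mem (inv_mem hm) hxg) hm
      have h3 : z⁻¹ * x * z = e * (c * x * c⁻¹) * e⁻¹ := by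
        rw [show c = e⁻¹ * z⁻¹ by rw [← mul_inv_rev, ← hce, inv_inv]]; group
      rw [h3]; exact mul_mem (mul_mem he.1 h1) (inv_mem he.1)
    have h4 : z⁻¹ * x * z * x⁻¹ = 1 := Subgroup.mem_bot.1 (hdata.compl.2.2.1 ▸
      ⟨⟨M.mul_mem hxz (M.inv_mem (OddTau.Basic.sigmaCore_le M hx)),
        L.mul_mem (L.mul_mem (L.mul_mem (L.inv_mem (OddTau.Basic.sigmaCore_le L hz)) hxL)
          (OddTau.Basic.sigmaCore_le L hz)) (L.inv_mem hxL)⟩,
       by
        rw [show z⁻¹ * x * z * x⁻¹ = z⁻¹ * (x * z * x⁻¹) by group]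
        exact (Cfsg.sigmaCore L).mul_mem ((Cfsg.sigmaCore L).inv_mem hz) ((Subgroup.mem_normalizer_iff.1
          (OddTau.Basic.le_normalizer_sigmaCore L hxL) z).1 hz)⟩)
    have h5 : z⁻¹ * x * z = x := mul_inv_eq_one.1 h4
    calc z * x = z * (z⁻¹ * x * z) := by rw [h5]
      _ = x * z := by group
  · rw [hMg, hce]
    symm
    rw [TauTwoSigma.map_conj_mul, TauTwoSigma.map_conj_self he.1]

end Cfsg.Agent.Lib.OddOrder.BG14.Support
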